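import Cfsg.Agent.CGT.Out2

set_option autoImplicit false

/-! Splitting list tests into pieces. -/

namespace Cfsg.Agent.CGT

theorem forall_take_zero {α : Type} {p : α → Prop} (l : List α) : ∀ x ∈ l.take 0, p x := by simp

theorem forall_take_step {α : Type} {p : α → Prop} {l : List α} {a b c : ℕ}
    (h : ∀ x ∈ l.take a, p x) (h' : ∀ x ∈ (l.drop a).take b, p x) (e : Nat.beq (a + b) c = true) :
    ∀ x ∈ l.take c, p x := by
  rw [← Nat.eq_of_beq_eq_true e, List.take_add]
  exact forall_mem_append' h h'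

theorem forall_of_take {α : Type} {p : α → Prop} {l : List α} {a : ℕ}
    (h : ∀ x ∈ l.take a, p x) (hl : Nat.ble l.length a = true) : ∀ x ∈ l, p x := by
  rwa [List.take_of_length_le (Nat.le_of_ble_eq_true hl)] at h

/-- A surjective endomorphism given by words is an automorphism. -/
theorem exists_aut' {G : Type*} [Group G] [Finite G] {φ : G →* Equiv.Perm ℕ} {γ : ℕ → G} {k : ℕ}
    {ns : List Net} {ts : List Tab}
    (M : Model φ γ k ns ts) {B : List ℕ} (hB : IsBase φ ⊤ B) (hp : ptsOK k B = true) {L : List ℕ}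
    (hL : gp γ L = ⊤) {W V : List (List ℕ)} (f : G →* G) (hf : ∀ j, f (γ j) = wg γ W j)
    (h : (allL L fun a => eqB k ts B (expand (dbl W) (nth [] V (Nat.div a 2))) [a]) = true) :
    ∃ β : MulAut G, ∀ j, β (γ j) = wg γ W j := by
  have h1 : Function.Surjective f := by
    rw [← MonoidHom.range_eq_top, eq_top_iff, ← hL]
    refine gp_le fun a ha => ?_
    have := eqB_sound M hB hp trivial trivial (allL_iff.1 h a ha)
    rw [← map_ev_wg hf, ev_singleton] at this
    exact ⟨_, this⟩
  exact ⟨MulEquiv.ofBijective f ⟨Finite.injective_iff_surjective.2 h1, h1⟩, hf⟩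

end Cfsg.Agent.CGT
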