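import Cfsg.Agent.CGT.Glue

set_option autoImplicit false
set_option linter.style.haveILetI false

/-! Permutation models from actions; the packaged certificate. -/

namespace Cfsg.Agent.CGT

open Equiv

variable {G : Type*} [Group G]

/-- A homomorphism to permutations from a relation which is compatible with products. -/
theorem exists_hom_rel {γ : ℕ → G} {L : List ℕ} (hgen : gp γ L = ⊤) {N : ℕ} {p : ℕ → Perm ℕ}
    (r : G → ℕ → ℕ → Prop) (h1 : ∀ i < N, r 1 i i)
    (hmul : ∀ x y i j l, i < N → j < N → l < N → r y i j → r x j l → r (x * y) i l)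
    (hinv : ∀ x i j, i < N → j < N → r x i j → r x⁻¹ j i)
    (huniq : ∀ i j, i < N → j < N → r 1 i j → i = j)
    (hfix : ∀ j, p j ∈ bddPerm N) (hact : ∀ j, ∀ i < N, r (γ j) i (p j i)) :
    ∃ φ : G →* Perm ℕ, (∀ j, φ (γ j) = p j) ∧ ∀ g, φ g ∈ bddPerm N ∧ ∀ i < N, r g i (φ g i) := by
  let S : Subgroup (G × Perm ℕ) :=
    { carrier := {z | z.2 ∈ bddPerm N ∧ ∀ i < N, r z.1 i (z.2 i)}
      one_mem' := ⟨(bddPerm N).one_mem, h1⟩
      mul_mem' := fun {a b} ha hb => ⟨(bddPerm N).mul_mem ha.1 hb.1, fun i hi =>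
        hmul _ _ _ _ _ hi (bddPerm_lt hb.1 hi) (bddPerm_lt ha.1 (bddPerm_lt hb.1 hi)) (hb.2 i hi)
          (ha.2 _ (bddPerm_lt hb.1 hi))⟩
      inv_mem' := fun {a} ha => ⟨(bddPerm N).inv_mem ha.1, fun i hi => by
        have h2 := bddPerm_lt ((bddPerm N).inv_mem ha.1) hi
        have h3 := ha.2 _ h2
        rw [perm_apply_inv] at h3
        exact hinv _ _ _ h2 hi h3⟩ }
  let f : S →* G := (MonoidHom.fst _ _).comp S.subtype
  have hinj : Function.Injective f := by
    rw [injective_iff_map_eq_one]
    rintro ⟨⟨g, q⟩, h2, h3⟩ e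
    have e' : g = 1 := e
    subst e'
    apply Subtype.ext
    refine Prod.ext rfl (Equiv.ext fun i => ?_)
    by_cases hi : i < N
    · exact (huniq _ _ hi (bddPerm_lt h2 hi) (h3 i hi)).symm
    · exact h2 i (by omega)
  have hsurj : Function.Surjective f := by
    rw [← MonoidHom.range_eq_top, eq_top_iff, ← hgen]
    exact gp_le fun a _ => ext_mem ⟨⟨(γ (a / 2), p (a / 2)), hfix _, hact _⟩, rfl⟩
  let e := MulEquiv.ofBijective f ⟨hinj, hsurj⟩
  refine ⟨((MonoidHom.snd _ _).comp S.subtype).comp e.symm.toMonoidHom, fun j => ?_, fun g => ?_⟩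
  · have : e.symm (γ j) = ⟨(γ j, p j), hfix _, hact _⟩ := by
      rw [MulEquiv.symm_apply_eq]; rfl
    show (e.symm (γ j)).1.2 = _
    rw [this]
  · have h2 := (e.symm g).2
    have h3 : (e.symm g).1.1 = g := e.apply_symm_apply g
    refine ⟨h2.1, fun i hi => ?_⟩
    have := h2.2 i hi
    rwa [h3] at this

/-- The model given by an invariant list of points. -/
theorem exists_hom {Ω : Type*} [MulAction G Ω] {γ : ℕ → G} {L : List ℕ} (hgen : gp γ L = ⊤) {N : ℕ}
    {p : ℕ → Perm ℕ} (X : ℕ → Ω) (hinj : ∀ i j, i < N → j < N → X i = X j → i = j)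
    (hfix : ∀ j, p j ∈ bddPerm N) (hact : ∀ j, ∀ i < N, γ j • X i = X (p j i)) :
    ∃ φ : G →* Perm ℕ, (∀ j, φ (γ j) = p j) ∧ ∀ g, φ g ∈ bddPerm N ∧ ∀ i < N, g • X i = X (φ g i) :=
  exists_hom_rel hgen (fun g i j => g • X i = X j) (fun _ _ => one_smul _ _)
    (fun _ _ _ _ _ _ _ _ h h' => by rw [mul_smul, h, h'])
    (fun _ _ _ _ _ h => by rw [← h, inv_smul_smul])
    (fun i j hi hj h => hinj i j hi hj (by rwa [one_smul] at h)) hfix hact

/-- The model given by a list of points which is invariant up to a commuting group of scalars. -/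
theorem exists_hom_proj {Ω A : Type*} [Group A] [MulAction G Ω] [MulAction A Ω] [SMulCommClass G A Ω]
    {γ : ℕ → G} {L : List ℕ} (hgen : gp γ L = ⊤) {N : ℕ} {p : ℕ → Perm ℕ} (X : ℕ → Ω)
    (hinj : ∀ i j, i < N → j < N → ∀ a : A, X i = a • X j → i = j)
    (hfix : ∀ j, p j ∈ bddPerm N) (hact : ∀ j, ∀ i < N, ∃ a : A, γ j • X i = a • X (p j i)) :
    ∃ φ : G →* Perm ℕ, (∀ j, φ (γ j) = p j) ∧
      ∀ g, φ g ∈ bddPerm N ∧ ∀ i < N, ∃ a : A, g • X i = a • X (φ g i) :=
  exists_hom_rel hgen (fun g i j => ∃ a : A, g • X i = a • X j) (fun _ _ => ⟨1, by simp⟩)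
    (fun _ _ _ _ _ _ _ _ ⟨a, h⟩ ⟨b, h'⟩ => ⟨a * b, by rw [mul_smul, h, smul_comm, h', mul_smul]⟩)
    (fun _ _ _ _ _ ⟨a, h⟩ => ⟨a⁻¹, by rw [eq_inv_smul_iff, ← smul_comm, ← h, inv_smul_smul]⟩)
    (fun i j hi hj ⟨a, h⟩ => hinj i j hi hj a (by rwa [one_smul] at h)) hfix hact

/-- The networks fix all points from `N` on. -/
noncomputable def fixAbove (k N : ℕ) (ns : List Net) : Bool :=
  allLt ns.length fun j => allLt k fun t =>
    Nat.beq (Nat.shiftRight (gat ns (Nat.mul 2 j) (sl t k)) N) (Nat.shiftRight (sl t k) N)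

theorem fixAbove_sound {k N : ℕ} {ns : List Net} (hv : validAll (2 ^ k) ns = true)
    (h : fixAbove k N ns = true) (j : ℕ) : netPerm ns j ∈ bddPerm N := by
  by_cases hj : j < ns.length
  · intro i hi
    have hp : netPerm ns j ∈ bddPerm (2 ^ k) := by
      have := lp_mem hv (2 * j); rwa [lp, ext_two_mul] at this
    by_cases h2 : i < 2 ^ k
    · have h3 := bddPerm_lt hp h2
      apply Nat.eq_of_testBit_eq
      intro t
      by_cases ht : t < k
      · have := congrArg (fun x => Nat.testBit x (i - N))
          (Nat.eq_of_beq_eq_true (allLt_iff.1 (allLt_iff.1 h j hj) t ht))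
        simp only [shr_eq, Nat.testBit_shiftRight, Nat.add_sub_cancel' hi, testBit_gat hv,
          testBit_sl] at this
        rw [show Nat.mul 2 j = 2 * j from rfl, lp, ext_two_mul] at this
        simpa [h2, h3] using this
      · have : 2 ^ k ≤ 2 ^ t := Nat.pow_le_pow_right (by norm_num) (by omega)
        rw [Nat.testBit_lt_two_pow (by omega), Nat.testBit_lt_two_pow (by omega)]
    · exact hp i (by omega)
  · rw [netPerm_of_le ns (by omega)]; exact (bddPerm N).one_mem

/-! ### Strictly increasing columns -/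

/-- The number whose bits are the bits in column `n`, the first plane being most significant. -/
def key : List ℕ → ℕ → ℕ
  | [], _ => 0
  | p :: P, n => (if p.testBit n then 2 ^ P.length else 0) + key P n

theorem key_lt (P : List ℕ) (n : ℕ) : key P n < 2 ^ P.length := by
  induction P with
  | nil => simp [key]
  | cons p P ih => rw [key, List.length_cons, pow_succ]; split_ifs <;> omega

/-- The columns which are smaller than their successors. -/
noncomputable def ltM (P : List ℕ) : ℕ :=
  List.rec 0 (fun a _ ih => frc ih ((fun b => Nat.lor (Nat.xor b (Nat.land a b))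
    (Nat.xor ih (Nat.land ih (Nat.xor a b)))) (Nat.shiftRight a 1))) P

theorem ltM_sound (P : List ℕ) (n : ℕ) (h : (ltM P).testBit n = true) : key P n < key P (n + 1) := by
  induction P with
  | nil => simp [ltM] at h
  | cons a P ih =>
    have e : ltM (a :: P) = ((a >>> 1) ^^^ (a &&& (a >>> 1))) |||
      (ltM P ^^^ (ltM P &&& (a ^^^ (a >>> 1)))) := frc_eq (ltM P) _
    rw [e] at h
    simp only [Nat.testBit_or, Nat.testBit_xor, Nat.testBit_and, Nat.testBit_shiftRight,
      add_comm 1 n] at h
    have h1 := key_lt P n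
    rw [key, key]
    revert h ih
    cases a.testBit n <;> cases a.testBit (n + 1) <;> cases (ltM P).testBit n <;> simp <;> omega

/-- The first `N` columns are strictly increasing. -/
noncomputable def sortedB (P : List ℕ) (N : ℕ) : Bool :=
  (fun M => Nat.beq (Nat.land (ltM P) M) M) (Nat.sub (Nat.pow 2 (Nat.sub N 1)) 1)

theorem sortedB_sound {P : List ℕ} {N : ℕ} (h : sortedB P N = true) {i j : ℕ} (hi : i < N)
    (hj : j < N) (e : ∀ t, (nth 0 P t).testBit i = (nth 0 P t).testBit j) : i = j := by
  have h1 : ∀ n, n + 1 < N → key P n < key P (n + 1) := fun n hn => by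
    apply ltM_sound
    have := congrArg (fun x => Nat.testBit x n) (Nat.eq_of_beq_eq_true h)
    have h2 : (Nat.sub (Nat.pow 2 (Nat.sub N 1)) 1).testBit n = true := by
      show (2 ^ (N - 1) - 1).testBit n = true
      simp; omega
    simp only [land_eq, Nat.testBit_and, h2, Bool.and_true] at this
    exact this
  have h2 : ∀ a b, a < b → b < N → key P a < key P b := by
    intro a b hab hb
    induction b with
    | zero => omega
    | succ b ih =>
      rcases Nat.lt_succ_iff_lt_or_eq.1 hab with h3 | rfl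
      · exact (ih h3 (by omega)).trans (h1 b hb)
      · exact h1 a hb
  have h3 : key P i = key P j := by
    clear h h1 h2
    induction P with
    | nil => rfl
    | cons a P ih =>
      have := e 0
      change a.testBit i = a.testBit j at this
      rw [key, key, this, ih fun t => e (t + 1)]
  rcases lt_trichotomy i j with h4 | h4 | h4
  · exact absurd h3 (h2 _ _ h4 hj).ne
  · exact h4
  · exact absurd h3 (h2 _ _ h4 hi).ne'

/-! ### Linear maps in characteristic two, bit-sliced -/

/-- The sum of the planes selected by the bits of `row`. -/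
noncomputable def xorSel (P : List ℕ) (row : ℕ) : ℕ :=
  List.rec (motive := fun _ => ℕ → ℕ → ℕ) (fun _ acc => acc)
    (fun a _ ih row acc => Bool.rec (ih (Nat.shiftRight row 1) ((fun y => frc y y) (Nat.xor acc a)))
      (ih (Nat.shiftRight row 1) acc) (Nat.beq (Nat.land row 1) 0)) P row 0

/-- A bit as an element of a ring. -/
def bt (R : Type*) [Zero R] [One R] (b : Bool) : R := if b then 1 else 0

theorem bt_xor {R : Type*} [Ring R] [CharP R 2] (a b : Bool) : bt R (a ^^ b) = bt R a + bt R b := by
  cases a <;> cases b <;> simp [bt, CharTwo.add_self_eq_zero]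

theorem bt_xorSel {R : Type*} [CommRing R] [CharP R 2] (P : List ℕ) (row n : ℕ) :
    bt R ((xorSel P row).testBit n) =
      ∑ c ∈ Finset.range P.length, bt R (row.testBit c) * bt R ((nth 0 P c).testBit n) := by
  have key : ∀ (row acc : ℕ), bt R ((List.rec (motive := fun _ => ℕ → ℕ → ℕ) (fun _ acc => acc)
      (fun a _ ih row acc => Bool.rec (ih (Nat.shiftRight row 1) ((fun y => frc y y) (Nat.xor acc a)))
      (ih (Nat.shiftRight row 1) acc) (Nat.beq (Nat.land row 1) 0)) P row acc : ℕ).testBit n) =
      bt R (acc.testBit n) +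
      ∑ c ∈ Finset.range P.length, bt R (row.testBit c) * bt R ((nth 0 P c).testBit n) := by
    induction P with
    | nil => intro row acc; simp
    | cons a P ih =>
      intro row acc
      rw [List.length_cons, Finset.sum_range_succ']
      have e0 : nth 0 (a :: P) 0 = a := rfl
      have e1 : ∀ c, nth 0 (a :: P) (c + 1) = nth 0 P c := fun _ => rfl
      simp only [e0, e1]
      cases hb : Nat.beq (Nat.land row 1) 0
      · have h0 : row.testBit 0 = true := by
          have : row &&& 1 ≠ 0 := Nat.ne_of_beq_eq_false hb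
          rw [Nat.and_one_is_mod] at this
          simp; omega
        rw [ih, frc_eq, xor_eq, Nat.testBit_xor, bt_xor, h0]
        simp only [shr_eq, Nat.testBit_shiftRight, add_comm 1]
        simp [bt]; ring
      · have h0 : row.testBit 0 = false := by
          have : row &&& 1 = 0 := Nat.eq_of_beq_eq_true hb
          rw [Nat.and_one_is_mod] at this
          simp; omega
        rw [ih, h0]
        simp only [shr_eq, Nat.testBit_shiftRight, add_comm 1]
        simp [bt]
  have := key row 0
  rw [Nat.zero_testBit, show bt R false = 0 from rfl, zero_add] at this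
  exact this

/-- The vector in column `n`: coordinate `z` is `∑ θ^i` over the set bits of the planes
`σ z * m + i`. -/
noncomputable def vec2 {R ι : Type*} [CommRing R] {d : ℕ} (σ : ι ≃ Fin d) (θ : R) (m : ℕ)
    (P : List ℕ) (n : ℕ) : ι → R :=
  fun z => ∑ i ∈ Finset.range m, bt R ((nth 0 P (σ z * m + i)).testBit n) * θ ^ i

/-- The bit matrix `rows` describes the matrix `M`. -/
def Rows2 {R ι : Type*} [CommRing R] {d : ℕ} (σ : ι ≃ Fin d) (θ : R) (m : ℕ) (M : Matrix ι ι R)
    (rows : List ℕ) : Prop :=
  ∀ z z', ∀ i < m, M z z' * θ ^ i =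
    ∑ i' ∈ Finset.range m, bt R ((nth 0 rows (σ z * m + i')).testBit (σ z' * m + i)) * θ ^ i'

theorem sum_range_mul {R : Type*} [AddCommMonoid R] (d m : ℕ) (f : ℕ → R) :
    ∑ c ∈ Finset.range (d * m), f c = ∑ r : Fin d, ∑ i ∈ Finset.range m, f (r * m + i) := by
  rw [Fin.sum_univ_eq_sum_range (fun r => ∑ i ∈ Finset.range m, f (r * m + i))]
  induction d with
  | zero => simp
  | succ d ih => rw [Finset.sum_range_succ, Nat.succ_mul, Finset.sum_range_add, ih]

/-- The planes of the image. -/
noncomputable def mulP (rows P : List ℕ) : List ℕ := rows.map (xorSel P)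

theorem nth_mulP (rows P : List ℕ) (t : ℕ) : nth 0 (mulP rows P) t = xorSel P (nth 0 rows t) := by
  induction rows generalizing t with
  | nil =>
    show 0 = xorSel P 0
    apply Nat.eq_of_testBit_eq
    intro n
    have := bt_xorSel (R := ZMod 2) P 0 n
    simp only [Nat.zero_testBit, bt, Bool.false_eq_true, if_false, zero_mul, Finset.sum_const_zero] at this
    cases h : (xorSel P 0).testBit n
    · simp
    · rw [h] at this; simp at this
  | cons a rows ih => cases t with
    | zero => rfl
    | succ t => exact ih t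

theorem mulVec_vec2 {R ι : Type*} [CommRing R] [CharP R 2] [Fintype ι] {d : ℕ} {σ : ι ≃ Fin d}
    {θ : R} {m : ℕ} {M : Matrix ι ι R} {rows : List ℕ} (hM : Rows2 σ θ m M rows) {P : List ℕ}
    (hP : P.length = d * m) (n : ℕ) : M.mulVec (vec2 σ θ m P n) = vec2 σ θ m (mulP rows P) n := by
  funext z
  simp only [Matrix.mulVec, dotProduct, vec2, nth_mulP, bt_xorSel, hP, sum_range_mul,
    Finset.mul_sum, Finset.sum_mul]
  rw [Finset.sum_comm (s := Finset.range m), ← Equiv.sum_comp σ]
  refine Finset.sum_congr rfl fun z' _ => ?_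
  rw [Finset.sum_comm]
  refine Finset.sum_congr rfl fun i hi => ?_
  rw [mul_left_comm, hM z z' i (Finset.mem_range.1 hi), Finset.mul_sum]
  exact Finset.sum_congr rfl fun i' _ => by ring

/-- The planes moved by a letter. -/
noncomputable def gatP (ns : List Net) (a : ℕ) (P : List ℕ) : List ℕ := P.map (gat ns a)

theorem vec2_gatP {R ι : Type*} [CommRing R] {d : ℕ} (σ : ι ≃ Fin d) (θ : R) (m : ℕ) {B : ℕ}
    {ns : List Net} (hv : validAll B ns = true) (a : ℕ) (P : List ℕ) (n : ℕ) :
    vec2 σ θ m (gatP ns a P) n = vec2 σ θ m P (lp ns a n) := by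
  have : ∀ t, (nth 0 (gatP ns a P) t).testBit n = (nth 0 P t).testBit (lp ns a n) := by
    induction P with
    | nil => intro t; show Nat.testBit 0 _ = Nat.testBit 0 _; simp
    | cons b P ih =>
      intro t
      cases t with
      | zero => exact testBit_gat hv _ _ _
      | succ t => exact ih t
  funext z
  simp only [vec2, this]

/-- The matrix acts on the columns like generator `j`. -/
theorem act2_sound {R ι : Type*} [CommRing R] [CharP R 2] [Fintype ι] {d : ℕ} {σ : ι ≃ Fin d}
    {θ : R} {m : ℕ} {M : Matrix ι ι R} {rows : List ℕ} (hM : Rows2 σ θ m M rows) {P : List ℕ}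
    (hP : P.length = d * m) {B : ℕ} {ns : List Net} (hv : validAll B ns = true) {j : ℕ}
    (h : beqL (mulP rows P) (gatP ns (2 * j) P) = true) (n : ℕ) :
    M.mulVec (vec2 σ θ m P n) = vec2 σ θ m P (netPerm ns j n) := by
  rw [mulVec_vec2 hM hP, beqL_sound h, vec2_gatP σ θ m hv, lp, ext_two_mul]

/-- The columns where two lists of planes differ. -/
noncomputable def difM (P Q : List ℕ) : ℕ :=
  List.rec (motive := fun _ => List ℕ → ℕ) (fun Q => List.rec 0 (fun b _ ih => Nat.lor b ih) Q)
    (fun a _ ih Q => List.rec (Nat.lor a (ih [])) (fun b r _ => Nat.lor (Nat.xor a b) (ih r)) Q) P Q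

theorem difM_sound {P Q : List ℕ} {n : ℕ} (h : (difM P Q).testBit n = false) (t : ℕ) :
    (nth 0 P t).testBit n = (nth 0 Q t).testBit n := by
  induction P generalizing Q t with
  | nil =>
    induction Q generalizing t with
    | nil => rfl
    | cons b Q ih =>
      have h' : (b ||| difM [] Q).testBit n = false := h
      rw [Nat.testBit_or, Bool.or_eq_false_iff] at h'
      cases t with
      | zero => exact (Nat.zero_testBit n).trans h'.1.symm
      | succ t => exact ih h'.2 t
  | cons a P ih =>
    cases Q with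
    | nil =>
      have h' : (a ||| difM P []).testBit n = false := h
      rw [Nat.testBit_or, Bool.or_eq_false_iff] at h'
      cases t with
      | zero => exact h'.1.trans (Nat.zero_testBit n).symm
      | succ t => exact ih h'.2 t
    | cons b Q =>
      have h' : ((a ^^^ b) ||| difM P Q).testBit n = false := h
      rw [Nat.testBit_or, Bool.or_eq_false_iff, Nat.testBit_xor] at h'
      cases t with
      | zero =>
        show a.testBit n = b.testBit n
        simpa using h'.1
      | succ t => exact ih h'.2 t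

theorem vec2_congr {R ι : Type*} [CommRing R] {d : ℕ} (σ : ι ≃ Fin d) (θ : R) (m : ℕ)
    {P Q : List ℕ} {n n' : ℕ} (h : ∀ t, (nth 0 P t).testBit n = (nth 0 Q t).testBit n') :
    vec2 σ θ m P n = vec2 σ θ m Q n' := by
  funext z; simp only [vec2, h]

/-! ### The packaged certificate -/

/-- A faithful permutation model of a finite group with an exact stabiliser chain. -/
structure Cert (φ : G →* Perm ℕ) (γ : ℕ → G) (k : ℕ) (ns : List Net) (ts : List Tab) (L : List ℕ)
    (ls : List Level) : Prop where
  M : Model φ γ k ns ts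
  gen : gp γ L = ⊤
  fin : Finite G
  card : Nat.card G = chainCard ls
  sound : ChainSound φ ⊤ k [] ls
  exact : ChainExact φ ⊤ k [] ls
  base : IsBase φ ⊤ (chainBase [] ls)

theorem Cert.of_bound {φ : G →* Perm ℕ} {γ : ℕ → G} {k : ℕ} {ns : List Net} {ts : List Tab}
    {L : List ℕ} {ls : List Level} (M : Model φ γ k ns ts) (gen : gp γ L = ⊤)
    (hs : ChainSound φ (gp γ L) k [] ls) {m : ℕ} (hb : Finite G ∧ Nat.card G ≤ m)
    (e : Nat.ble m (chainCard ls) = true) : Cert φ γ k ns ts L ls := by
  rw [gen] at hs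
  haveI := hb.1
  have := chain_main hs (by simpa using hb.2.trans (Nat.le_of_ble_eq_true e))
  exact ⟨M, gen, hb.1, by simpa using this.1, hs, this.2.1, this.2.2⟩

theorem Cert.injective {φ : G →* Perm ℕ} {γ : ℕ → G} {k : ℕ} {ns : List Net} {ts : List Tab}
    {L : List ℕ} {ls : List Level} (C : Cert φ γ k ns ts L ls) : Function.Injective φ :=
  (injective_iff_map_eq_one φ).2 fun x hx => C.base x trivial fun b _ => by rw [hx]; rfl

/-- A further exact chain, once the order is known. -/
theorem Cert.rechain {φ : G →* Perm ℕ} {γ : ℕ → G} {k : ℕ} {ns : List Net} {ts : List Tab}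
    {L : List ℕ} {ls ls' : List Level} (C : Cert φ γ k ns ts L ls)
    (hs : ChainSound φ (gp γ L) k [] ls') (e : Nat.ble (chainCard ls) (chainCard ls') = true) :
    Cert φ γ k ns ts L ls' := Cert.of_bound C.M C.gen hs ⟨C.fin, C.card.le⟩ e

/-- The same group with new generators given by words. -/
theorem Model.extend {φ : G →* Perm ℕ} {γ : ℕ → G} {k : ℕ} {ns ns' : List Net} {ts ts' : List Tab}
    (M : Model φ γ k ns ts) (hv : validAll (2 ^ k) ns' = true) {W : List (List ℕ)}
    (h : extOK k ns ns' W = true) (ht : TabsOK k (lp ns') ts') : Model φ (wg γ W) k ns' ts' :=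
  ⟨hv, extOK_sound M.valid M.gen hv h, ht⟩

end Cfsg.Agent.CGT
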