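import Cfsg.Agent.CGT.Tab

set_option autoImplicit false

/-! Permutation models of a group, orbits, stabiliser chains, orders and bases. -/

namespace Cfsg.Agent.CGT

open Equiv

/-! ### Counting bits -/

def popTbl : ℕ := 0x8776766576656554766565546554544376656554655454436554544354434332766565546554544365545443544343326554544354434332544343324332322176656554655454436554544354434332655454435443433254434332433232216554544354434332544343324332322154434332433232214332322132212110

/-- The number of set bits among the first `2^(d+3)`. -/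
noncomputable def popc (d x : ℕ) : ℕ :=
  Nat.rec (motive := fun _ => ℕ → ℕ) (fun x => field 4 15 popTbl (Nat.land x 255))
    (fun d ih x => Bool.rec
      ((fun h => Nat.add (ih (Nat.land x (Nat.sub (Nat.pow 2 h) 1))) (ih (Nat.shiftRight x h)))
        (Nat.pow 2 (Nat.add d 3))) 0 (Nat.beq x 0)) d x

theorem popTbl_spec : ∀ x < 256,
    field 4 15 popTbl x = ((Finset.range 8).filter fun i => x.testBit i = true).card := by
  decide +kernel

theorem card_filter_range_add (a b : ℕ) (p : ℕ → Prop) [DecidablePred p] :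
    ((Finset.range (a + b)).filter p).card =
      ((Finset.range a).filter p).card + ((Finset.range b).filter fun i => p (a + i)).card := by
  simp only [Finset.card_filter, Finset.sum_range_add]

theorem popc_eq (d x : ℕ) :
    popc d x = ((Finset.range (2 ^ (d + 3))).filter fun i => x.testBit i = true).card := by
  induction d generalizing x with
  | zero =>
    show field 4 15 popTbl (x &&& 255) = _
    rw [popTbl_spec _ (lt_of_le_of_lt Nat.and_le_right (by norm_num))]
    congr 1
    apply Finset.filter_congr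
    intro i hi
    have h1 : i < 8 := by simpa using hi
    rw [Nat.testBit_and, show (255 : ℕ) = 2 ^ 8 - 1 by norm_num, Nat.testBit_two_pow_sub_one]
    simp [h1]
  | succ d ih =>
    show Bool.rec (motive := fun _ => ℕ) (popc d (x &&& (2 ^ 2 ^ (d + 3) - 1)) +
      popc d (x >>> 2 ^ (d + 3))) 0 (Nat.beq x 0) = _
    cases hb : Nat.beq x 0
    · show popc d _ + popc d _ = _
      rw [show d + 1 + 3 = d + 3 + 1 by ring, pow_succ 2 (d + 3), mul_two, card_filter_range_add, ih, ih]
      congr 1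
      · congr 1
        apply Finset.filter_congr
        intro i hi
        have h1 : i < 2 ^ (d + 3) := by simpa using hi
        rw [Nat.testBit_and, Nat.testBit_two_pow_sub_one]
        simp [h1]
      · simp only [Nat.testBit_shiftRight]
    · rw [Nat.eq_of_beq_eq_true hb]; simp

/-! ### Models -/

variable {G : Type*} [Group G]

/-- `φ` sends the generators to the permutations of the networks. -/
structure Model (φ : G →* Perm ℕ) (γ : ℕ → G) (k : ℕ) (ns : List Net) (ts : List Tab) : Prop where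
  valid : validAll (2 ^ k) ns = true
  gen : ∀ j, φ (γ j) = netPerm ns j
  tabs : TabsOK k (lp ns) ts

/-- The elements of `K` fixing the points of a list. -/
def St (φ : G →* Perm ℕ) (K : Subgroup G) (F : List ℕ) : Subgroup G where
  carrier := {x | x ∈ K ∧ ∀ b ∈ F, φ x b = b}
  one_mem' := ⟨K.one_mem, fun _ _ => by simp⟩
  mul_mem' := fun {x y} hx hy => ⟨K.mul_mem hx.1 hy.1, fun b hb => by
    rw [map_mul, Perm.mul_apply, hy.2 b hb, hx.2 b hb]⟩
  inv_mem' := fun {x} hx => ⟨K.inv_mem hx.1, fun b hb => by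
    rw [map_inv, Perm.inv_eq_iff_eq, hx.2 b hb]⟩

theorem mem_St {φ : G →* Perm ℕ} {K : Subgroup G} {F : List ℕ} {x : G} :
    x ∈ St φ K F ↔ x ∈ K ∧ ∀ b ∈ F, φ x b = b := Iff.rfl

theorem St_nil (φ : G →* Perm ℕ) (K : Subgroup G) : St φ K [] = K := by
  ext x; simp [mem_St]

theorem St_cons_le (φ : G →* Perm ℕ) (K : Subgroup G) (b : ℕ) (F : List ℕ) :
    St φ K (b :: F) ≤ St φ K F := fun _ hx => ⟨hx.1, fun c hc => hx.2 c (by simp [hc])⟩

theorem St_le (φ : G →* Perm ℕ) (K : Subgroup G) (F : List ℕ) : St φ K F ≤ K := fun _ hx => hx.1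

/-- Orbit and stabiliser. -/
theorem card_St (φ : G →* Perm ℕ) (K : Subgroup G) (b : ℕ) (F : List ℕ) :
    Nat.card (St φ K F) =
      {j | ∃ x ∈ St φ K F, φ x b = j}.ncard * Nat.card (St φ K (b :: F)) := by
  letI : MulAction (St φ K F) ℕ := MulAction.compHom ℕ (φ.comp (St φ K F).subtype)
  have h1 : MulAction.stabilizer (St φ K F) b = (St φ K (b :: F)).subgroupOf (St φ K F) := by
    ext ⟨x, hx⟩
    rw [MulAction.mem_stabilizer_iff, Subgroup.mem_subgroupOf]
    show φ x b = b ↔ x ∈ K ∧ ∀ c ∈ b :: F, φ x c = c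
    constructor
    · intro h
      refine ⟨hx.1, fun c hc => ?_⟩
      rcases List.mem_cons.1 hc with rfl | hc
      · exact h
      · exact hx.2 c hc
    · intro h; exact h.2 b (by simp)
  have h2 : MulAction.orbit (St φ K F) b = {j | ∃ x ∈ St φ K F, φ x b = j} := by
    ext j
    constructor
    · rintro ⟨⟨x, hx⟩, rfl⟩; exact ⟨x, hx, rfl⟩
    · rintro ⟨x, hx, rfl⟩; exact ⟨⟨x, hx⟩, rfl⟩
  rw [← h2, ← MulAction.index_stabilizer, h1,
    ← Nat.card_congr (Subgroup.subgroupOfEquivOfLe (St_cons_le φ K b F)).toEquiv,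
    Subgroup.index_mul_card]

namespace Model

variable {φ : G →* Perm ℕ} {γ : ℕ → G} {k : ℕ} {ns : List Net} {ts : List Tab}

theorem map_ext' (M : Model φ γ k ns ts) (a : ℕ) : φ (ext γ a) = lp ns a := by
  rw [map_ext, lp]; congr 1; funext j; exact M.gen j

theorem map_ev' (M : Model φ γ k ns ts) (w : List ℕ) : φ (ev (ext γ) w) = ev (lp ns) w := by
  rw [map_ev]; congr 1; funext a; exact M.map_ext' a

theorem map_der (M : Model φ γ k ns ts) (ds : List (List ℕ)) (w : List ℕ) :
    φ (ev (der (ext γ) ds) w) = ev (der (lp ns) ds) w := by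
  rw [map_ev]; congr 1; funext a; exact M.map_ev' _

theorem ap (M : Model φ γ k ns ts) (w : List ℕ) {i : ℕ} (hi : i < 2 ^ k) :
    ap k (2 ^ k - 1) ts w i = φ (ev (ext γ) w) i := by
  rw [ap_eq M.valid M.tabs w hi, M.map_ev']

theorem apI (M : Model φ γ k ns ts) (w : List ℕ) {i : ℕ} (hi : i < 2 ^ k) :
    apI k (2 ^ k - 1) ts w i = φ (ev (ext γ) w)⁻¹ i := by
  rw [apI_eq M.valid M.tabs w hi, map_inv, M.map_ev']

theorem apD (M : Model φ γ k ns ts) (ds : List (List ℕ)) (w : List ℕ) {i : ℕ} (hi : i < 2 ^ k) :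
    apD k (2 ^ k - 1) ts ds w i = φ (ev (der (ext γ) ds) w) i := by
  rw [apD_eq M.valid M.tabs ds w hi, M.map_der]

theorem gatW (M : Model φ γ k ns ts) (w : List ℕ) (x i : ℕ) :
    (gatW ns w x).testBit i = x.testBit (φ (ev (ext γ) w) i) := by
  rw [testBit_gatW M.valid, M.map_ev']

theorem ev_lt (M : Model φ γ k ns ts) (w : List ℕ) {i : ℕ} (hi : i < 2 ^ k) :
    φ (ev (ext γ) w) i < 2 ^ k := by
  rw [M.map_ev']; exact bddPerm_lt (ev_lp_mem M.valid w) hi

end Model

/-- `2^k - 1` for the kernel. -/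
def msk (k : ℕ) : ℕ := Nat.sub (Nat.pow 2 k) 1

theorem msk_eq (k : ℕ) : msk k = 2 ^ k - 1 := rfl

theorem lt_of_ble_msk {b k : ℕ} (h : Nat.ble b (msk k) = true) : b < 2 ^ k := by
  have := Nat.le_of_ble_eq_true h
  rw [msk_eq] at this
  have := Nat.two_pow_pos k
  omega

/-- All points of the list are below `2^k`. -/
noncomputable def ptsOK (k : ℕ) (B : List ℕ) : Bool := allL B fun b => Nat.ble b (msk k)

theorem ptsOK_lt {k : ℕ} {B : List ℕ} (h : ptsOK k B = true) {b : ℕ} (hb : b ∈ B) : b < 2 ^ k := by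
  have := Nat.le_of_ble_eq_true (allL_iff.1 h b hb)
  rw [msk_eq] at this
  have := Nat.two_pow_pos k
  omega

/-- The word fixes the points of the list. -/
noncomputable def fixesB (k : ℕ) (ts : List Tab) (w : List ℕ) (F : List ℕ) : Bool :=
  allL F fun b => Nat.beq (ap k (msk k) ts w b) b

theorem fixesB_sound {φ : G →* Perm ℕ} {γ : ℕ → G} {k : ℕ} {ns : List Net} {ts : List Tab}
    (M : Model φ γ k ns ts) {w F : List ℕ} (hF : ptsOK k F = true) (h : fixesB k ts w F = true) :
    ∀ b ∈ F, φ (ev (ext γ) w) b = b := fun b hb => by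
  have := Nat.eq_of_beq_eq_true (allL_iff.1 h b hb)
  rwa [msk_eq, M.ap w (ptsOK_lt hF hb)] at this

/-- Grow an orbit: each code names one of the words. -/
noncomputable def grow (ns : List Net) (S : List (List ℕ)) (cs : List ℕ) (O : ℕ) : ℕ :=
  List.rec (motive := fun _ => ℕ → ℕ) (fun O => O)
    (fun c _ ih O => (fun y => frc y (ih y)) (Nat.lor O (gatW ns (nth [] S c) O))) cs O

theorem grow_cons (ns : List Net) (S : List (List ℕ)) (c : ℕ) (cs : List ℕ) (O : ℕ) :
    grow ns S (c :: cs) O = grow ns S cs (O ||| gatW ns (nth [] S c) O) :=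
  frc_eq (Nat.lor O (gatW ns (nth [] S c) O)) _

theorem grow_sound {φ : G →* Perm ℕ} {γ : ℕ → G} {k : ℕ} {ns : List Net} {ts : List Tab}
    (M : Model φ γ k ns ts) {L : Subgroup G} {S : List (List ℕ)}
    (hS : ∀ u ∈ S, ev (ext γ) u ∈ L) {b : ℕ} (cs : List ℕ) {O : ℕ}
    (hO : ∀ j, O.testBit j = true → ∃ x ∈ L, φ x b = j) :
    ∀ j, (grow ns S cs O).testBit j = true → ∃ x ∈ L, φ x b = j := by
  induction cs generalizing O with
  | nil => exact hO
  | cons c cs ih =>
    rw [grow_cons]
    refine ih fun j hj => ?_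
    rw [Nat.testBit_or, Bool.or_eq_true, M.gatW] at hj
    rcases hj with hj | hj
    · exact hO j hj
    · obtain ⟨x, hx, e⟩ := hO _ hj
      have hu : ev (ext γ) (nth [] S c) ∈ L := by
        rcases Enum.nth_mem_or [] S c with h' | h'
        · rw [h']; exact L.one_mem
        · exact hS _ h'
      refine ⟨(ev (ext γ) (nth [] S c))⁻¹ * x, L.mul_mem (L.inv_mem hu) hx, ?_⟩
      rw [map_mul, Perm.mul_apply, e, map_inv, perm_inv_apply]

theorem one_shiftLeft_orbit (φ : G →* Perm ℕ) (L : Subgroup G) (b : ℕ) :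
    ∀ j, (Nat.shiftLeft 1 b).testBit j = true → ∃ x ∈ L, φ x b = j := by
  intro j hj
  rw [shl_eq, Nat.one_shiftLeft, Nat.testBit_two_pow] at hj
  exact ⟨1, L.one_mem, by simpa using hj⟩

/-- A level of a stabiliser chain: base point, generators of the stabiliser of the earlier points,
the order in which they are applied, the orbit mask and its size. -/
structure Level where
  b : ℕ
  S : List (List ℕ)
  cs : List ℕ
  O : ℕ
  n : ℕ

/-- The test of one level, below the points `F`. -/
noncomputable def Level.ok (k : ℕ) (ns : List Net) (ts : List Tab) (F : List ℕ) (l : Level) : Bool :=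
  (allL l.S fun u => fixesB k ts u F) && (Nat.ble l.b (msk k) &&
    (Nat.beq (grow ns l.S l.cs (Nat.shiftLeft 1 l.b)) l.O &&
      Nat.beq (popc (Nat.sub k 3) l.O) l.n))

/-- What the test of one level proves. -/
def Level.Sound (φ : G →* Perm ℕ) (K : Subgroup G) (k : ℕ) (F : List ℕ) (l : Level) : Prop :=
  l.b < 2 ^ k ∧ (∀ j, l.O.testBit j = true → ∃ x ∈ St φ K F, φ x l.b = j) ∧
    ∃ s : Finset ℕ, s.card = l.n ∧ ∀ j ∈ s, l.O.testBit j = true

theorem Level.ok_sound {φ : G →* Perm ℕ} {γ : ℕ → G} {k : ℕ} {ns : List Net} {ts : List Tab}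
    (M : Model φ γ k ns ts) {K : Subgroup G} {F : List ℕ} (hF : ptsOK k F = true) {l : Level}
    (hS : ∀ u ∈ l.S, ev (ext γ) u ∈ K) (h : l.ok k ns ts F = true) : l.Sound φ K k F := by
  unfold Level.ok at h
  simp only [Bool.and_eq_true, Nat.beq_eq, allL_iff] at h
  obtain ⟨h1, h2, h3, h4⟩ := h
  refine ⟨lt_of_ble_msk h2, ?_, (Finset.range (2 ^ (Nat.sub k 3 + 3))).filter
    fun i => l.O.testBit i = true, ?_, ?_⟩
  · rw [← h3]
    exact grow_sound M (L := St φ K F) (fun u hu => ⟨hS u hu, fixesB_sound M hF (h1 u hu)⟩) _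
      (one_shiftLeft_orbit φ _ _)
  · exact (popc_eq _ _).symm.trans h4
  · intro j hj; exact (Finset.mem_filter.1 hj).2

/-- All levels are sound. -/
def ChainSound (φ : G →* Perm ℕ) (K : Subgroup G) (k : ℕ) : List ℕ → List Level → Prop
  | _, [] => True
  | F, l :: ls => l.Sound φ K k F ∧ ChainSound φ K k (l.b :: F) ls

/-- The test of all levels. -/
noncomputable def chainOK (k : ℕ) (ns : List Net) (ts : List Tab) (ls : List Level) (F : List ℕ) :
    Bool :=
  List.rec (motive := fun _ => List ℕ → Bool) (fun _ => true)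
    (fun l _ ih F => l.ok k ns ts F && ih (l.b :: F)) ls F

theorem ptsOK_cons {k b : ℕ} {F : List ℕ} (hb : b < 2 ^ k) (hF : ptsOK k F = true) :
    ptsOK k (b :: F) = true := by
  rw [ptsOK, allL_iff]
  intro c hc
  rcases List.mem_cons.1 hc with rfl | hc
  · apply Nat.ble_eq_true_of_le; rw [msk_eq]; omega
  · exact allL_iff.1 hF c hc

theorem chainOK_sound {φ : G →* Perm ℕ} {γ : ℕ → G} {k : ℕ} {ns : List Net} {ts : List Tab}
    (M : Model φ γ k ns ts) {K : Subgroup G} {ls : List Level} {F : List ℕ} (hF : ptsOK k F = true)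
    (hS : ∀ l ∈ ls, ∀ u ∈ l.S, ev (ext γ) u ∈ K) (h : chainOK k ns ts ls F = true) :
    ChainSound φ K k F ls := by
  induction ls generalizing F with
  | nil => trivial
  | cons l ls ih =>
    have h' : (l.ok k ns ts F && chainOK k ns ts ls (l.b :: F)) = true := h
    rw [Bool.and_eq_true] at h'
    have h1 := Level.ok_sound M hF (hS l (by simp)) h'.1
    exact ⟨h1, ih (ptsOK_cons h1.1 hF) (fun l' hl' => hS l' (by simp [hl'])) h'.2⟩

/-- The product of the orbit sizes. -/
def chainCard (ls : List Level) : ℕ := (ls.map Level.n).prod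

/-- The points fixed at the end of the chain. -/
def chainBase : List ℕ → List Level → List ℕ
  | F, [] => F
  | F, l :: ls => chainBase (l.b :: F) ls

/-- The orbits of the chain are the full orbits of the stabilisers and the chain ends at `1`. -/
def ChainExact (φ : G →* Perm ℕ) (K : Subgroup G) (k : ℕ) : List ℕ → List Level → Prop
  | F, [] => ∀ x ∈ St φ K F, x = 1
  | F, l :: ls => (l.b < 2 ^ k ∧ ∀ x ∈ St φ K F, l.O.testBit (φ x l.b) = true) ∧
      ChainExact φ K k (l.b :: F) ls

theorem Level.Sound.le_ncard {φ : G →* Perm ℕ} {K : Subgroup G} [Finite K] {k : ℕ} {F : List ℕ}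
    {l : Level} (h : l.Sound φ K k F) :
    {j | ∃ x ∈ St φ K F, φ x l.b = j}.Finite ∧ l.n ≤ {j | ∃ x ∈ St φ K F, φ x l.b = j}.ncard ∧
      ({j | ∃ x ∈ St φ K F, φ x l.b = j}.ncard ≤ l.n →
        ∀ x ∈ St φ K F, l.O.testBit (φ x l.b) = true) := by
  obtain ⟨-, h1, s, h2, h3⟩ := h
  have hf : {j | ∃ x ∈ St φ K F, φ x l.b = j}.Finite := by
    have : (K : Set G).Finite := Set.toFinite _
    refine (this.image fun x => φ x l.b).subset ?_
    rintro j ⟨x, hx, rfl⟩
    exact ⟨x, hx.1, rfl⟩
  have hs : (s : Set ℕ) ⊆ {j | ∃ x ∈ St φ K F, φ x l.b = j} := fun j hj => h1 j (h3 j hj)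
  refine ⟨hf, ?_, fun hle x hx => ?_⟩
  · rw [← h2, ← Set.ncard_coe_finset]; exact Set.ncard_le_ncard hs hf
  · have := Set.eq_of_subset_of_ncard_le hs (by rw [Set.ncard_coe_finset, h2]; exact hle) hf
    exact h3 _ (by rw [← Finset.mem_coe, this]; exact ⟨x, hx, rfl⟩)

theorem finite_St (φ : G →* Perm ℕ) (K : Subgroup G) [Finite K] (F : List ℕ) :
    Finite (St φ K F) :=
  Finite.of_injective _ (Subgroup.inclusion_injective (St_le φ K F))

theorem ChainSound.le_card {φ : G →* Perm ℕ} {K : Subgroup G} [Finite K] {k : ℕ} {F : List ℕ}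
    {ls : List Level} (h : ChainSound φ K k F ls) : chainCard ls ≤ Nat.card (St φ K F) := by
  induction ls generalizing F with
  | nil =>
    haveI := finite_St φ K F
    exact Nat.card_pos
  | cons l ls ih =>
    rw [card_St φ K l.b F]
    exact Nat.mul_le_mul h.1.le_ncard.2.1 (ih h.2)

theorem ChainSound.exact {φ : G →* Perm ℕ} {K : Subgroup G} [Finite K] {k : ℕ} {F : List ℕ}
    {ls : List Level} (h : ChainSound φ K k F ls) (hc : Nat.card (St φ K F) ≤ chainCard ls) :
    ChainExact φ K k F ls := by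
  induction ls generalizing F with
  | nil =>
    haveI := finite_St φ K F
    intro x hx
    have : Subsingleton (St φ K F) := Finite.card_le_one_iff_subsingleton.1 hc
    exact congrArg Subtype.val (Subsingleton.elim (⟨x, hx⟩ : St φ K F) 1)
  | cons l ls ih =>
    obtain ⟨-, h2, h3⟩ := h.1.le_ncard
    have h4 := h.2.le_card
    have h5 : 0 < Nat.card (St φ K F) := by haveI := finite_St φ K F; exact Nat.card_pos
    rw [card_St φ K l.b F] at hc h5
    change _ ≤ l.n * chainCard ls at hc
    generalize {j | ∃ x ∈ St φ K F, φ x l.b = j}.ncard = a at *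
    have ha : 0 < a := Nat.pos_of_mul_pos_right h5
    have hb : 0 < Nat.card (St φ K (l.b :: F)) := Nat.pos_of_mul_pos_left h5
    refine ⟨⟨h.1.1, h3 ?_⟩, ih h.2 ?_⟩
    · by_contra hlt
      nlinarith
    · by_contra hlt
      nlinarith

theorem ChainExact.base {φ : G →* Perm ℕ} {K : Subgroup G} {k : ℕ} {F : List ℕ}
    {ls : List Level} (h : ChainExact φ K k F ls) : ∀ x ∈ St φ K (chainBase F ls), x = 1 := by
  induction ls generalizing F with
  | nil => exact h
  | cons l ls ih => exact ih h.2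

/-- `B` is a base for `K`. -/
def IsBase (φ : G →* Perm ℕ) (K : Subgroup G) (B : List ℕ) : Prop :=
  ∀ x ∈ K, (∀ b ∈ B, φ x b = b) → x = 1

theorem IsBase.mono {φ : G →* Perm ℕ} {K L : Subgroup G} {B : List ℕ} (h : IsBase φ K B)
    (hL : L ≤ K) : IsBase φ L B := fun x hx => h x (hL hx)

theorem IsBase.eq {φ : G →* Perm ℕ} {K : Subgroup G} {B : List ℕ} (h : IsBase φ K B) {x y : G}
    (hx : x ∈ K) (hy : y ∈ K) (e : ∀ b ∈ B, φ x b = φ y b) : x = y := by
  have := h (y⁻¹ * x) (K.mul_mem (K.inv_mem hy) hx) fun b hb => by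
    rw [map_mul, Perm.mul_apply, e b hb, map_inv, perm_inv_apply]
  exact (inv_mul_eq_one.1 this).symm

/-- The main consequence of a chain together with an upper bound for the order. -/
theorem chain_main {φ : G →* Perm ℕ} {K : Subgroup G} [Finite K] {k : ℕ} {ls : List Level}
    (h : ChainSound φ K k [] ls) (hc : Nat.card K ≤ chainCard ls) :
    Nat.card K = chainCard ls ∧ ChainExact φ K k [] ls ∧ IsBase φ K (chainBase [] ls) := by
  have h1 := h.le_card
  rw [St_nil] at h1
  have h2 := h.exact (by rwa [St_nil])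
  exact ⟨le_antisymm hc h1, h2, fun x hx hb => h2.base x ⟨hx, hb⟩⟩

/-- Two words agree on the points of the list. -/
noncomputable def eqB (k : ℕ) (ts : List Tab) (B : List ℕ) (u v : List ℕ) : Bool :=
  allL B fun b => Nat.beq (ap k (msk k) ts u b) (ap k (msk k) ts v b)

theorem eqB_sound {φ : G →* Perm ℕ} {γ : ℕ → G} {k : ℕ} {ns : List Net} {ts : List Tab}
    (M : Model φ γ k ns ts) {K : Subgroup G} {B : List ℕ} (hB : IsBase φ K B)
    (hp : ptsOK k B = true) {u v : List ℕ} (hu : ev (ext γ) u ∈ K) (hv : ev (ext γ) v ∈ K)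
    (h : eqB k ts B u v = true) : ev (ext γ) u = ev (ext γ) v :=
  hB.eq hu hv fun b hb => by
    have := Nat.eq_of_beq_eq_true (allL_iff.1 h b hb)
    rwa [msk_eq, M.ap u (ptsOK_lt hp hb), M.ap v (ptsOK_lt hp hb)] at this

/-- Two words in derived letters agree on the points of the list. -/
noncomputable def eqD (k : ℕ) (ts : List Tab) (ds : List (List ℕ)) (B : List ℕ) (u v : List ℕ) :
    Bool :=
  allL B fun b => Nat.beq (apD k (msk k) ts ds u b) (apD k (msk k) ts ds v b)

theorem eqD_sound {φ : G →* Perm ℕ} {γ : ℕ → G} {k : ℕ} {ns : List Net} {ts : List Tab}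
    (M : Model φ γ k ns ts) {B : List ℕ} (hB : IsBase φ ⊤ B)
    (hp : ptsOK k B = true) {ds : List (List ℕ)} {u v : List ℕ}
    (h : eqD k ts ds B u v = true) : ev (der (ext γ) ds) u = ev (der (ext γ) ds) v :=
  hB.eq (Subgroup.mem_top _) (Subgroup.mem_top _) fun b hb => by
    have := Nat.eq_of_beq_eq_true (allL_iff.1 h b hb)
    rwa [msk_eq, M.apD ds u (ptsOK_lt hp hb), M.apD ds v (ptsOK_lt hp hb)] at this

/-- A list of equations between words in derived letters. -/
noncomputable def rulesD (k : ℕ) (ts : List Tab) (ds : List (List ℕ)) (B : List ℕ)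
    (rs : List (List ℕ × List ℕ)) : Bool :=
  allL rs fun r => eqD k ts ds B r.1 r.2

theorem rulesD_sound {φ : G →* Perm ℕ} {γ : ℕ → G} {k : ℕ} {ns : List Net} {ts : List Tab}
    (M : Model φ γ k ns ts) {B : List ℕ} (hB : IsBase φ ⊤ B)
    (hp : ptsOK k B = true) {ds : List (List ℕ)} {rs : List (List ℕ × List ℕ)}
    (h : rulesD k ts ds B rs = true) :
    ∀ r ∈ rs, ev (der (ext γ) ds) r.1 = ev (der (ext γ) ds) r.2 :=
  fun r hr => eqD_sound M hB hp (allL_iff.1 h r hr)

/-- A word in derived letters moves the point. -/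
noncomputable def movesD (k : ℕ) (ts : List Tab) (ds : List (List ℕ)) (b : ℕ) (u : List ℕ) : Bool :=
  Nat.ble b (msk k) && !(Nat.beq (apD k (msk k) ts ds u b) b)

theorem movesD_sound {φ : G →* Perm ℕ} {γ : ℕ → G} {k : ℕ} {ns : List Net} {ts : List Tab}
    (M : Model φ γ k ns ts) {ds : List (List ℕ)} {b : ℕ} {u : List ℕ}
    (h : movesD k ts ds b u = true) : ev (der (ext γ) ds) u ≠ 1 := by
  intro h1
  rw [movesD, Bool.and_eq_true] at h
  have hb : b < 2 ^ k := lt_of_ble_msk h.1
  have h2 := h.2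
  rw [msk_eq, M.apD ds u hb, h1] at h2
  simp at h2

end Cfsg.Agent.CGT
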