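import Cfsg.Agent.CGT.Net

set_option autoImplicit false

/-! Certified coset enumeration: a coset table is given by swap networks, and its entries are
deduced in parallel, one relator at a time. -/

namespace Cfsg.Agent.CGT

open Equiv

@[simp] theorem land_eq (a b : ℕ) : Nat.land a b = a &&& b := rfl
@[simp] theorem lor_eq (a b : ℕ) : Nat.lor a b = a ||| b := rfl
@[simp] theorem xor_eq (a b : ℕ) : Nat.xor a b = a ^^^ b := rfl
@[simp] theorem shr_eq (a b : ℕ) : Nat.shiftRight a b = a >>> b := rfl
@[simp] theorem shl_eq (a b : ℕ) : Nat.shiftLeft a b = a <<< b := rfl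

theorem perm_apply_inv {α : Type*} (p : Perm α) (i : α) : p (p⁻¹ i) = i := by simp
theorem perm_inv_apply {α : Type*} (p : Perm α) (i : α) : p⁻¹ (p i) = i := by simp

/-- Or the mask `m` into entry `a` of the list and continue. -/
noncomputable def setOr (K : List ℕ) (a m : ℕ) (k : List ℕ → Bool) : Bool :=
  List.rec (motive := fun _ => ℕ → (List ℕ → Bool) → Bool) (fun _ k => k [])
    (fun x r ih a k => Nat.rec ((fun y => frc y (k (y :: r))) (Nat.lor x m))
      (fun a' _ => ih a' (fun r' => k (x :: r'))) a) K a k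

theorem setOr_spec (K : List ℕ) (a m : ℕ) (k : List ℕ → Bool) :
    ∃ K' : List ℕ, setOr K a m k = k K' ∧
      ∀ b i, (nth 0 K' b).testBit i = true → (nth 0 K b).testBit i = true ∨
        (b = a ∧ m.testBit i = true) := by
  induction K generalizing a k with
  | nil => exact ⟨[], rfl, fun b i h => Or.inl h⟩
  | cons x r ih =>
    cases a with
    | zero =>
      refine ⟨(x ||| m) :: r, frc_eq (Nat.lor x m) _, fun b i h => ?_⟩
      cases b with
      | zero =>
        have h' : (x ||| m).testBit i = true := h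
        rw [Nat.testBit_or, Bool.or_eq_true] at h'
        rcases h' with h' | h'
        · exact Or.inl h'
        · exact Or.inr ⟨rfl, h'⟩
      | succ b => exact Or.inl h
    | succ a =>
      obtain ⟨K', h1, h2⟩ := ih a (fun r' => k (x :: r'))
      refine ⟨x :: K', h1, fun b i h => ?_⟩
      cases b with
      | zero => exact Or.inl h
      | succ b =>
        rcases h2 b i h with h' | h'
        · exact Or.inl h'
        · exact Or.inr ⟨by rw [h'.1], h'.2⟩

/-- The nodes from which the path of the word is known. -/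
noncomputable def pk (ns : List Net) (K : List ℕ) (u : List ℕ) (T : ℕ) : ℕ :=
  List.rec (motive := fun _ => ℕ → ℕ) (fun T => T)
    (fun a _ ih T => (fun y => frc y (ih y)) (Nat.land (nth 0 K a) (gat ns a T))) u T

theorem pk_cons (ns : List Net) (K : List ℕ) (a : ℕ) (u : List ℕ) (T : ℕ) :
    pk ns K (a :: u) T = pk ns K u (nth 0 K a &&& gat ns a T) := frc_eq (Nat.land (nth 0 K a) (gat ns a T)) _

/-- The nodes from which the path of the word is known, starting from scratch. -/
noncomputable def pk0 (ns : List Net) (K : List ℕ) (u : List ℕ) (D : ℕ) : ℕ :=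
  List.rec D (fun a u' _ => pk ns K u' (nth 0 K a)) u

/-- The end of the known path of the word from the nodes of `X`. -/
noncomputable def fw (ns : List Net) (K : List ℕ) (q : List ℕ) (X : ℕ) : ℕ :=
  List.rec X (fun a _ ih => frc ih (gat ns (Nat.xor a 1) (Nat.land ih (nth 0 K a)))) q

theorem fw_cons (ns : List Net) (K : List ℕ) (a : ℕ) (q : List ℕ) (X : ℕ) :
    fw ns K (a :: q) X = gat ns (a ^^^ 1) (fw ns K q X &&& nth 0 K a) := frc_eq (fw ns K q X) _

/-- The data of an enumeration. -/
structure Enum where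
  ns : List Net
  R : List (List ℕ)
  Sub : List (List ℕ)
  Ms : List ℕ
  b0 : ℕ

namespace Enum

variable (E : Enum)

/-- One step. The code is `kind + 4 * (j + 1024 * r)`. -/
noncomputable def step (c D : ℕ) (K : List ℕ) (k : ℕ → List ℕ → Bool) : Bool :=
  (fun j r =>
  Nat.rec (motive := fun _ => Bool)
    -- kind 0: relator j rotated by r
    ((fun w => List.rec (motive := fun _ => Bool) (k D K)
      (fun a u _ => setOr K a (gat E.ns a (pk0 E.ns K u D)) (k D)) (List.drop r w ++ List.take r w))
      (nth [] E.R j))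
    (fun c1 _ => Nat.rec (motive := fun _ => Bool)
      -- kind 1: inverse edges
      (setOr K (Nat.xor j 1) (gat E.ns (Nat.xor j 1) (nth 0 K j)) (k D))
      (fun c2 _ => Nat.rec (motive := fun _ => Bool)
        -- kind 2: definitions along letter j, restricted to mask r - 1 when r > 0
        ((fun T0 => (fun T => frc T ((fun D' => frc D' (setOr K j T (k D')))
            (Nat.lor D (gat E.ns (Nat.xor j 1) T))))
          (Nat.rec (motive := fun _ => ℕ) T0 (fun r' _ => Nat.land T0 (nth 0 E.Ms r')) r))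
          (Nat.xor D (Nat.land D (gat E.ns j D))))
        -- kind 3: subgroup word j at position r
        (fun _ _ => (fun h => List.rec (motive := fun _ => Bool) (k D K)
          (fun a q _ => setOr K a (Nat.land (fw E.ns K q (Nat.shiftLeft 1 E.b0))
            (gat E.ns a (pk0 E.ns K (List.take r h) D))) (k D)) (List.drop r h)) (nth [] E.Sub j))
        c2) c1) (Nat.land c 3))
  (Nat.land (Nat.shiftRight c 2) 1023) (Nat.shiftRight c 12)

/-- A list of steps. -/
noncomputable def run (cs : List ℕ) (D : ℕ) (K : List ℕ) (k : ℕ → List ℕ → Bool) : Bool :=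
  List.rec (motive := fun _ => ℕ → List ℕ → Bool) k
    (fun c _ ih D K => E.step c D K ih) cs D K

variable {G : Type*} [Group G]

/-- The hypotheses of an enumeration of the cosets of `H`. -/
structure Hyp (γ : ℕ → G) (H : Subgroup G) : Prop where
  valid : ∃ B, validAll B E.ns = true
  relG : Holds (ext γ) E.R
  relP : Holds (lp E.ns) E.R
  subG : ∀ h ∈ E.Sub, ev (ext γ) h ∈ H
  subP : ∀ h ∈ E.Sub, ev (lp E.ns) h E.b0 = E.b0

/-- `x` leads from node `i` to node `j`. -/
def Good (H : Subgroup G) (D : ℕ) (w : ℕ → G) (x : G) (i j : ℕ) : Prop :=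
  D.testBit i = true ∧ D.testBit j = true ∧ (w j)⁻¹ * x * w i ∈ H

/-- The invariant, for given coset representatives. -/
def InvW (γ : ℕ → G) (H : Subgroup G) (D : ℕ) (K : List ℕ) (w : ℕ → G) : Prop :=
  w E.b0 ∈ H ∧ D.testBit E.b0 = true ∧
    ∀ a i, (nth 0 K a).testBit i = true → Good H D w (ext γ a) i (lp E.ns a i)

/-- The invariant. -/
def Inv (γ : ℕ → G) (H : Subgroup G) (D : ℕ) (K : List ℕ) : Prop := ∃ w, E.InvW γ H D K w

variable {E} {γ : ℕ → G} {H : Subgroup G}

theorem Good.trans {D : ℕ} {w : ℕ → G} {x y : G} {i j l : ℕ} (h1 : Good H D w x i j)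
    (h2 : Good H D w y j l) : Good H D w (y * x) i l := by
  refine ⟨h1.1, h2.2.1, ?_⟩
  have := H.mul_mem h2.2.2 h1.2.2
  convert this using 1; group

theorem Good.symm {D : ℕ} {w : ℕ → G} {x : G} {i j : ℕ} (h1 : Good H D w x i j) :
    Good H D w x⁻¹ j i := by
  refine ⟨h1.2.1, h1.1, ?_⟩
  have := H.inv_mem h1.2.2
  convert this using 1; group

theorem pk_good (hy : E.Hyp γ H) {D : ℕ} {K : List ℕ} {w : ℕ → G} (hw : E.InvW γ H D K w)
    (u p : List ℕ) (T : ℕ)
    (hT : ∀ i, T.testBit i = true → Good H D w (ev (ext γ) p) i (ev (lp E.ns) p i)) :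
    ∀ i, (pk E.ns K u T).testBit i = true →
      Good H D w (ev (ext γ) (p ++ u)) i (ev (lp E.ns) (p ++ u) i) := by
  obtain ⟨B, hB⟩ := hy.valid
  induction u generalizing p T with
  | nil => rw [List.append_nil]; exact hT
  | cons a u ih =>
    rw [pk_cons]
    have := ih (p ++ [a]) (nth 0 K a &&& gat E.ns a T) (fun i hi => by
      rw [Nat.testBit_and, Bool.and_eq_true, testBit_gat hB] at hi
      have h1 := hw.2.2 a i hi.1
      have h2 := hT _ hi.2
      simpa using h1.trans h2)
    simpa using this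

theorem pk_good' (hy : E.Hyp γ H) {D : ℕ} {K : List ℕ} {w : ℕ → G} (hw : E.InvW γ H D K w)
    (u : List ℕ) (i : ℕ) (hi : (pk0 E.ns K u D).testBit i = true) :
    Good H D w (ev (ext γ) u) i (ev (lp E.ns) u i) := by
  cases u with
  | nil => exact ⟨hi, hi, by simp [H.one_mem]⟩
  | cons a u =>
    have := pk_good hy hw u [a] (nth 0 K a) (fun i hi => by simpa using hw.2.2 a i hi) i hi
    simpa using this

theorem lp_xor_one (ns : List Net) (a : ℕ) : lp ns (a ^^^ 1) = (lp ns a)⁻¹ := ext_xor_one _ a

theorem fw_good (hy : E.Hyp γ H) {D : ℕ} {K : List ℕ} {w : ℕ → G} (hw : E.InvW γ H D K w)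
    (q : List ℕ) : ∀ j, (fw E.ns K q (1 <<< E.b0)).testBit j = true →
      j = ev (lp E.ns) q E.b0 ∧ Good H D w (ev (ext γ) q) E.b0 j := by
  obtain ⟨B, hB⟩ := hy.valid
  induction q with
  | nil =>
    intro j hj
    have hj' : (1 <<< E.b0).testBit j = true := hj
    rw [Nat.one_shiftLeft, Nat.testBit_two_pow] at hj'
    have : E.b0 = j := by simpa using hj'
    subst this
    exact ⟨rfl, hw.2.1, hw.2.1, by simp [H.one_mem]⟩
  | cons a q ih =>
    intro j hj
    rw [fw_cons, testBit_gat hB, Nat.testBit_and, Bool.and_eq_true, lp_xor_one] at hj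
    obtain ⟨h1, h2⟩ := ih _ hj.1
    have h3 := hw.2.2 a _ hj.2
    rw [perm_apply_inv] at h3
    refine ⟨?_, ?_⟩
    · rw [ev_cons, Perm.mul_apply, ← h1, perm_apply_inv]
    · simpa using h2.trans h3

theorem inv_setOr {D : ℕ} {K : List ℕ} {w : ℕ → G} (hw : E.InvW γ H D K w) {a m : ℕ}
    (hm : ∀ i, m.testBit i = true → Good H D w (ext γ a) i (lp E.ns a i))
    {k : List ℕ → Bool} (h : setOr K a m k = true) :
    ∃ K', E.Inv γ H D K' ∧ k K' = true := by
  obtain ⟨K', h1, h2⟩ := setOr_spec K a m k
  refine ⟨K', ⟨w, hw.1, hw.2.1, fun b i hb => ?_⟩, h1 ▸ h⟩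
  rcases h2 b i hb with h3 | ⟨rfl, h3⟩
  · exact hw.2.2 b i h3
  · exact hm i h3

theorem rel_good (hy : E.Hyp γ H) {D : ℕ} {K : List ℕ} {w : ℕ → G} (hw : E.InvW γ H D K w)
    {a : ℕ} {u : List ℕ} (hG : ev (ext γ) (a :: u) = 1) (hP : ev (lp E.ns) (a :: u) = 1) (i : ℕ)
    (hi : (gat E.ns a (pk0 E.ns K u D)).testBit i = true) :
    Good H D w (ext γ a) i (lp E.ns a i) := by
  obtain ⟨B, hB⟩ := hy.valid
  rw [testBit_gat hB] at hi
  have h1 := (pk_good' hy hw u _ hi).symm
  rw [ev_cons] at hG hP
  rw [← eq_inv_of_mul_eq_one_left hG, eq_inv_of_mul_eq_one_right hP, perm_inv_apply] at h1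
  exact h1

theorem ev_rot {M : Type*} [Group M] (g : ℕ → M) {w : List ℕ} (h : ev g w = 1) (r : ℕ) :
    ev g (List.drop r w ++ List.take r w) = 1 := by
  rw [← List.take_append_drop r w, ev_append] at h
  rw [ev_append]
  exact mul_eq_one_comm.1 h

theorem holds_nth {M : Type*} [Monoid M] {g : ℕ → M} {R : List (List ℕ)} (h : Holds g R) (j : ℕ) :
    ev g (nth [] R j) = 1 := by
  rw [nth_eq]
  by_cases hj : j < R.length
  · rw [List.getD_eq_getElem _ _ hj]; exact h _ (List.getElem_mem hj)
  · rw [List.getD_eq_default _ _ (by omega)]; rfl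

theorem nth_mem_or {α : Type} (d : α) (l : List α) (j : ℕ) : nth d l j = d ∨ nth d l j ∈ l := by
  rw [nth_eq]
  by_cases hj : j < l.length
  · rw [List.getD_eq_getElem _ _ hj]; exact Or.inr (List.getElem_mem hj)
  · rw [List.getD_eq_default _ _ (by omega)]; exact Or.inl rfl

theorem step_inv (hy : E.Hyp γ H) {c D : ℕ} {K : List ℕ} (hI : E.Inv γ H D K)
    {k : ℕ → List ℕ → Bool} (h : E.step c D K k = true) :
    ∃ D' K', E.Inv γ H D' K' ∧ k D' K' = true := by
  obtain ⟨w, hw⟩ := hI
  obtain ⟨B, hB⟩ := hy.valid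
  unfold step at h
  generalize Nat.land (Nat.shiftRight c 2) 1023 = j at h
  generalize Nat.shiftRight c 12 = r at h
  generalize Nat.land c 3 = t at h
  rcases t with _ | _ | _ | t
  · -- relator
    have hG := ev_rot _ (holds_nth hy.relG j) r
    have hP := ev_rot _ (holds_nth hy.relP j) r
    change List.rec (motive := fun _ => Bool) (k D K)
      (fun a u _ => setOr K a (gat E.ns a (pk0 E.ns K u D)) (k D))
      (List.drop r (nth [] E.R j) ++ List.take r (nth [] E.R j)) = true at h
    generalize List.drop r (nth [] E.R j) ++ List.take r (nth [] E.R j) = v at h hG hP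
    cases v with
    | nil => exact ⟨D, K, ⟨w, hw⟩, h⟩
    | cons a u =>
      obtain ⟨K', h1, h2⟩ := inv_setOr hw (rel_good hy hw hG hP) h
      exact ⟨D, K', h1, h2⟩
  · -- inverse
    change setOr K (j ^^^ 1) (gat E.ns (j ^^^ 1) (nth 0 K j)) (k D) = true at h
    obtain ⟨K', h1, h2⟩ := inv_setOr hw (fun i hi => by
      rw [testBit_gat hB] at hi
      have := (hw.2.2 j _ hi).symm
      rw [← ext_xor_one] at this
      rw [lp_xor_one, perm_apply_inv, ← lp_xor_one] at this
      exact this) h
    exact ⟨D, K', h1, h2⟩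
  · -- definitions
    change frc _ (frc _ (setOr K j _ (k _))) = true at h
    rw [frc_eq, frc_eq] at h
    set T0 := Nat.xor D (Nat.land D (gat E.ns j D)) with hT0
    set T := (Nat.rec (motive := fun _ => ℕ) T0 (fun r' _ => Nat.land T0 (nth 0 E.Ms r')) r) with hT
    have hTT : ∀ i, T.testBit i = true → T0.testBit i = true := by
      intro i hi
      cases r with
      | zero => exact hi
      | succ r' =>
        have hi' : (T0 &&& nth 0 E.Ms r').testBit i = true := hi
        rw [Nat.testBit_and, Bool.and_eq_true] at hi'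
        exact hi'.1
    have hT1 : ∀ i, T.testBit i = true → D.testBit i = true ∧ D.testBit (lp E.ns j i) = false := by
      intro i hi
      have := hTT i hi
      rw [hT0, xor_eq, land_eq, Nat.testBit_xor, Nat.testBit_and, testBit_gat hB] at this
      revert this
      cases D.testBit i <;> cases D.testBit (lp E.ns j i) <;> simp
    set D' := Nat.lor D (gat E.ns (Nat.xor j 1) T) with hD'
    have hDD : ∀ i, D.testBit i = true → D'.testBit i = true := by
      intro i hi
      rw [hD', lor_eq, Nat.testBit_or, hi, Bool.true_or]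
    let w' : ℕ → G := fun i => if D.testBit i = true then w i else ext γ j * w ((lp E.ns j)⁻¹ i)
    have hw' : E.InvW γ H D' K w' := by
      refine ⟨by simpa [w', hw.2.1] using hw.1, hDD _ hw.2.1, fun a i hi => ?_⟩
      obtain ⟨h1, h2, h3⟩ := hw.2.2 a i hi
      exact ⟨hDD _ h1, hDD _ h2, by simpa [w', h1, h2] using h3⟩
    obtain ⟨K', h1, h2⟩ := inv_setOr hw' (fun i hi => by
      obtain ⟨h1, h2⟩ := hT1 i hi
      refine ⟨hDD _ h1, ?_, ?_⟩
      · rw [hD', lor_eq, Nat.testBit_or, testBit_gat hB, xor_eq, lp_xor_one, perm_inv_apply, hi,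
          Bool.or_true]
      · simp [w', h1, h2, H.one_mem]) h
    exact ⟨D', K', h1, h2⟩
  · -- subgroup word
    change List.rec (motive := fun _ => Bool) (k D K)
          (fun a q _ => setOr K a (Nat.land (fw E.ns K q (Nat.shiftLeft 1 E.b0))
            (gat E.ns a (pk0 E.ns K (List.take r (nth [] E.Sub j)) D))) (k D))
            (List.drop r (nth [] E.Sub j)) = true at h
    have hG : ev (ext γ) (nth [] E.Sub j) ∈ H := by
      rcases nth_mem_or [] E.Sub j with h' | h'
      · rw [h']; exact H.one_mem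
      · exact hy.subG _ h'
    have hP : ev (lp E.ns) (nth [] E.Sub j) E.b0 = E.b0 := by
      rcases nth_mem_or [] E.Sub j with h' | h'
      · rw [h']; rfl
      · exact hy.subP _ h'
    rw [← List.take_append_drop r (nth [] E.Sub j)] at hG hP
    generalize List.drop r (nth [] E.Sub j) = v at h hG hP
    generalize List.take r (nth [] E.Sub j) = p at h hG hP
    cases v with
    | nil => exact ⟨D, K, ⟨w, hw⟩, h⟩
    | cons a q =>
      obtain ⟨K', h1, h2⟩ := inv_setOr hw (fun i hi => by
        rw [land_eq, Nat.testBit_and, Bool.and_eq_true, testBit_gat hB] at hi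
        obtain ⟨e1, g1⟩ := fw_good hy hw q i hi.1
        have g2 := pk_good' hy hw p _ hi.2
        have e2 : ev (lp E.ns) p (lp E.ns a i) = E.b0 := by
          rw [e1]; simpa using hP
        rw [e2] at g2
        refine ⟨g1.2.1, g2.1, ?_⟩
        have := H.mul_mem (H.mul_mem (H.mul_mem (H.mul_mem (H.inv_mem g2.2.2) (H.inv_mem hw.1)) hG)
          hw.1) (H.inv_mem g1.2.2)
        convert this using 1
        simp only [ev_append, ev_cons]; group) h
      exact ⟨D, K', h1, h2⟩

theorem run_inv (hy : E.Hyp γ H) {cs : List ℕ} {D : ℕ} {K : List ℕ} (hI : E.Inv γ H D K)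
    {k : ℕ → List ℕ → Bool} (h : E.run cs D K k = true) :
    ∃ D' K', E.Inv γ H D' K' ∧ k D' K' = true := by
  induction cs generalizing D K with
  | nil => exact ⟨D, K, hI, h⟩
  | cons c cs ih =>
    obtain ⟨D', K', h1, h2⟩ := step_inv hy hI (k := fun D K => E.run cs D K k) h
    exact ih h1 h2

theorem nth_replicate_zero (n a : ℕ) : nth 0 (List.replicate n 0) a = 0 := by
  rcases nth_mem_or 0 (List.replicate n 0) a with h | h
  · exact h
  · exact List.eq_of_mem_replicate h

theorem inv_init (n : ℕ) : E.Inv γ H (1 <<< E.b0) (List.replicate n 0) :=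
  ⟨fun _ => 1, H.one_mem, by simp [Nat.one_shiftLeft], fun a i hi => by
    rw [nth_replicate_zero] at hi; simp at hi⟩

end Enum

/-- Equality of lists of numbers, for the kernel. -/
noncomputable def beqL (l l' : List ℕ) : Bool :=
  List.rec (motive := fun _ => List ℕ → Bool)
    (fun l' => List.rec true (fun _ _ _ => false) l')
    (fun a _ ih l' => List.rec false (fun b r' _ => Nat.beq a b && ih r') l') l l'

theorem beqL_sound {l l' : List ℕ} (h : beqL l l' = true) : l = l' := by
  induction l generalizing l' with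
  | nil => cases l' with
    | nil => rfl
    | cons b r => exact absurd h (by simp [beqL])
  | cons a l ih => cases l' with
    | nil => exact absurd h (by simp [beqL])
    | cons b r =>
      have h' : (Nat.beq a b && beqL l r) = true := h
      rw [Bool.and_eq_true, Nat.beq_eq] at h'
      rw [h'.1, ih h'.2]

namespace Enum

variable {G : Type*} [Group G] {E : Enum} {γ : ℕ → G} {H : Subgroup G}

/-- Continue an enumeration up to a recorded state. -/
theorem run_to (hy : E.Hyp γ H) {cs : List ℕ} {D D1 : ℕ} {K K1 : List ℕ} (hI : E.Inv γ H D K)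
    (h : E.run cs D K (fun D' K' => Nat.beq D' D1 && beqL K' K1) = true) : E.Inv γ H D1 K1 := by
  obtain ⟨D', K', h1, h2⟩ := run_inv hy hI h
  rw [Bool.and_eq_true, Nat.beq_eq] at h2
  rw [← h2.1, ← beqL_sound h2.2]; exact h1

/-- The final test: the nodes are `0, …, N-1` and all edges with letters in `L` are known. -/
noncomputable def done (N : ℕ) (L : List ℕ) (D : ℕ) (K : List ℕ) : Bool :=
  Nat.beq D (Nat.sub (Nat.pow 2 N) 1) && allL L fun a => Nat.beq (Nat.land D (nth 0 K a)) D

/-- The outcome of an enumeration. -/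
def Closed (E : Enum) (γ : ℕ → G) (H : Subgroup G) (N : ℕ) (L : List ℕ) : Prop :=
  ∃ w : ℕ → G, ∀ u : List ℕ, (∀ a ∈ u, a ∈ L) →
    ev (lp E.ns) u E.b0 < N ∧ (w (ev (lp E.ns) u E.b0))⁻¹ * ev (ext γ) u ∈ H

theorem closed_of_run (hy : E.Hyp γ H) {cs : List ℕ} {D : ℕ} {K : List ℕ} (hI : E.Inv γ H D K)
    {N : ℕ} {L : List ℕ} (h : E.run cs D K (done N L) = true) : E.Closed γ H N L := by
  obtain ⟨D', K', ⟨w, hw⟩, h2⟩ := run_inv hy hI h
  unfold done at h2
  rw [Bool.and_eq_true, Nat.beq_eq, allL_iff] at h2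
  have hD : ∀ i, D'.testBit i = true → i < N := by
    intro i hi
    rw [h2.1] at hi
    have : (2 ^ N - 1).testBit i = true := hi
    simpa using this
  have key : ∀ u : List ℕ, (∀ a ∈ u, a ∈ L) →
      Good H D' w (ev (ext γ) u) E.b0 (ev (lp E.ns) u E.b0) := by
    intro u hu
    induction u with
    | nil => exact ⟨hw.2.1, hw.2.1, by simp [H.one_mem]⟩
    | cons a u ih =>
      have h1 := ih fun b hb => hu b (by simp [hb])
      have h3 := h2.2 a (hu a (by simp))
      rw [Nat.beq_eq, land_eq] at h3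
      have h4 : (nth 0 K' a).testBit (ev (lp E.ns) u E.b0) = true := by
        have := h1.2.1
        rw [← h3, Nat.testBit_and, Bool.and_eq_true] at this
        exact this.2
      simpa using h1.trans (hw.2.2 a _ h4)
  refine ⟨w, fun u hu => ⟨hD _ (key u hu).2.1, ?_⟩⟩
  have := H.mul_mem (key u hu).2.2 (H.inv_mem hw.1)
  simpa using this

theorem Closed.mem {N : ℕ} {L : List ℕ} (h : E.Closed γ H N L) {u v : List ℕ}
    (hu : ∀ a ∈ u, a ∈ L) (hv : ∀ a ∈ v, a ∈ L)
    (e : ev (lp E.ns) u E.b0 = ev (lp E.ns) v E.b0) : (ev (ext γ) u)⁻¹ * ev (ext γ) v ∈ H := by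
  obtain ⟨w, hw⟩ := h
  have h1 := (hw u hu).2
  have h2 := (hw v hv).2
  rw [e] at h1
  have := H.mul_mem (H.inv_mem h1) h2
  convert this using 1; group

end Enum

end Cfsg.Agent.CGT
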