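import Cfsg.Agent.CGT.Conj

set_option autoImplicit false
set_option linter.style.haveILetI false

/-! Relators that follow from a faithful model of a subgroup; derived subgroups of index two. -/

namespace Cfsg.Agent.CGT

open Equiv

variable {G : Type*} [Group G]

/-- A word in a subgroup of bounded order that is trivial in a model of this order. -/
theorem triv_of_model {γ : ℕ → G} {k : ℕ} {ns : List Net} {ls : List Level} {L w : List ℕ} {m : ℕ}
    (hb : Bd (gp (fun j => (γ j, netPerm ns j)) L) m)
    (hs : ChainSound (MonoidHom.snd G (Perm ℕ)) (gp (fun j => (γ j, netPerm ns j)) L) k [] ls)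
    (e : Nat.ble m (chainCard ls) = true)
    (hw : ev (ext fun j => (γ j, netPerm ns j)) w ∈ gp (fun j => (γ j, netPerm ns j)) L)
    (h1 : ev (lp ns) w = 1) : ev (ext γ) w = 1 := by
  haveI := hb.1
  have h2 := map_ev (ext fun j => (γ j, netPerm ns j)) (MonoidHom.snd G (Perm ℕ)) w
  have h3 := map_ev (ext fun j => (γ j, netPerm ns j)) (MonoidHom.fst G (Perm ℕ)) w
  simp only [map_ext] at h2 h3
  have h4 := (chain_main hs (hb.2.trans (Nat.le_of_ble_eq_true e))).2.2 _ hw fun b _ => by
    rw [h2.trans h1]; rfl
  rw [h4, map_one] at h3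
  exact h3.symm

/-- Concatenation of networks. -/
noncomputable def Net.app (n n' : Net) : Net := Net.rec n' (fun s m _ ih => Net.cons s m ih) n

theorem Net.perm_app (n n' : Net) : (n.app n').perm = n.perm * n'.perm := by
  induction n with
  | nil => exact (one_mul _).symm
  | cons s m r ih => exact (congrArg (swP s m * ·) ih).trans (mul_assoc _ _ _).symm

/-- The networks for the products of the first letter with the others. -/
noncomputable def prodNets (ns : List Net) : List Net := ns.tail.map (nth Net.nil ns 0).app

theorem netPerm_prodNets (ns : List Net) {j : ℕ} (hj : j + 1 < ns.length) :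
    netPerm (prodNets ns) j = netPerm ns 0 * netPerm ns (j + 1) := by
  rw [netPerm, netPerm, netPerm, ← Net.perm_app, prodNets, nth_eq, nth_eq _ ns (j + 1),
    List.getD_eq_getElem _ _ (by simp; omega), List.getD_eq_getElem _ _ hj]
  simp

theorem ab_eq {x y : G} (hx : x * x = 1) (hy : y * y = 1) (h : x * (y * (x * (y * (x * y)))) = 1) :
    Abelianization.of x = Abelianization.of y := by
  have h1 := congrArg Abelianization.of hx
  have h2 := congrArg Abelianization.of hy
  have h3 := congrArg Abelianization.of h
  simp only [map_mul, map_one] at h1 h2 h3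
  generalize Abelianization.of x = a, Abelianization.of y = b at *
  have h4 : a * (b * (a * (b * (a * b)))) = (a * a) * (b * b) * (a * b) := by
    simp only [mul_comm, mul_left_comm]
  rw [h4, h1, h2, one_mul, one_mul] at h3
  exact (eq_inv_of_mul_eq_one_left h3).trans (eq_inv_of_mul_eq_one_left h2).symm

theorem mul_mem_commutator {x y : G} (hy : y * y = 1) (h : Abelianization.of x = Abelianization.of y) :
    x * y ∈ commutator G := by
  rw [← Abelianization.ker_of, MonoidHom.mem_ker, map_mul, h, ← map_mul, hy, map_one]

theorem card_commutator_le [Finite G] {m : ℕ} (h : Nat.card G ≤ 2 * m) (f : G →* ℤˣ) {x : G}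
    (hx : f x ≠ 1) : Finite (commutator G) ∧ Nat.card (commutator G) ≤ m := by
  refine ⟨inferInstance, ?_⟩
  have h1 : commutator G ≠ ⊤ := fun e =>
    hx (Abelianization.commutator_subset_ker f (e ▸ Subgroup.mem_top x))
  have h2 := (commutator G).card_mul_index
  have h3 := mt Subgroup.index_eq_one.1 h1
  have h4 := (commutator G).index_ne_zero_of_finite
  have h5 : Nat.card (commutator G) * 2 ≤ Nat.card (commutator G) * (commutator G).index :=
    Nat.mul_le_mul_left _ (by omega)
  omega

/-- The parity of words. -/
theorem holds_parity {m : ℕ} {R : List (List ℕ)}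
    (h : allL R (fun r => Nat.beq (r.length % 2) 0 && allL r fun a => Nat.blt (a / 2) m) = true) :
    Holds (ext fun j => if j < m then (-1 : ℤˣ) else 1) R := fun r hr => by
  have h1 := allL_iff.1 h r hr
  simp only [Bool.and_eq_true, Nat.beq_eq, allL_iff, Nat.blt_eq] at h1
  have h2 : ∀ w : List ℕ, (∀ a ∈ w, a / 2 < m) →
      ev (ext fun j => if j < m then (-1 : ℤˣ) else 1) w = (-1) ^ w.length := fun w hw => by
    induction w with
    | nil => rfl
    | cons a w ih =>
      rw [ev_cons, ih fun b hb => hw b (by simp [hb]), List.length_cons, pow_succ']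
      congr 1
      have := hw a (by simp)
      obtain ⟨j, rfl | rfl⟩ := Nat.even_or_odd' a
      · rw [ext_two_mul, if_pos (by omega)]
      · rw [ext_two_mul_add_one, if_pos (by omega)]; rfl
  rw [h2 r h1.2, Even.neg_one_pow (Nat.even_iff.2 h1.1)]

end Cfsg.Agent.CGT
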