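import Cfsg.Agent.CGT.Mat3

set_option autoImplicit false

/-! The action of a group by conjugation on a generating family. -/

namespace Cfsg.Agent.CGT

open Equiv

variable {G : Type*} [Group G]

/-- A spanning tree: every point but `b` is the image of a point of smaller rank. -/
noncomputable def treeB (k N b : ℕ) (ts : List Tab) (L rk par ltr : List ℕ) : Bool :=
  allLt N fun i => Nat.beq i b || (Nat.blt (nth 0 rk (nth 0 par i)) (nth 0 rk i) &&
    (Nat.blt (nth 0 par i) N && (memL (nth 0 ltr i) L &&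
    Nat.beq (ap k (2 ^ k - 1) ts [nth 0 ltr i] (nth 0 par i)) i)))

theorem treeB_sound {k N b : ℕ} {ns : List Net} {ts : List Tab} (hv : validAll (2 ^ k) ns = true)
    (ht : TabsOK k (lp ns) ts) (hN : N ≤ 2 ^ k) {L rk par ltr : List ℕ}
    (h : treeB k N b ts L rk par ltr = true) {P : ℕ → Prop} (hb : P b)
    (hs : ∀ a ∈ L, ∀ i < N, P i → P (lp ns a i)) : ∀ i < N, P i := by
  intro i
  induction hr : nth 0 rk i using Nat.strong_induction_on generalizing i with
  | _ r ih =>
    intro hi
    have h1 := allLt_iff.1 h i hi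
    simp only [Bool.or_eq_true, Bool.and_eq_true, Nat.beq_eq, Nat.blt_eq] at h1
    rcases h1 with rfl | ⟨h1, h2, h3, h4⟩
    · exact hb
    · rw [ap_eq hv ht _ (by omega), ev_singleton] at h4
      rw [← h4]
      exact hs _ (memL_sound h3) _ h2 (ih _ (hr ▸ h1) _ rfl h2)

/-- The faithful model of the central quotient on a conjugation invariant generating family. -/
theorem conj_model {γ t : ℕ → G} {L : List ℕ} (gen : gp γ L = ⊤) {N : ℕ} {p : ℕ → Perm ℕ}
    (hinj : ∀ i j, i < N → j < N → t i = t j → i = j)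
    (hL : ∀ a ∈ L, ∃ i < N, ext γ a = t i) (hfix : ∀ j, p j ∈ bddPerm N)
    (hact : ∀ j, ∀ i < N, γ j * t i * (γ j)⁻¹ = t (p j i)) :
    ∃ φ : G ⧸ Subgroup.center G →* Perm ℕ, Function.Injective φ ∧
      ∀ j, φ (qg (Subgroup.center G) γ j) = p j := by
  obtain ⟨φ, h1, h2⟩ := exists_hom_rel gen (N := N) (p := p) (fun g i j => g * t i * g⁻¹ = t j)
    (by simp) (fun x y i j l _ _ _ h h' => by rw [← h', ← h]; group)
    (fun x i j _ _ h => by rw [← h]; group) (fun i j hi hj h => hinj i j hi hj (by simpa using h))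
    hfix hact
  have h3 : Subgroup.center G = φ.ker := by
    refine le_antisymm (fun z hz => Equiv.ext fun i => ?_) fun z hz => ?_
    · by_cases hi : i < N
      · refine (hinj _ _ hi (bddPerm_lt (h2 z).1 hi) ?_).symm
        rw [← (h2 z).2 i hi, ← Subgroup.mem_center_iff.1 hz, mul_inv_cancel_right]
      · exact (h2 z).1 i (by omega)
    · have h4 : gp γ L ≤ Subgroup.centralizer {z} := gp_le fun a ha => by
        obtain ⟨i, hi, e⟩ := hL a ha
        have h5 := (h2 z).2 i hi
        rw [show φ z = 1 from hz, Perm.one_apply] at h5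
        rw [Subgroup.mem_centralizer_singleton_iff, e]
        exact (mul_inv_eq_iff_eq_mul.1 h5).symm
      rw [gen] at h4
      exact Subgroup.mem_center_iff.2 fun g => Subgroup.mem_centralizer_singleton_iff.1 (h4 trivial)
  exact ⟨QuotientGroup.lift _ φ h3.le, (QuotientGroup.injective_lift_iff _ φ h3.le).2 h3,
    fun j => h1 j⟩

end Cfsg.Agent.CGT
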