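import Cfsg.Agent.CGT.Mat3

set_option autoImplicit false
set_option linter.style.haveILetI false

/-! Models when the generation is not yet known; bounds from invariants. -/

namespace Cfsg.Agent.CGT

open Equiv Matrix

variable {G : Type*} [Group G]

theorem exists_hom_all {N : ℕ} (r : G → ℕ → ℕ → Prop) (h1 : ∀ i < N, r 1 i i)
    (hmul : ∀ x y i j l, r y i j → r x j l → r (x * y) i l)
    (huniq : ∀ x i j l, i < N → j < N → l < N → r x i j → r x i l → j = l)
    (hex : ∀ x, ∀ i < N, ∃ j < N, r x i j) :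
    ∃ φ : G →* Perm ℕ, ∀ g, φ g ∈ bddPerm N ∧ ∀ i < N, r g i (φ g i) := by
  choose! f f1 f2 using hex
  let F : G →* Function.End ℕ :=
    { toFun := fun g i => if i < N then f g i else i
      map_one' := funext fun i => by
        change (if i < N then f 1 i else i) = i
        split_ifs with h
        · exact huniq 1 i _ _ h (f1 1 i h) h (f2 1 i h) (h1 i h)
        · rfl
      map_mul' := fun x y => funext fun i => by
        change (if i < N then f (x * y) i else i) =
          (fun i => if i < N then f x i else i) (if i < N then f y i else i)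
        by_cases h : i < N
        · simp only [if_pos h, if_pos (f1 y i h)]
          exact huniq _ i _ _ h (f1 _ i h) (f1 _ _ (f1 y i h)) (f2 _ i h)
            (hmul _ _ _ _ _ (f2 y i h) (f2 x _ (f1 y i h)))
        · simp only [if_neg h] }
  refine ⟨F.toHomPerm, fun g => ⟨fun i hi => ?_, fun i hi => ?_⟩⟩
  · exact if_neg (by omega)
  · have : F.toHomPerm g i = f g i := if_pos hi
    rw [this]; exact f2 g i hi

/-- A bound for an index from an invariant. -/
theorem Bd.rel {K K' : Subgroup G} {O d n m : ℕ} (hO : O >>> (2 ^ (d + 3)) = 0) (hn : popc d O ≤ n)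
    (r : G → ℕ → Prop) (h1 : ∀ g ∈ K, ∃ i, O.testBit i = true ∧ r g i)
    (h2 : ∀ g ∈ K, ∀ g' ∈ K, ∀ i, r g i → r g' i → g⁻¹ * g' ∈ K') (h : Bd K' m) : Bd K (n * m) := by
  choose! f f1 f2 using h1
  let H := K'.subgroupOf K
  let c : K ⧸ H → {i | O.testBit i = true} := fun q => ⟨f q.out, f1 _ q.out.2⟩
  have hc : Function.Injective c := fun q q' e => by
    have e' : f q.out = f q'.out := congrArg Subtype.val e
    rw [← q.out_eq', ← q'.out_eq', QuotientGroup.eq]
    exact h2 _ q.out.2 _ q'.out.2 _ (f2 _ q.out.2) (e' ▸ f2 _ q'.out.2)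
  haveI : Finite {i | O.testBit i = true} := finite_bits O
  haveI := Finite.of_injective c hc
  haveI := h.1
  have hH : Function.Injective fun x : H => (⟨x.1.1, x.2⟩ : K') := fun x y e =>
    Subtype.ext (Subtype.ext (congrArg (fun z : K' => (z : G)) e))
  haveI := Finite.of_injective _ hH
  refine ⟨Finite.of_equiv _ (Subgroup.groupEquivQuotientProdSubgroup (s := H)).symm, ?_⟩
  rw [Subgroup.card_eq_card_quotient_mul_card_subgroup H]
  refine Nat.mul_le_mul ((Nat.card_le_card_of_injective c hc).trans ?_)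
    ((Nat.card_le_card_of_injective _ hH).trans h.2)
  rw [Nat.card_coe_set_eq, ncard_bits hO]
  exact hn

theorem grow_ind {B : ℕ} {ns : List Net} (hv : validAll B ns = true) {S : List (List ℕ)} {P : ℕ → Prop}
    (hs : ∀ u ∈ S, ∀ j, P (ev (lp ns) u j) → P j) (cs : List ℕ) {O : ℕ}
    (hO : ∀ j, O.testBit j = true → P j) : ∀ j, (grow ns S cs O).testBit j = true → P j := by
  induction cs generalizing O with
  | nil => exact hO
  | cons c cs ih =>
    rw [grow_cons]
    refine ih fun j hj => ?_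
    rw [Nat.testBit_or, Bool.or_eq_true, testBit_gatW hv] at hj
    rcases hj with hj | hj
    · exact hO j hj
    · rcases Enum.nth_mem_or [] S c with h' | h'
      · rw [h'] at hj; exact hO j hj
      · exact hs _ h' j (hO _ hj)

namespace FT

variable {T : FT} {F ι : Type*} [Field F] {e : ℕ → F} {d : ℕ} {σ : ι ≃ Fin d} [Fintype ι] [DecidableEq ι]
  {Γ : Type*} [Group Γ]

theorem act_sound (hT : T.OK e) (ρ : Γ →* Matrix ι ι F) {γ : ℕ → Γ}
    {As : List (List ℕ)} (hg : T.Lets e σ (fun a => ρ (ext γ a)) As)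
    {ns : List Net} (hl : As.length = 2 * ns.length) (h1 : ∀ j, ns.length ≤ j → γ j = 1) {k N : ℕ}
    (hv : validAll (2 ^ k) ns = true) {P : List (List ℕ)}
    (hP : T.ptsB d N P = true) {Λ : List ℕ} (ha : ∀ j < ns.length, T.actB d N Λ ns As P j = true)
    (j i : ℕ) (hi : i < N) : ∃ a : F, ρ (γ j) *ᵥ pt e σ P i = a • pt e σ P (netPerm ns j i) := by
  obtain ⟨p1, -, -⟩ := ptsB_sound (σ := σ) hT hP
  by_cases hj : j < ns.length
  · have h4 := hg (2 * j) (by omega)
    obtain ⟨Y, h5, h6⟩ := mulM_sound hT (ha j hj) h4.1 p1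
    obtain ⟨Z, h7, h8⟩ := gatK_sound hv h5 p1
    obtain ⟨l, -, h9⟩ := agree_sound hT h7 h6 h8 hi
    refine ⟨e l, ?_⟩
    have h10 := h4.2
    simp only [ext_two_mul] at h10
    rw [h10]
    simpa only [lp, show Nat.mul 2 j = 2 * j from rfl, ext_two_mul] using h9
  · exact ⟨1, by simp [h1 j (by omega), netPerm_of_le ns (show ns.length ≤ j by omega)]⟩

theorem exists_model' (hT : T.OK e) (ρ : Γ →* Matrix ι ι F) {γ : ℕ → Γ} {ns : List Net} {k N : ℕ}
    (hv : validAll (2 ^ k) ns = true) (hf : fixAbove k N ns = true) {P : List (List ℕ)}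
    (hP : T.ptsB d N P = true)
    (ha : ∀ j, ∀ i < N, ∃ a : F, ρ (γ j) *ᵥ pt e σ P i = a • pt e σ P (netPerm ns j i))
    (hall : ∀ g, ∀ i < N, ∃ j < N, ∃ a : F, ρ g *ᵥ pt e σ P i = a • pt e σ P j) :
    ∃ φ : Γ →* Perm ℕ, (∀ j, φ (γ j) = netPerm ns j) ∧ ∀ g, φ g ∈ bddPerm N := by
  obtain ⟨-, p2, p3⟩ := ptsB_sound (σ := σ) hT hP
  have hu : ∀ x i j l, i < N → j < N → l < N → (∃ a : F, ρ x *ᵥ pt e σ P i = a • pt e σ P j) →
      (∃ a : F, ρ x *ᵥ pt e σ P i = a • pt e σ P l) → j = l := fun x i j l hi hj hl ⟨a, h⟩ ⟨b, h'⟩ => by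
    have h5 : a ≠ 0 := fun h0 => p2 i hi (by
      rw [← one_mulVec (pt e σ P i), ← map_one ρ, ← inv_mul_cancel x, map_mul, ← mulVec_mulVec, h, h0,
        zero_smul, mulVec_zero])
    exact p3 j l hj hl (a⁻¹ * b) (by rw [mul_smul, ← h', h, inv_smul_smul₀ h5])
  obtain ⟨φ, h⟩ := exists_hom_all (N := N) (fun g i j => ∃ a : F, ρ g *ᵥ pt e σ P i = a • pt e σ P j)
    (fun _ _ => ⟨1, by simp⟩) (fun _ _ _ _ _ ⟨a, h⟩ ⟨b, h'⟩ => ⟨a * b, by
      rw [map_mul, ← mulVec_mulVec, h, mulVec_smul, h', mul_smul]⟩) hu hall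
  refine ⟨φ, fun j => Equiv.ext fun i => ?_, fun g => (h g).1⟩
  have h2 := fixAbove_sound hv hf j
  by_cases hi : i < N
  · exact hu _ i _ _ hi (bddPerm_lt (h _).1 hi) (bddPerm_lt h2 hi) ((h _).2 i hi) (ha j i hi)
  · rw [(h _).1 i (by omega), h2 i (by omega)]

end FT

end Cfsg.Agent.CGT
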