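import Cfsg.Agent.CGT.Out
import Cfsg.Agent.CGT.Mat4

set_option autoImplicit false
set_option linter.style.haveILetI false

/-! Double coset enumeration for a group generated by the image of a known finite group and one
further element, with central tails. -/

namespace Cfsg.Agent.CGT

open Equiv

/-! ### Tails -/

noncomputable def addZ (u v : List ℤ) : List ℤ :=
  List.rec (motive := fun _ => List ℤ → List ℤ) (fun v => v)
    (fun a u' ih v => List.rec (a :: u') (fun b r _ => Int.add a b :: ih r) v) u v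

noncomputable def smulZ (n : ℤ) (u : List ℤ) : List ℤ :=
  List.rec [] (fun a _ ih => Int.mul n a :: ih) u

noncomputable def zeroZ (u : List ℤ) : Bool := allL u fun a => Nat.beq (Int.natAbs a) 0

/-- The value of a tail. -/
def tv {A : Type*} [CommGroup A] (c : ℕ → A) : List ℤ → ℕ → A
  | [], _ => 1
  | a :: u, i => c i ^ a * tv c u (i + 1)

section
variable {A : Type*} [CommGroup A] (c : ℕ → A)

theorem tv_addZ (u v : List ℤ) (i : ℕ) : tv c (addZ u v) i = tv c u i * tv c v i := by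
  induction u generalizing v i with
  | nil => exact (one_mul _).symm
  | cons a u ih =>
    cases v with
    | nil => exact (mul_one _).symm
    | cons b v =>
      show c i ^ (a + b) * tv c (addZ u v) (i + 1) = c i ^ a * _ * (c i ^ b * _)
      rw [ih, zpow_add, mul_mul_mul_comm]

theorem tv_smulZ (n : ℤ) (u : List ℤ) (i : ℕ) : tv c (smulZ n u) i = tv c u i ^ n := by
  induction u generalizing i with
  | nil => exact (one_zpow _).symm
  | cons a u ih =>
    show c i ^ (n * a) * tv c (smulZ n u) (i + 1) = (c i ^ a * _) ^ n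
    rw [ih, mul_zpow, mul_comm n a, zpow_mul]

theorem tv_zeroZ {u : List ℤ} (h : zeroZ u = true) (i : ℕ) : tv c u i = 1 := by
  induction u generalizing i with
  | nil => rfl
  | cons a u ih =>
    have h' := allL_iff.1 h
    have h1 : a = 0 := Int.natAbs_eq_zero.1 (Nat.eq_of_beq_eq_true (h' a (by simp)))
    rw [tv, h1, zpow_zero, one_mul]
    exact ih (allL_iff.2 fun b hb => h' b (by simp [hb])) _

theorem tv_unit (n i : ℕ) : tv c (List.replicate n 0 ++ [1]) i = c (i + n) := by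
  induction n generalizing i with
  | zero => simp [tv]
  | succ n ih =>
    rw [List.replicate_succ, List.cons_append, tv, ih, zpow_zero, one_mul]
    congr 1; omega

end

/-- Binary trees for lookup. -/
inductive BT (α : Type) : Type
  | leaf (a : α) : BT α
  | node (h : ℕ) (l r : BT α) : BT α

noncomputable def BT.get {α : Type} (t : BT α) (i : ℕ) : α :=
  BT.rec (motive := fun _ => ℕ → α) (fun a _ => a)
    (fun h _ _ il ir i => Bool.rec (il i) (ir (Nat.sub i h)) (Nat.ble h i)) t i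

/-- `W a H = p W b H`, or `W a H = p z q W b H` if `j`. -/
structure Fct where
  a : ℕ
  b : ℕ
  j : Bool
  p : List ℕ
  q : List ℕ
  t : List ℤ

/-- A proof: kind (`0` definition, `1` axiom at the first node, `2`, `3` loops, `4` assumed),
references in reverse order, relator, rotation, words in the letters of `L`. -/
structure Pf where
  kind : ℕ
  rs : List ℕ
  ρ : ℕ
  rot : ℕ
  ls : List (List ℕ)

structure Dce where
  k : ℕ
  ts : List Tab
  B : List ℕ
  P : List ℕ
  Q : List ℕ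
  e : List ℤ
  LW : List (List ℕ)
  TW : List (List ℕ)
  LT : List (List ℤ)
  R : List (List (List ℕ))
  RT : List (List ℤ)
  F : BT Fct
  df : List ℕ
  ax : List ℕ

/-- The groups and elements. -/
structure Ctx (K Γ A : Type*) [Group K] [Group Γ] [CommGroup A] where
  φ : K →* Perm ℕ
  γ : ℕ → K
  σ : K →* Γ
  z : Γ
  ι : A →* Γ
  c : ℕ → A
  H : Subgroup Γ

namespace Ctx

variable {K Γ A : Type*} [Group K] [Group Γ] [CommGroup A] (X : Ctx K Γ A)

noncomputable def s (w : List ℕ) : Γ := X.σ (ev (ext X.γ) w)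

def τ (v : List ℤ) : Γ := X.ι (tv X.c v 0)

noncomputable def zs : List (List ℕ) → Γ
  | [] => 1
  | x :: xs => X.z * X.s x * zs xs

@[simp] theorem s_nil : X.s [] = 1 := map_one _
@[simp] theorem s_app (u v : List ℕ) : X.s (app u v) = X.s u * X.s v := by
  rw [s, ev_app, map_mul]; rfl
@[simp] theorem s_invW (u : List ℕ) : X.s (invW u) = (X.s u)⁻¹ := by rw [s, ev_invW, map_inv]; rfl
@[simp] theorem τ_nil : X.τ [] = 1 := map_one _
theorem τ_addZ (u v : List ℤ) : X.τ (addZ u v) = X.τ u * X.τ v := by rw [τ, tv_addZ, map_mul]; rfl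
theorem τ_smulZ (n : ℤ) (u : List ℤ) : X.τ (smulZ n u) = X.τ u ^ n := by
  rw [τ, tv_smulZ, map_zpow]; rfl
theorem τ_zeroZ {u : List ℤ} (h : zeroZ u = true) : X.τ u = 1 := by rw [τ, tv_zeroZ _ h, map_one]

theorem zs_append (u v : List (List ℕ)) : X.zs (u ++ v) = X.zs u * X.zs v := by
  induction u with
  | nil => exact (one_mul _).symm
  | cons x u ih => rw [List.cons_append, zs, zs, ih]; group

noncomputable def g (f : Fct) : Γ := if f.j then X.s f.p * X.z * X.s f.q else X.s f.p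

end Ctx

namespace Dce

variable {K Γ A : Type*} [Group K] [Group Γ] [CommGroup A] (D : Dce) (X : Ctx K Γ A)

/-- The representatives of the nodes. -/
noncomputable def W (n : ℕ) : Γ :=
  if _h : (D.F.get (nth 0 D.df n)).a < n then
    (X.g (D.F.get (nth 0 D.df n)))⁻¹ * W (D.F.get (nth 0 D.df n)).a else 1
termination_by n

theorem W_zero : D.W X 0 = 1 := by rw [W, dif_neg (Nat.not_lt_zero _)]

def Rel (a : ℕ) (g : Γ) (b : ℕ) (t : List ℤ) : Prop := (D.W X a)⁻¹ * g * D.W X b * X.τ t ∈ X.H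

def Ok (f : Fct) : Prop := D.Rel X f.a (X.g f) f.b f.t

structure Hyp (ns : List Net) : Prop where
  M : Model X.φ X.γ D.k ns D.ts
  hB : IsBase X.φ ⊤ D.B
  hp : ptsOK D.k D.B = true
  cen : ∀ a g, X.ι a * g = g * X.ι a
  sub : ∀ h, X.σ h ∈ X.H
  inv : X.z⁻¹ = X.s D.P * X.z * X.s D.Q * X.τ D.e
  push : ∀ j, X.σ (wg X.γ D.LW j) * X.z = X.z * X.σ (wg X.γ D.TW j) * X.τ (nth [] D.LT j)
  rel : ∀ i, X.zs (nth [] D.R i) = X.τ (nth [] D.RT i)
  ax : ∀ i ∈ D.ax, D.Ok X (D.F.get i)

def odd (r : ℕ) : Bool := Nat.beq (Nat.land r 1) 1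

theorem odd_iff (r : ℕ) : odd r = true ↔ r % 2 = 1 := by
  rw [odd, Nat.beq_eq, land_eq, Nat.and_one_is_mod]

noncomputable def lam (l : List ℕ) : List ℤ :=
  List.rec [] (fun a _ ih => addZ
    ((fun v => Bool.rec v (smulZ (-1) v) (odd a)) (nth [] D.LT (Nat.shiftRight a 1))) ih) l

noncomputable def lams (ls : List (List ℕ)) : List ℤ :=
  List.rec [] (fun l _ ih => addZ (D.lam l) ih) ls

noncomputable def mt (x0 v : List ℕ) (xs : List (List ℕ)) (u : List ℕ) (bs ls : List (List ℕ)) :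
    Bool :=
  List.rec (motive := fun _ => List ℕ → List (List ℕ) → List (List ℕ) → Bool)
    (fun u bs ls => List.rec (List.rec (eqB D.k D.ts D.B (app u x0) v) (fun _ _ _ => false) ls)
      (fun _ _ _ => false) bs)
    (fun x _ ih u bs ls => List.rec false (fun b bs' _ => List.rec false (fun l ls' _ =>
      eqB D.k D.ts D.B u (expand (dbl D.LW) l) &&
        ih (app (invW b) (app (expand (dbl D.TW) l) x)) bs' ls') ls) bs) xs u bs ls

def src (f : Fct) (o : Bool) : ℕ := Bool.rec f.a f.b o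
def dst (f : Fct) (o : Bool) : ℕ := Bool.rec f.b f.a o

noncomputable def preX (f : Fct) (o : Bool) (x : List ℕ) : List ℕ :=
  Bool.rec (Bool.rec (app f.p x) (app (invW f.p) x) o) (Bool.rec f.p (app (invW f.q) D.P) o) f.j

noncomputable def preXs (f : Fct) (o : Bool) (x : List ℕ) (xs : List (List ℕ)) : List (List ℕ) :=
  Bool.rec xs (Bool.rec (app f.q x) (app D.Q (app (invW f.p) x)) o :: xs) f.j

noncomputable def preT (f : Fct) (o : Bool) : List ℤ :=
  Bool.rec f.t (Bool.rec (smulZ (-1) f.t) (addZ D.e (smulZ (-1) f.t)) f.j) o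

/-- The word of a reference. -/
noncomputable def wd (f : Fct) (o : Bool) : Γ := X.s (D.preX f o []) * X.zs (D.preXs f o [] [])

noncomputable def go (n : ℕ) (rs : List ℕ) (a : ℕ) (x : List ℕ) (xs : List (List ℕ)) (T : List ℤ)
    (k : ℕ → List ℕ → List (List ℕ) → List ℤ → Bool) : Bool :=
  List.rec (motive := fun _ => ℕ → List ℕ → List (List ℕ) → List ℤ → Bool) k
    (fun r _ ih a x xs T => (fun f o => Bool.rec false
      (ih (src f o) (D.preX f o x) (D.preXs f o x xs) (addZ (D.preT f o) T))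
      (Nat.blt (Nat.shiftRight r 1) n && Nat.beq (dst f o) a))
      (D.F.get (Nat.shiftRight r 1)) (odd r)) rs a x xs T

noncomputable def loop (i : ℕ) (f : Fct) (o : Bool) (pf : Pf) : Bool :=
  D.go i pf.rs (src f o) [] [] [] fun a x xs T => Nat.beq (dst f o) a &&
    ((fun v => D.mt (D.preX f o x) v (D.preXs f o x xs) v
        (List.drop pf.rot (nth [] D.R pf.ρ) ++ List.take pf.rot (nth [] D.R pf.ρ)) pf.ls)
      (expand (dbl D.LW) (nth [] pf.ls 0)) &&
    zeroZ (addZ (D.preT f o) (addZ T (addZ (nth [] D.RT pf.ρ) (D.lams pf.ls)))))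

noncomputable def check (i : ℕ) (pf : Pf) : Bool :=
  (fun f : Fct => Nat.rec (Nat.beq (nth 0 D.df f.b) i && (Nat.blt f.a f.b && zeroZ f.t))
    (fun m _ => Nat.rec (Nat.beq f.a 0 && (Nat.beq f.b 0 && (!f.j && zeroZ f.t)))
      (fun m _ => Nat.rec (D.loop i f false pf)
        (fun m _ => Nat.rec (D.loop i f true pf) (fun _ _ => memL i D.ax) m) m) m) pf.kind)
    (D.F.get i)

noncomputable def checks (pfs : List Pf) (i n : ℕ) : Bool :=
  List.rec (motive := fun _ => ℕ → Bool) (fun i => Nat.beq i n)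
    (fun pf _ ih i => Bool.rec false (ih (Nat.add i 1)) (D.check i pf)) pfs i

def Upto (n : ℕ) : Prop := ∀ i < n, D.Ok X (D.F.get i)

variable {D X} {ns : List Net}

theorem Hyp.τ_comm (hy : D.Hyp X ns) (v : List ℤ) (g : Γ) : X.τ v * g = g * X.τ v := hy.cen _ g

theorem Hyp.τ_mid (hy : D.Hyp X ns) (v : List ℤ) (g h : Γ) : g * X.τ v * h = g * h * X.τ v := by
  rw [mul_assoc, hy.τ_comm, mul_assoc]

theorem Hyp.push_word (hy : D.Hyp X ns) (l : List ℕ) :
    X.s (expand (dbl D.LW) l) * X.z = X.z * X.s (expand (dbl D.TW) l) * X.τ (D.lam l) := by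
  simp only [Ctx.s, ev_expand_dbl]
  induction l with
  | nil => show _ = _ * X.τ []; simp
  | cons a l ih =>
    have e : D.lam (a :: l) = addZ (Bool.rec (nth [] D.LT (Nat.shiftRight a 1))
      (smulZ (-1) (nth [] D.LT (Nat.shiftRight a 1))) (odd a)) (D.lam l) := rfl
    have h1 : X.σ (ext (wg X.γ D.LW) a) * X.z = X.z * X.σ (ext (wg X.γ D.TW) a) *
        X.τ (Bool.rec (nth [] D.LT (Nat.shiftRight a 1))
          (smulZ (-1) (nth [] D.LT (Nat.shiftRight a 1))) (odd a)) := by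
      obtain ⟨j, rfl | rfl⟩ := Nat.even_or_odd' a
      · have h2 : odd (2 * j) = false := by rw [← Bool.not_eq_true, odd_iff]; omega
        have h3 : Nat.shiftRight (2 * j) 1 = j := by rw [shr_eq, Nat.shiftRight_one]; omega
        rw [h2, h3, ext_two_mul, ext_two_mul]; exact hy.push j
      · have h2 : odd (2 * j + 1) = true := by rw [odd_iff]; omega
        have h3 : Nat.shiftRight (2 * j + 1) 1 = j := by rw [shr_eq, Nat.shiftRight_one]; omega
        rw [h2, h3, ext_two_mul_add_one, ext_two_mul_add_one, map_inv, map_inv]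
        show _ = _ * X.τ (smulZ (-1) _)
        rw [X.τ_smulZ, zpow_neg_one, inv_mul_eq_iff_eq_mul, ← mul_assoc, ← mul_assoc, hy.push j,
          hy.τ_mid]
        group
    rw [e, X.τ_addZ, ev_cons, ev_cons, map_mul, map_mul, mul_assoc, ih, ← mul_assoc, ← mul_assoc, h1,
      hy.τ_mid]
    group

theorem Hyp.eq (hy : D.Hyp X ns) {u v : List ℕ} (h : eqB D.k D.ts D.B u v = true) : X.s u = X.s v :=
  congrArg X.σ (eqB_sound hy.M hy.hB hy.hp (Subgroup.mem_top _) (Subgroup.mem_top _) h)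

theorem Hyp.mt (hy : D.Hyp X ns) {x0 v : List ℕ} {xs : List (List ℕ)} {u : List ℕ}
    {bs ls : List (List ℕ)} (h : D.mt x0 v xs u bs ls = true) :
    X.s u * X.zs xs * X.s x0 = X.zs bs * X.s v * X.τ (D.lams ls) := by
  induction xs generalizing u bs ls with
  | nil =>
    cases bs with
    | cons _ _ => exact absurd h Bool.false_ne_true
    | nil =>
      cases ls with
      | cons _ _ => exact absurd h Bool.false_ne_true
      | nil =>
        have := hy.eq (u := app u x0) (v := v) h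
        show _ * 1 * _ = 1 * _ * X.τ []
        simpa using this
  | cons x xs ih =>
    cases bs with
    | nil => exact absurd h Bool.false_ne_true
    | cons b bs =>
      cases ls with
      | nil => exact absurd h Bool.false_ne_true
      | cons l ls =>
        have h' : (eqB D.k D.ts D.B u (expand (dbl D.LW) l) &&
          D.mt x0 v xs (app (invW b) (app (expand (dbl D.TW) l) x)) bs ls) = true := h
        rw [Bool.and_eq_true] at h'
        have h1 := ih h'.2
        have h2 := hy.push_word l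
        rw [← hy.eq h'.1] at h2
        simp only [Ctx.s_app, Ctx.s_invW] at h1
        show _ * (X.z * _ * _) * _ = X.z * _ * _ * _ * X.τ (addZ _ _)
        rw [X.τ_addZ, ← mul_assoc, ← mul_assoc, h2, hy.τ_mid, hy.τ_mid, hy.τ_mid]
        have h3 : X.s (expand (dbl D.TW) l) * X.s x * X.zs xs * X.s x0 =
          X.s b * (X.zs bs * X.s v * X.τ (D.lams ls)) := by rw [← h1]; group
        calc _ = X.z * (X.s (expand (dbl D.TW) l) * X.s x * X.zs xs * X.s x0) * X.τ (D.lam l) := by group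
          _ = X.z * X.s b * X.zs bs * X.s v * (X.τ (D.lams ls) * X.τ (D.lam l)) := by rw [h3]; group
          _ = _ := by rw [hy.τ_comm (D.lams ls)]; rfl

theorem pre_val (f : Fct) (o : Bool) (x : List ℕ) (xs : List (List ℕ)) :
    X.s (D.preX f o x) * X.zs (D.preXs f o x xs) = D.wd X f o * (X.s x * X.zs xs) := by
  obtain ⟨a, b, j, p, q, t⟩ := f
  cases j <;> cases o <;> simp [wd, preX, preXs, Ctx.zs, mul_assoc]

theorem Rel.trans (hy : D.Hyp X ns) {a b d : ℕ} {g g' : Γ} {t t' : List ℤ} (h : D.Rel X a g b t)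
    (h' : D.Rel X b g' d t') : D.Rel X a (g * g') d (addZ t t') := by
  have := X.H.mul_mem h h'
  rw [Rel, X.τ_addZ]
  convert this using 1
  rw [hy.τ_mid t]
  calc _ = (D.W X a)⁻¹ * (g * g') * D.W X d * (X.τ t' * X.τ t) := by rw [hy.τ_comm t]
    _ = _ := by group

theorem Rel.symm (hy : D.Hyp X ns) {a b : ℕ} {g : Γ} {t : List ℤ} (h : D.Rel X a g b t) :
    D.Rel X b g⁻¹ a (smulZ (-1) t) := by
  have := X.H.inv_mem h
  rw [Rel, X.τ_smulZ]
  convert this using 1
  rw [← X.τ_smulZ, ← hy.τ_comm, X.τ_smulZ]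
  group

theorem Rel.congr {a b : ℕ} {g g' : Γ} {t t' : List ℤ} (hy : D.Hyp X ns) (h : D.Rel X a g b t)
    (e : g * X.τ t = g' * X.τ t') : D.Rel X a g' b t' := by
  rw [Rel, ← hy.τ_mid, mul_assoc _ g', ← e, ← mul_assoc, hy.τ_mid]
  exact h

theorem Hyp.wd_val (hy : D.Hyp X ns) (f : Fct) :
    D.wd X f false = X.g f ∧ D.preT f false = f.t ∧
      D.wd X f true * X.τ (D.preT f true) = (X.g f)⁻¹ * X.τ (smulZ (-1) f.t) := by
  obtain ⟨a, b, j, p, q, t⟩ := f
  cases j
  · simp [wd, preX, preXs, preT, Ctx.zs, Ctx.g]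
  · refine ⟨by simp [wd, preX, preXs, Ctx.zs, Ctx.g, mul_assoc], rfl, ?_⟩
    simp only [wd, preX, preXs, preT, Ctx.zs, Ctx.g, Ctx.s_app, Ctx.s_invW, Ctx.s_nil, if_true,
      X.τ_addZ, mul_inv_rev, hy.inv]
    have e : ∀ u v w : Γ, u * X.τ D.e * v * w = u * v * (X.τ D.e * w) := fun u v w => by
      rw [hy.τ_mid, mul_assoc]
    simp only [← mul_assoc, mul_one]
    rw [e, mul_assoc _ (X.τ D.e)]

theorem Hyp.ok_iff (hy : D.Hyp X ns) (f : Fct) (o : Bool) :
    D.Ok X f ↔ D.Rel X (src f o) (D.wd X f o) (dst f o) (D.preT f o) := by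
  obtain ⟨h1, h2, h3⟩ := hy.wd_val f
  cases o
  · rw [h1, h2]; rfl
  · refine ⟨fun h => (Rel.symm hy h).congr hy h3.symm, fun h => ?_⟩
    refine (Rel.symm hy (h.congr hy h3)).congr hy ?_
    rw [X.τ_smulZ, X.τ_smulZ]; simp

theorem Hyp.go (hy : D.Hyp X ns) {n : ℕ} (hn : D.Upto X n) {d : ℕ} {rs : List ℕ} {a : ℕ}
    {x : List ℕ} {xs : List (List ℕ)} {T : List ℤ} {k : ℕ → List ℕ → List (List ℕ) → List ℤ → Bool}
    (h0 : D.Rel X a (X.s x * X.zs xs) d T) (h : D.go n rs a x xs T k = true) :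
    ∃ a x xs T, D.Rel X a (X.s x * X.zs xs) d T ∧ k a x xs T = true := by
  induction rs generalizing a x xs T with
  | nil => exact ⟨a, x, xs, T, h0, h⟩
  | cons r rs ih =>
    have h' : Bool.rec (motive := fun _ => Bool) false
      (D.go n rs (src (D.F.get (Nat.shiftRight r 1)) (odd r))
        (D.preX (D.F.get (Nat.shiftRight r 1)) (odd r) x)
        (D.preXs (D.F.get (Nat.shiftRight r 1)) (odd r) x xs)
        (addZ (D.preT (D.F.get (Nat.shiftRight r 1)) (odd r)) T) k)
      (Nat.blt (Nat.shiftRight r 1) n && Nat.beq (dst (D.F.get (Nat.shiftRight r 1)) (odd r)) a) =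
        true := h
    cases hc : (Nat.blt (Nat.shiftRight r 1) n &&
      Nat.beq (dst (D.F.get (Nat.shiftRight r 1)) (odd r)) a)
    · rw [hc] at h'; exact absurd h' Bool.false_ne_true
    · rw [hc] at h'
      rw [Bool.and_eq_true, Nat.blt_eq, Nat.beq_eq] at hc
      refine ih ?_ h'
      rw [pre_val]
      exact Rel.trans hy (hc.2 ▸ (hy.ok_iff _ (odd r)).1 (hn _ hc.1)) h0

theorem Hyp.loop (hy : D.Hyp X ns) {i : ℕ} (hn : D.Upto X i) {f : Fct} {o : Bool} {pf : Pf}
    (h : D.loop i f o pf = true) : D.Ok X f := by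
  obtain ⟨a, x, xs, T, h1, h2⟩ := hy.go hn (d := src f o)
    (by simp [Rel, Ctx.zs, X.H.one_mem]) h
  simp only [Bool.and_eq_true, Nat.beq_eq] at h2
  obtain ⟨rfl, h2, h3⟩ := h2
  have h4 := hy.mt h2
  have h5 := hy.rel pf.ρ
  generalize nth [] D.R pf.ρ = r at *
  have h6 : X.zs (List.drop pf.rot r ++ List.take pf.rot r) = X.τ (nth [] D.RT pf.ρ) := by
    rw [← List.take_append_drop pf.rot r, X.zs_append] at h5
    rw [X.zs_append, eq_inv_mul_iff_mul_eq.2 h5, ← hy.τ_comm]; group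
  rw [h6, hy.τ_comm, mul_assoc, mul_assoc, mul_right_inj] at h4
  have h7 : D.wd X f o * (X.s x * X.zs xs) = X.τ (addZ (nth [] D.RT pf.ρ) (D.lams pf.ls)) := by
    rw [← pre_val, X.τ_addZ, eq_mul_inv_iff_mul_eq.2 h4, ← X.τ_addZ, hy.τ_comm]; group
  have h8 := X.τ_zeroZ h3
  rw [X.τ_addZ, X.τ_addZ, ← h7] at h8
  refine (hy.ok_iff f o).2 ((Rel.symm hy h1).congr hy ?_)
  rw [X.τ_smulZ, ← hy.τ_comm (D.preT f o), zpow_neg_one, ← mul_inv_rev, inv_eq_iff_mul_eq_one,
    ← h8, hy.τ_comm T, hy.τ_comm T]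
  rw [← mul_inv_eq_one] at h8 ⊢
  have h9 : X.τ (D.preT f o) * D.wd X f o * (X.s x * X.zs xs * X.τ T) = 1 := by
    rw [inv_one, mul_one, hy.τ_comm T] at h8; rw [← h8]; group
  rw [mul_eq_one_comm] at h9
  rw [h9, hy.τ_comm T] at *
  simp_all

theorem Hyp.check (hy : D.Hyp X ns) {i : ℕ} (hn : D.Upto X i) {pf : Pf}
    (h : D.check i pf = true) : D.Ok X (D.F.get i) := by
  obtain ⟨kind, rs, ρ, rot, ls⟩ := pf
  rcases kind with _ | _ | _ | _ | m
  · have h' : (Nat.beq (nth 0 D.df (D.F.get i).b) i && (Nat.blt (D.F.get i).a (D.F.get i).b &&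
      zeroZ (D.F.get i).t)) = true := h
    simp only [Bool.and_eq_true, Nat.beq_eq, Nat.blt_eq] at h'
    rw [Ok, Rel, X.τ_zeroZ h'.2.2, W.eq_1 D X (D.F.get i).b, h'.1, dif_pos h'.2.1]
    simp [X.H.one_mem]
  · have h' : (Nat.beq (D.F.get i).a 0 && (Nat.beq (D.F.get i).b 0 && (!(D.F.get i).j &&
      zeroZ (D.F.get i).t))) = true := h
    simp only [Bool.and_eq_true, Nat.beq_eq, Bool.not_eq_true'] at h'
    rw [Ok, Rel, X.τ_zeroZ h'.2.2.2, h'.1, h'.2.1, W_zero, Ctx.g, h'.2.2.1]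
    simpa [Ctx.s] using hy.sub _
  · exact hy.loop hn h
  · exact hy.loop hn h
  · exact hy.ax i (memL_sound h)

theorem Upto.zero : D.Upto X 0 := fun _ h => absurd h (Nat.not_lt_zero _)

theorem Upto.step (hy : D.Hyp X ns) {pfs : List Pf} {i n : ℕ} (hi : D.Upto X i)
    (h : D.checks pfs i n = true) : D.Upto X n := by
  induction pfs generalizing i with
  | nil => exact Nat.eq_of_beq_eq_true h ▸ hi
  | cons pf pfs ih =>
    have h' : Bool.rec (motive := fun _ => Bool) false (D.checks pfs (i + 1) n) (D.check i pf) =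
      true := h
    cases hc : D.check i pf
    · rw [hc] at h'; exact absurd h' Bool.false_ne_true
    · rw [hc] at h'
      refine ih (fun j hj => ?_) h'
      rcases Nat.lt_succ_iff_lt_or_eq.1 hj with hj | rfl
      · exact hi j hj
      · exact hy.check hi hc

/-! ### Relations between the tails -/

variable (D) in
/-- A combination of tails of trivial facts. -/
noncomputable def comb (n : ℕ) (cf : List (ℤ × ℕ)) (acc : List ℤ) : Bool :=
  List.rec (motive := fun _ => List ℤ → Bool) zeroZ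
    (fun m _ ih acc => (fun f : Fct => (Nat.blt m.2 n && (Nat.beq f.a f.b && (!f.j && beqL f.p []))) &&
      ih (addZ (smulZ m.1 f.t) acc)) (D.F.get m.2)) cf acc

theorem Upto.comb {n : ℕ} (hn : D.Upto X n) {cf : List (ℤ × ℕ)} {acc : List ℤ}
    (h : D.comb n cf acc = true) : X.τ acc ∈ X.H := by
  induction cf generalizing acc with
  | nil => rw [X.τ_zeroZ h]; exact X.H.one_mem
  | cons m cf ih =>
    have h' : ((Nat.blt m.2 n && (Nat.beq (D.F.get m.2).a (D.F.get m.2).b && (!(D.F.get m.2).j &&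
      beqL (D.F.get m.2).p []))) && D.comb n cf (addZ (smulZ m.1 (D.F.get m.2).t) acc)) = true := h
    simp only [Bool.and_eq_true, Nat.beq_eq, Nat.blt_eq, Bool.not_eq_true'] at h'
    obtain ⟨⟨h1, h2, h3, h4⟩, h5⟩ := h'
    have h6 := hn _ h1
    rw [Ok, Rel, Ctx.g, h3, beqL_sound h4, h2] at h6
    simp only [Bool.false_eq_true, if_false, Ctx.s_nil, mul_one, inv_mul_cancel, one_mul] at h6
    have h7 := ih h5
    rw [X.τ_addZ, X.τ_smulZ] at h7
    exact (X.H.mul_mem_cancel_left (X.H.zpow_mem h6 _)).1 h7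

/-! ### Closure -/

variable (D) in
noncomputable def ref (r : ℕ) : Fct := D.F.get (Nat.shiftRight r 1)

variable (D) in
noncomputable def refOK (n d : ℕ) (j : Bool) (N : List ℕ) (r : ℕ) : Bool :=
  Nat.blt (Nat.shiftRight r 1) n && (Nat.beq (src (D.ref r) (odd r)) d &&
    (memL (dst (D.ref r) (odd r)) N && Bool.rec (!(D.ref r).j) (D.ref r).j j))

variable (D) in
noncomputable def lw (r : ℕ) : List ℕ := D.preX (D.ref r) (odd r) []

variable (D) in
noncomputable def mask0 (ω : ℕ) (J : List ℕ) : ℕ :=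
  List.rec 0 (fun r _ ih => frc ih (Nat.lor ih (Nat.shiftLeft 1 (ap D.k (msk D.k) D.ts (D.lw r) ω)))) J

variable (D) in
/-- The joins at the node `d` cover all points. -/
noncomputable def nodeB (ns : List Net) (n ω O : ℕ) (N : List ℕ) (d : ℕ) (S J cs : List ℕ) : Bool :=
  allL S (D.refOK n d false [d]) && (allL J (D.refOK n d true N) &&
    Nat.beq (Nat.land O (grow ns (S.map D.lw) cs (D.mask0 ω J))) O)

variable (D X) in
/-- The union of the double cosets. -/
def InX (N : List ℕ) (g : Γ) : Prop := ∃ d ∈ N, ∃ h : K, (X.σ h * D.W X d)⁻¹ * g ∈ X.H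

variable (D X) in
def Closed (N : List ℕ) (d : ℕ) : Prop := ∀ h : K, D.InX X N (X.z⁻¹ * X.σ h * D.W X d)

theorem InX.left {N : List ℕ} {g : Γ} (h : D.InX X N g) (m : K) : D.InX X N (X.σ m * g) := by
  obtain ⟨d, hd, h, h1⟩ := h
  exact ⟨d, hd, m * h, by convert h1 using 1; rw [map_mul]; group⟩

theorem InX.right {N : List ℕ} {g u : Γ} (h : D.InX X N g) (hu : u ∈ X.H) : D.InX X N (g * u) := by
  obtain ⟨d, hd, h, h1⟩ := h
  exact ⟨d, hd, h, by rw [← mul_assoc]; exact X.H.mul_mem h1 hu⟩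

theorem Hyp.push_mem (hy : D.Hyp X ns) {l : K} (hl : l ∈ gw X.γ D.LW) :
    ∃ m a, X.σ l * X.z = X.z * X.σ m * X.ι a := by
  induction hl using Subgroup.closure_induction with
  | mem x hx =>
    obtain ⟨u, hu, rfl⟩ := hx
    obtain ⟨j, hj, rfl⟩ := List.getElem_of_mem hu
    have := hy.push j
    rw [wg, nth_eq, List.getD_eq_getElem _ _ hj] at this
    exact ⟨_, _, this⟩
  | one => exact ⟨1, 1, by simp⟩
  | mul x y _ _ hx hy' =>
    obtain ⟨m, a, h1⟩ := hx
    obtain ⟨m', a', h2⟩ := hy'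
    refine ⟨m * m', a * a', ?_⟩
    rw [map_mul, mul_assoc, h2, ← mul_assoc, ← mul_assoc, h1, map_mul, map_mul, mul_assoc _ (X.ι a),
      hy.cen]
    group
  | inv x _ hx =>
    obtain ⟨m, a, h1⟩ := hx
    refine ⟨m⁻¹, a⁻¹, ?_⟩
    rw [map_inv, inv_mul_eq_iff_eq_mul, ← mul_assoc, ← mul_assoc, h1, mul_assoc _ (X.ι a), hy.cen,
      map_inv, map_inv]
    group

theorem refOK_sound (hy : D.Hyp X ns) {n : ℕ} (hn : D.Upto X n) {d : ℕ} {j : Bool} {N : List ℕ}
    {r : ℕ} (h : D.refOK n d j N r = true) : ∃ e ∈ N, ∃ q t,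
      D.Rel X d (X.s (D.lw r) * if j then X.z * X.s q else 1) e t := by
  simp only [refOK, Bool.and_eq_true, Nat.beq_eq, Nat.blt_eq] at h
  obtain ⟨h1, h2, h3, h4⟩ := h
  have h5 := (hy.ok_iff _ (odd r)).1 (hn _ h1)
  refine ⟨_, memL_sound h3, ?_⟩
  change D.Rel X (src (D.ref r) _) (D.wd X (D.ref r) _) (dst (D.ref r) _) (D.preT (D.ref r) _) at h5
  rw [h2] at h5
  rw [lw]
  generalize D.ref r = f at *
  obtain ⟨a, b, j', p, q, t⟩ := f
  cases j <;> cases j'
  · exact ⟨[], _, h5⟩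
  · exact absurd h4 Bool.false_ne_true
  · exact absurd h4 Bool.false_ne_true
  · exact ⟨_, _, by simpa [wd, preXs, Ctx.zs] using h5⟩

theorem nodeB_sound (hy : D.Hyp X ns) {n : ℕ} (hn : D.Upto X n) (hA : ∀ a, X.ι a ∈ X.H) {ω O : ℕ}
    (hω : ω < 2 ^ D.k) (hL : ∀ h, X.φ h ω = ω → h ∈ gw X.γ D.LW)
    (hO : ∀ h, O.testBit (X.φ h ω) = true) {N : List ℕ} {d : ℕ} {S J cs : List ℕ}
    (h : D.nodeB ns n ω O N d S J cs = true) : D.Closed X N d := by
  simp only [nodeB, Bool.and_eq_true, Nat.beq_eq, allL_iff] at h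
  obtain ⟨h1, h2, h3⟩ := h
  have key := grow_ind hy.M.valid (S := S.map D.lw)
    (P := fun j => ∀ h : K, X.φ h ω = j → D.InX X N (X.z⁻¹ * X.σ h⁻¹ * D.W X d)) ?_ cs
    (O := D.mask0 ω J) ?_
  · intro h
    have h4 := hO h⁻¹
    rw [← h3, land_eq, Nat.testBit_and, Bool.and_eq_true] at h4
    simpa using key _ h4.2 h⁻¹ rfl
  · intro u hu j hj h e
    obtain ⟨r, hr, rfl⟩ := List.mem_map.1 hu
    obtain ⟨e', he', q, t, h5⟩ := refOK_sound hy hn (h1 r hr)
    rw [List.mem_singleton.1 he', Rel] at h5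
    have h6 := (X.H.mul_mem_cancel_right (hA _)).1 h5
    have := (hj (ev (ext X.γ) (D.lw r) * h) (by rw [map_mul, Perm.mul_apply, e, hy.M.map_ev'])).right h6
    convert this using 1
    simp only [Ctx.s, map_inv, map_mul, Bool.false_eq_true, if_false]
    group
  · clear h3
    induction J with
    | nil => intro j hj; simp [mask0] at hj
    | cons r J ih =>
      intro j hj h e
      have e1 : D.mask0 ω (r :: J) = D.mask0 ω J ||| (1 <<< ap D.k (msk D.k) D.ts (D.lw r) ω) :=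
        frc_eq (D.mask0 ω J) _
      rw [e1, Nat.testBit_or, Bool.or_eq_true] at hj
      rcases hj with hj | hj
      · exact ih (fun r hr => h2 r (by simp [hr])) j hj h e
      · rw [Nat.one_shiftLeft, Nat.testBit_two_pow, decide_eq_true_eq, hy.M.ap' _ hω, ← e] at hj
        obtain ⟨e', he', q, t, h5⟩ := refOK_sound hy hn (h2 r (by simp))
        have h6 := (X.H.mul_mem_cancel_right (hA _)).1 h5
        obtain ⟨m, a, h7⟩ := hy.push_mem (hL (h⁻¹ * ev (ext X.γ) (D.lw r))
          (by rw [map_mul, Perm.mul_apply, hj, map_inv, perm_inv_apply]))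
        refine ⟨e', he', m * ev (ext X.γ) q, ?_⟩
        have h8 : X.σ m = X.z⁻¹ * (X.σ h⁻¹ * X.s (D.lw r)) * X.z * (X.ι a)⁻¹ := by
          rw [Ctx.s, ← map_mul, mul_assoc X.z⁻¹, h7]; group
        have h9 := X.H.mul_mem (X.H.inv_mem h6) (hA a)
        convert h9 using 1
        rw [map_mul, h8, ← map_inv X.ι, ← hy.cen, ← hy.cen, map_inv X.ι]
        simp only [Ctx.s, if_true]
        have e2 : ∀ u v w : Γ, (((X.ι a)⁻¹ * u * v) * w)⁻¹ = X.ι a * (u * v * w)⁻¹ := fun u v w => by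
          rw [hy.cen]; group
        rw [e2]
        group

theorem all_inX (hy : D.Hyp X ns) (hA : ∀ a, X.ι a ∈ X.H) {N : List ℕ} (h0 : 0 ∈ N)
    (hN : ∀ d ∈ N, D.Closed X N d) {U : Subgroup Γ}
    (hU : U ≤ Subgroup.closure (Set.range X.σ ∪ {X.z})) {g : Γ} (hg : g ∈ U) : D.InX X N g := by
  have hz : ∀ g, D.InX X N g → D.InX X N (X.z⁻¹ * g) := by
    rintro g ⟨d, hd, h, h1⟩
    convert (hN d hd h).right h1 using 1
    group
  have hz' : ∀ g, D.InX X N g → D.InX X N (X.z * g) := fun g hg => by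
    have := (((hz _ (hg.left (ev (ext X.γ) D.Q)⁻¹)).left (ev (ext X.γ) D.P)⁻¹).right
      (X.H.inv_mem (hA (tv X.c D.e 0))))
    convert this using 1
    rw [hy.inv, map_inv, map_inv, mul_assoc _ (X.τ D.e), hy.τ_comm]
    simp only [Ctx.s, Ctx.τ]
    group
  have key : ∀ x ∈ Subgroup.closure (Set.range X.σ ∪ {X.z}),
      ∀ g, (D.InX X N g → D.InX X N (x * g)) ∧ (D.InX X N g → D.InX X N (x⁻¹ * g)) := by
    intro x hx
    induction hx using Subgroup.closure_induction with
    | mem x hx =>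
      rcases hx with ⟨m, rfl⟩ | rfl
      · exact fun g => ⟨fun h => h.left m, fun h => map_inv X.σ m ▸ h.left m⁻¹⟩
      · exact fun g => ⟨hz' g, hz g⟩
    | one => intro g; simp
    | mul x y _ _ hx hy' =>
      intro g
      rw [mul_inv_rev, mul_assoc, mul_assoc]
      exact ⟨fun h => (hx _).1 ((hy' _).1 h), fun h => (hy' _).2 ((hx _).2 h)⟩
    | inv x _ hx => intro g; rw [inv_inv]; exact ⟨(hx g).2, (hx g).1⟩
  simpa using (key g (hU hg) 1).1 ⟨0, h0, 1, by simp [W_zero, X.H.one_mem]⟩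

theorem finite_of_inX [Finite K] [Finite X.H] {N : List ℕ} (h : ∀ g, D.InX X N g) : Finite Γ := by
  refine Finite.of_surjective
    (fun x : {d // d ∈ N} × K × X.H => X.σ x.2.1 * D.W X x.1 * x.2.2) fun g => ?_
  obtain ⟨d, hd, m, h1⟩ := h g
  exact ⟨(⟨d, hd⟩, m, ⟨_, h1⟩), mul_inv_cancel_left _ _⟩

end Dce

/-- The stabiliser of the first base point is generated by the given words. -/
theorem Cert.stab_le {G : Type*} [Group G] {φ : G →* Perm ℕ} {γ : ℕ → G} {k : ℕ} {ns : List Net}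
    {ts : List Tab} {L : List ℕ} {l : Level} {ls ls' : List Level} (C : Cert φ γ k ns ts L (l :: ls))
    {U : Subgroup G} (hs : ChainSound φ U k [l.b] ls') (e : chainCard ls ≤ chainCard ls')
    (hn : 0 < l.n) : ∀ h, φ h l.b = l.b → h ∈ U := by
  haveI := C.fin
  have h1 := hs.le_card
  have h2 := card_St φ ⊤ l.b []
  have h3 := C.sound.1.le_ncard.2.1
  rw [St_nil, Subgroup.card_top, C.card] at h2
  change l.n * chainCard ls = _ at h2
  have h4 : Nat.card (St φ ⊤ [l.b]) ≤ Nat.card (St φ U [l.b]) := by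
    rw [St_nil] at h3
    refine le_trans ?_ (e.trans h1)
    by_contra hlt
    nlinarith
  have h5 := Subgroup.eq_of_le_of_card_ge (H := St φ U [l.b]) (K := St φ ⊤ [l.b])
    (fun x hx => ⟨trivial, hx.2⟩) h4
  intro h hh
  have : h ∈ St φ ⊤ [l.b] := ⟨trivial, by simpa using hh⟩
  exact (h5 ▸ this).1

theorem Cert.orbit0 {G : Type*} [Group G] {φ : G →* Perm ℕ} {γ : ℕ → G} {k : ℕ} {ns : List Net}
    {ts : List Tab} {L : List ℕ} {l : Level} {ls : List Level} (C : Cert φ γ k ns ts L (l :: ls)) :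
    l.b < 2 ^ k ∧ ∀ h, l.O.testBit (φ h l.b) = true :=
  ⟨C.exact.1.1, fun h => C.exact.1.2 h ⟨trivial, by simp⟩⟩

end Cfsg.Agent.CGT
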