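import Cfsg.Agent.CGT.Dce
import Cfsg.Agent.Cover.Quot

set_option autoImplicit false
set_option linter.style.haveILetI false

/-! From a double coset enumeration to finiteness and to the triviality of the multiplier. -/

namespace Cfsg.Agent.CGT

open Equiv
open scoped commutatorElement

/-! ### Groups presented on numbered letters -/

def pgRels (m : ℕ) (R : List (List ℕ)) : Set (FreeGroup ℕ) :=
  {r | (∃ w ∈ R, r = ev (ext FreeGroup.of) w) ∨ ∃ j, m ≤ j ∧ r = FreeGroup.of j}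

abbrev PG (m : ℕ) (R : List (List ℕ)) : Type := PresentedGroup (pgRels m R)

def pgγ (m : ℕ) (R : List (List ℕ)) (j : ℕ) : PG m R := PresentedGroup.of j

theorem map_ev_ext {G H : Type*} [Group G] [Group H] (f : G →* H) (γ : ℕ → G) (w : List ℕ) :
    f (ev (ext γ) w) = ev (ext fun j => f (γ j)) w := by
  rw [map_ev]; congr 1; funext a; exact map_ext f γ a

theorem pg_holds (m : ℕ) (R : List (List ℕ)) : Holds (ext (pgγ m R)) R := fun w hw =>
  (map_ev_ext (PresentedGroup.mk _) FreeGroup.of w).symm.trans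
    (PresentedGroup.one_of_mem (Or.inl ⟨w, hw, rfl⟩))

theorem pg_one {m : ℕ} (R : List (List ℕ)) {j : ℕ} (hj : m ≤ j) : pgγ m R j = 1 :=
  PresentedGroup.one_of_mem (Or.inr ⟨j, hj, rfl⟩)

theorem pg_lift {X : Type*} [Group X] {m : ℕ} {R : List (List ℕ)} {p : ℕ → X}
    (h1 : ∀ j, m ≤ j → p j = 1) (h : Holds (ext p) R) :
    ∃ f : PG m R →* X, ∀ j, f (pgγ m R j) = p j := by
  refine ⟨PresentedGroup.toGroup (f := p) ?_, fun j => PresentedGroup.toGroup.of _⟩
  rintro r (⟨w, hw, rfl⟩ | ⟨j, hj, rfl⟩)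
  · rw [map_ev_ext]; simpa using h w hw
  · simpa using h1 j hj

theorem pg_gen {m : ℕ} (R : List (List ℕ)) {L : List ℕ}
    (hL : (allLt m fun j => memL (Nat.mul 2 j) L) = true) : gp (pgγ m R) L = ⊤ := by
  rw [eq_top_iff, ← PresentedGroup.closure_range_of, Subgroup.closure_le]
  rintro _ ⟨j, rfl⟩
  by_cases hj : j < m
  · have := ext_mem_gp (pgγ m R) (memL_sound (allLt_iff.1 hL _ hj))
    rwa [show Nat.mul 2 j = 2 * j from rfl, ext_two_mul] at this
  · show pgγ m R j ∈ _
    rw [pg_one R (not_lt.1 hj)]; exact Subgroup.one_mem _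

theorem pg_perm {m : ℕ} {R : List (List ℕ)} {ns : List Net} (hl : ns.length = m)
    (h : Holds (lp ns) R) : ∃ φ : PG m R →* Perm ℕ, ∀ j, φ (pgγ m R j) = netPerm ns j :=
  pg_lift (fun _ hj => netPerm_of_le ns (hl ▸ hj)) h

theorem wg_of_le {G : Type*} [Group G] (γ : ℕ → G) {W : List (List ℕ)} {j : ℕ} (h : W.length ≤ j) :
    wg γ W j = 1 := by rw [wg, nth_eq, List.getD_eq_default _ _ h]; rfl

theorem hom_ext_gp {G H : Type*} [Group G] [Group H] {γ : ℕ → G} {L : List ℕ} (hL : gp γ L = ⊤)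
    {f g : G →* H} (h : ∀ j, f (γ j) = g (γ j)) : f = g := by
  have : gp γ L ≤ f.eqLocus g := gp_le fun a _ => by
    show f _ = g _
    rw [map_ext, map_ext, funext h]
  exact MonoidHom.ext fun x => this (hL ▸ Subgroup.mem_top x)

theorem chain_gw {G : Type*} [Group G] {φ : G →* Perm ℕ} {γ : ℕ → G} {k : ℕ} {ns : List Net}
    {ts : List Tab} (M : Model φ γ k ns ts) {LW Ws : List (List ℕ)} {F : List ℕ} {ls : List Level}
    (h1 : (ptsOK k F && allL ls fun l => allL l.S fun u =>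
      memLL u (Ws.map (expand (dbl LW)))) = true) (h2 : chainOK k ns ts ls F = true) :
    ChainSound φ (gw γ LW) k F ls := by
  rw [Bool.and_eq_true] at h1
  refine chainOK_sound M h1.1 (fun l hl u hu => ?_) h2
  obtain ⟨w, -, rfl⟩ := List.mem_map.1 (memLL_sound (allL_iff.1 (allL_iff.1 h1.2 l hl) u hu))
  rw [ev_expand_dbl]
  exact ev_mem _ _ _ fun a _ => ext_wg_mem (fun u hu => ev_mem_gw γ hu) a

/-! ### Words in `z` and the letters of `K` -/

section
variable {K Γ : Type*} [Group K] [Group Γ]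

def zt (σ : K →* Γ) (γ : ℕ → K) (z : Γ) : ℕ → Γ
  | 0 => z
  | j + 1 => σ (γ j)

def sh (w : List ℕ) : List ℕ := w.map (· + 2)

theorem ext_zt (σ : K →* Γ) (γ : ℕ → K) (z : Γ) (a : ℕ) :
    ext (zt σ γ z) (a + 2) = σ (ext γ a) := by
  obtain ⟨j, rfl | rfl⟩ := Nat.even_or_odd' a
  · rw [show 2 * j + 2 = 2 * (j + 1) by ring, ext_two_mul, ext_two_mul]; rfl
  · rw [show 2 * j + 1 + 2 = 2 * (j + 1) + 1 by ring, ext_two_mul_add_one, ext_two_mul_add_one,
      map_inv]; rfl

theorem ext_zt_zero (σ : K →* Γ) (γ : ℕ → K) (z : Γ) : ext (zt σ γ z) 0 = z := ext_two_mul _ 0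

theorem ext_zt_one (σ : K →* Γ) (γ : ℕ → K) (z : Γ) : ext (zt σ γ z) 1 = z⁻¹ :=
  ext_two_mul_add_one _ 0

theorem ev_sh (σ : K →* Γ) (γ : ℕ → K) (z : Γ) (w : List ℕ) :
    ev (ext (zt σ γ z)) (sh w) = σ (ev (ext γ) w) := by
  induction w with
  | nil => exact (map_one σ).symm
  | cons a w ih => rw [sh, List.map_cons, ev_cons, ev_cons, map_mul, ext_zt, ← ih]; rfl

theorem map_ev_zt {Γ' : Type*} [Group Γ'] (π : Γ →* Γ') (σ : K →* Γ) (γ : ℕ → K) (z : Γ)
    (w : List ℕ) : π (ev (ext (zt σ γ z)) w) = ev (ext (zt (π.comp σ) γ (π z))) w := by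
  rw [map_ev_ext]; congr 2; funext j; cases j <;> rfl

def cnt : List ℕ → ℤ
  | [] => 0
  | 0 :: w => 1 + cnt w
  | 1 :: w => -1 + cnt w
  | (_ + 2) :: w => cnt w

theorem ev_zt_mul (σ : K →* Γ) (γ : ℕ → K) (z : Γ) {α : Γ} (hα : ∀ g, α * g = g * α)
    (w : List ℕ) : ev (ext (zt σ γ (z * α))) w = ev (ext (zt σ γ z)) w * α ^ cnt w := by
  have hc : ∀ g, Commute α g := hα
  induction w with
  | nil => simp [cnt]
  | cons a w ih =>
    rw [ev_cons, ev_cons, ih]
    rcases a with _ | _ | a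
    · rw [ext_zt_zero, ext_zt_zero, cnt, zpow_add, zpow_one, ← mul_assoc, mul_assoc z, hα]; group
    · rw [zero_add, ext_zt_one, ext_zt_one, cnt, zpow_add, zpow_neg_one, mul_inv_rev,
        ((hc _).inv_left).eq, ← mul_assoc, mul_assoc z⁻¹, ((hc _).inv_left).eq]
      group
    · rw [ext_zt, ext_zt, cnt, mul_assoc]

end

def unitZ (i : ℕ) : List ℤ := List.replicate i 0 ++ [1]

def dotc (ZR : List (List ℕ)) : List ℤ → ℕ → ℤ
  | [], _ => 0
  | a :: u, i => cnt (ZR.getD i []) * a + dotc ZR u (i + 1)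

theorem tv_mul {A : Type*} [CommGroup A] (c : ℕ → A) (α : A) (ZR : List (List ℕ)) (m : List ℤ)
    (i : ℕ) : tv (fun i => c i * α ^ cnt (ZR.getD i [])) m i = tv c m i * α ^ dotc ZR m i := by
  induction m generalizing i with
  | nil => simp [tv, dotc]
  | cons a u ih => rw [tv, tv, dotc, ih, mul_zpow, zpow_add, zpow_mul, mul_mul_mul_comm]

namespace Dce

variable {K Γ A : Type*} [Group K] [Group Γ] [CommGroup A] (D : Dce)

noncomputable def zsp : List ℕ → List ℕ × List (List ℕ) × List ℤ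
  | [] => ([], [], [])
  | 0 :: w => ([], (zsp w).1 :: (zsp w).2.1, (zsp w).2.2)
  | 1 :: w => (D.P, app D.Q (zsp w).1 :: (zsp w).2.1, addZ D.e (zsp w).2.2)
  | (a + 2) :: w => (a :: (zsp w).1, (zsp w).2)

theorem zsp_val (X : Ctx K Γ A) (cen : ∀ a g, X.ι a * g = g * X.ι a)
    (inv : X.z⁻¹ = X.s D.P * X.z * X.s D.Q * X.τ D.e) (w : List ℕ) :
    ev (ext (zt X.σ X.γ X.z)) w = X.s (D.zsp w).1 * X.zs (D.zsp w).2.1 * X.τ (D.zsp w).2.2 := by
  induction w with
  | nil => simp [zsp, Ctx.zs]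
  | cons a w ih =>
    rw [ev_cons, ih]
    rcases a with _ | _ | a
    · simp [ext_zt_zero, zsp, Ctx.zs, mul_assoc]
    · rw [zero_add, ext_zt_one, inv, mul_assoc _ (X.τ D.e), Ctx.τ, cen]
      simp only [zsp, Ctx.zs, Ctx.s_app, X.τ_addZ]
      rw [show X.τ D.e * _ = _ from cen _ _]
      simp only [Ctx.τ, mul_assoc]
    · rw [ext_zt]
      simp only [zsp, Ctx.s, ev_cons, map_mul, mul_assoc]

/-- The data are read off the list `ZR` of words. -/
noncomputable def hypB (ZR : List (List ℕ)) (i0 : ℕ) (pj : List ℕ) (rj : List (ℕ × ℕ)) : Bool :=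
  (beqL (nth [] ZR i0) (0 :: sh D.P ++ 0 :: sh D.Q) && zeroZ (addZ D.e (unitZ i0))) &&
  ((decide (D.LW.length = pj.length ∧ D.TW.length = pj.length ∧ D.LT.length = pj.length ∧
      D.R.length = rj.length ∧ D.RT.length = rj.length ∧ D.ax = [])) &&
  ((allLt pj.length fun j => beqL (nth [] ZR (nth 0 pj j))
      (1 :: sh (nth [] D.LW j) ++ 0 :: sh (invW (nth [] D.TW j))) &&
      zeroZ (addZ (smulZ (-1) (nth [] D.LT j)) (unitZ (nth 0 pj j)))) &&
  allLt rj.length fun i => (fun w n => beqL (D.zsp w).1 [] && (decide ((D.zsp w).2.1 = nth [] D.R i) &&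
      zeroZ (addZ (smulZ (-1) (unitZ n)) (addZ (nth [] D.RT i) (D.zsp w).2.2))))
    (List.drop (nth (0, 0) rj i).2 (nth [] ZR (nth (0, 0) rj i).1) ++
      List.take (nth (0, 0) rj i).2 (nth [] ZR (nth (0, 0) rj i).1)) (nth (0, 0) rj i).1))

variable {D}

theorem hyp_of {X : Ctx K Γ A} {ns : List Net} (M : Model X.φ X.γ D.k ns D.ts)
    (hB : IsBase X.φ ⊤ D.B) (hp : ptsOK D.k D.B = true) (cen : ∀ a g, X.ι a * g = g * X.ι a)
    (sub : ∀ h, X.σ h ∈ X.H) {ZR : List (List ℕ)}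
    (hZ : ∀ i, ev (ext (zt X.σ X.γ X.z)) (nth [] ZR i) = X.ι (X.c i)) {i0 : ℕ} {pj : List ℕ}
    {rj : List (ℕ × ℕ)} (h : D.hypB ZR i0 pj rj = true) : D.Hyp X ns := by
  simp only [hypB, Bool.and_eq_true, decide_eq_true_eq, allLt_iff] at h
  obtain ⟨⟨h1, h2⟩, ⟨l1, l2, l3, l4, l5, l6⟩, h3, h4⟩ := h
  have hu : ∀ i, X.τ (unitZ i) = X.ι (X.c i) := fun i => by rw [Ctx.τ, unitZ, tv_unit, zero_add]
  have inv : X.z⁻¹ = X.s D.P * X.z * X.s D.Q * X.τ D.e := by
    have e1 := hZ i0
    have e2 := X.τ_zeroZ h2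
    rw [X.τ_addZ, hu, ← e1, beqL_sound h1, List.cons_append, ev_cons, ev_append, ev_cons, ev_sh, ev_sh,
      ext_zt_zero, Ctx.τ, cen] at e2
    rw [inv_eq_iff_mul_eq_one, ← e2]
    simp only [Ctx.s, Ctx.τ, mul_assoc]
  refine ⟨M, hB, hp, cen, sub, inv, fun j => ?_, fun i => ?_, by simp [l6]⟩
  · by_cases hj : j < pj.length
    · have e1 := hZ (nth 0 pj j)
      have e2 := X.τ_zeroZ (h3 j hj).2
      rw [X.τ_addZ, hu, ← e1, beqL_sound (h3 j hj).1, List.cons_append, ev_cons, ev_append, ev_cons,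
        ev_sh, ev_sh, ext_zt_zero, ext_zt_one, X.τ_smulZ, zpow_neg_one, inv_mul_eq_one,
        ev_invW, map_inv] at e2
      rw [mul_assoc, Ctx.τ, ← cen, ← Ctx.τ, e2, wg, wg]
      group
    · rw [wg_of_le _ (by omega), wg_of_le _ (by omega), nth_eq, List.getD_eq_default _ _ (by omega)]
      simp
  · by_cases hi : i < rj.length
    · obtain ⟨e1, e2, e3⟩ := h4 i hi
      have e4 := hZ (nth (0, 0) rj i).1
      generalize nth [] ZR (nth (0, 0) rj i).1 = w at *
      generalize (nth (0, 0) rj i).2 = n at *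
      have e5 : ev (ext (zt X.σ X.γ X.z)) (List.drop n w ++ List.take n w) =
          X.ι (X.c (nth (0, 0) rj i).1) := by
        rw [← List.take_append_drop n w, ev_append] at e4
        rw [ev_append, eq_inv_mul_iff_mul_eq.2 e4, ← cen]; group
      have e6 := X.τ_zeroZ e3
      rw [X.τ_addZ, X.τ_addZ, X.τ_smulZ, zpow_neg_one, inv_mul_eq_one, hu, ← e5,
        D.zsp_val X cen inv, beqL_sound e1, e2, Ctx.s_nil, one_mul] at e6
      exact mul_right_cancel e6
    · rw [nth_eq, nth_eq, List.getD_eq_default _ _ (by omega), List.getD_eq_default _ _ (by omega)]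
      exact X.τ_nil.symm

/-- The context without tails. -/
def ctx0 {G : Type*} [Group G] (φ : K →* Perm ℕ) (γ : ℕ → K) (ρ : K →* G) (z : G) (H : Subgroup G) :
    Ctx K G PUnit := ⟨φ, γ, ρ, z, 1, 1, H⟩

theorem hyp0 {G : Type*} [Group G] {φ : K →* Perm ℕ} {γ : ℕ → K} {ρ : K →* G} {z : G}
    {H : Subgroup G} {ns : List Net} (M : Model φ γ D.k ns D.ts) (hB : IsBase φ ⊤ D.B)
    (hp : ptsOK D.k D.B = true) (sub : ∀ h, ρ h ∈ H) {ZR : List (List ℕ)}
    (hZ : Holds (ext (zt ρ γ z)) ZR) {i0 : ℕ} {pj : List ℕ} {rj : List (ℕ × ℕ)}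
    (h : D.hypB ZR i0 pj rj = true) : D.Hyp (ctx0 φ γ ρ z H) ns :=
  hyp_of M hB hp (fun _ _ => by simp [ctx0]) sub (fun i => Enum.holds_nth hZ i) h

variable (D) in
noncomputable def kills (n : ℕ) (m : List ℤ) (cf : List (ℤ × List (ℤ × ℕ))) : Bool :=
  allLt cf.length fun i => D.comb n (nth (0, []) cf i).2
    (addZ (unitZ i) (smulZ (Int.neg (nth (0, []) cf i).1) m))

/-- The multiplier is trivial. -/
theorem closed_of {G : Type} [Group G] {φ : K →* Perm ℕ} {γ : ℕ → K} {ρ : K →* G} {z : G}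
    {ns : List Net} (M : Model φ γ D.k ns D.ts) (hB : IsBase φ ⊤ D.B) (hp : ptsOK D.k D.B = true)
    {ZR : List (List ℕ)} (hZ : Holds (ext (zt ρ γ z)) ZR) {i0 : ℕ} {pj : List ℕ} {rj : List (ℕ × ℕ)}
    (h : D.hypB ZR i0 pj rj = true) {n : ℕ} {m : List ℤ} {cf : List (ℤ × List (ℤ × ℕ))}
    (hk : D.kills n m cf = true) (hm : dotc ZR m 0 = 1 ∧ cf.length = ZR.length)
    (hup : ∀ {Γ A : Type} [Group Γ] [CommGroup A] {X : Ctx K Γ A}, D.Hyp X ns → D.Upto X n)
    (hsec : ∀ (Γ : Type) [Group Γ] [Finite Γ] (π : Γ →* G), IsStemExtension π →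
      ∃ σ : K →* Γ, π.comp σ = ρ ∧ ∀ k, σ k ∈ π.ker → σ k = 1)
    (hlift : ∀ (Γ : Type) [Group Γ] (σ : K →* Γ) (z' : Γ), Holds (ext (zt σ γ z')) ZR →
      ∃ f : G →* Γ, f.comp ρ = σ ∧ f z = z')
    (hgen : Subgroup.closure (Set.range ρ ∪ {z}) = ⊤) : Cover.Closed G := by
  intro Γ _ _ π hπ
  letI : CommGroup (Subgroup.center Γ) :=
    { (inferInstance : Group (Subgroup.center Γ)) with
      mul_comm := fun a b => Subtype.ext (Subgroup.mem_center_iff.1 b.2 a.1) }
  obtain ⟨σ, h1, h2⟩ := hsec Γ π hπ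
  obtain ⟨z0, hz0⟩ := hπ.1 z
  have hker : ∀ z', π z' = z → ∀ i, ev (ext (zt σ γ z')) (nth [] ZR i) ∈ π.ker := fun z' hz' i => by
    rw [MonoidHom.mem_ker, map_ev_zt, h1, hz']; exact Enum.holds_nth hZ i
  let c0 : ℕ → Subgroup.center Γ := fun i => ⟨_, hπ.2.1 (hker z0 hz0 i)⟩
  let α := (tv c0 m 0)⁻¹
  have hk0 : ∀ (c : ℕ → Subgroup.center Γ), (∀ i, (c i : Γ) ∈ π.ker) → ∀ v i,
      ((tv c v i : Subgroup.center Γ) : Γ) ∈ π.ker := fun c hc v => by
    induction v with
    | nil => exact fun _ => π.ker.one_mem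
    | cons a v ih => exact fun i => π.ker.mul_mem (π.ker.zpow_mem (hc i) a) (ih _)
  have hα : (α : Γ) ∈ π.ker := π.ker.inv_mem (hk0 c0 (hker z0 hz0) m 0)
  have hz1 : π (z0 * α) = z := by rw [map_mul, hz0, hα, mul_one]
  let X : Ctx K Γ (Subgroup.center Γ) := ⟨φ, γ, σ, z0 * α, (Subgroup.center Γ).subtype,
    fun i => c0 i * α ^ cnt (ZR.getD i []), σ.range⟩
  have hc : ∀ i, ev (ext (zt σ γ (z0 * α))) (nth [] ZR i) = X.ι (X.c i) := fun i => by
    rw [ev_zt_mul σ γ z0 fun g => (Subgroup.mem_center_iff.1 α.2 g).symm, nth_eq]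
    simp [X, c0, nth_eq]
  have hy : D.Hyp X ns := hyp_of M hB hp (fun a g => (Subgroup.mem_center_iff.1 a.2 g).symm)
    (fun h => ⟨h, rfl⟩) hc h
  have hm1 : X.τ m = 1 := by
    show X.ι (tv (fun i => c0 i * α ^ cnt (ZR.getD i [])) m 0) = 1
    rw [tv_mul, hm.1, zpow_one, mul_inv_cancel, map_one]
  have hall : Holds (ext (zt σ γ (z0 * α))) ZR := fun w hw => by
    obtain ⟨i, hi, rfl⟩ := List.getElem_of_mem hw
    have e1 := (hup hy).comb (allLt_iff.1 hk i (hm.2 ▸ hi))
    rw [X.τ_addZ, X.τ_smulZ, hm1, one_zpow, mul_one, Ctx.τ, unitZ, tv_unit, zero_add, ← hc] at e1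
    obtain ⟨k, hk'⟩ := e1
    have e2 := h2 k (hk' ▸ hker _ hz1 i)
    rwa [hk', nth_eq, List.getD_eq_getElem _ _ hi] at e2
  obtain ⟨f, f1, f2⟩ := hlift Γ σ _ hall
  refine Cover.ker_eq_bot_of_split hπ f fun g => ?_
  have : Subgroup.closure (Set.range ρ ∪ {z}) ≤ (π.comp f).eqLocus (MonoidHom.id G) := by
    rw [Subgroup.closure_le]
    rintro _ (⟨k, rfl⟩ | rfl)
    · show π (f.comp ρ k) = ρ k
      rw [f1, ← h1]; rfl
    · show π (f _) = _
      rw [f2, hz1]; rfl
  exact this (hgen ▸ Subgroup.mem_top g)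

end Dce

/-! ### Sections over perfect groups with trivial multiplier -/

theorem exists_section {K G Γ : Type} [Group K] [Group G] [Group Γ] [Finite K] [Finite Γ]
    (hp : commutator K = ⊤) (hcl : Cover.Closed K) (ρ : K →* G) {π : Γ →* G}
    (hπ : Function.Surjective π) (hc : π.ker ≤ Subgroup.center Γ) :
    ∃ σ : K →* Γ, π.comp σ = ρ := by
  let E := Cover.pullback π ρ
  let p := Cover.pbFst π ρ
  have p1 : Function.Surjective p := Cover.pbFst_surjective π ρ hπ
  have p2 : p.ker ≤ Subgroup.center E := Cover.pbFst_ker_le π ρ hc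
  let q : commutator E →* K := p.comp (commutator E).subtype
  have q1 : Function.Surjective q := fun k => by
    have : k ∈ (commutator E).map p := by
      rw [map_commutator_eq, MonoidHom.range_eq_top.2 p1, ← commutator_def, hp]; trivial
    obtain ⟨e, he, rfl⟩ := this
    exact ⟨⟨e, he⟩, rfl⟩
  have q2 : commutator E ≤ ⁅commutator E, commutator E⁆ :=
    Cover.commutator_le_of_map_eq_top p2 _ fun e => by
      obtain ⟨s, hs⟩ := q1 (p e); exact ⟨s, s.2, hs⟩
  have q3 : q.ker = ⊥ := hcl _ q ⟨q1, fun x hx => Subgroup.mem_center_iff.2 fun y =>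
    Subtype.ext (Subgroup.mem_center_iff.1 (p2 hx) y), fun x _ => by
      have := q2 x.2
      rw [← Subgroup.map_subtype_commutator] at this
      obtain ⟨y, hy, e⟩ := this
      exact Subtype.ext e ▸ hy⟩
  let e := MulEquiv.ofBijective q ⟨(MonoidHom.ker_eq_bot_iff q).1 q3, q1⟩
  refine ⟨(Cover.pbSnd π ρ).comp ((commutator E).subtype.comp e.symm.toMonoidHom), ?_⟩
  ext k
  exact (Cover.pb_comm π ρ _).symm.trans (congrArg ρ (e.apply_symm_apply k))

/-- In a quotient the centraliser of the image is not larger. -/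
theorem card_centralizer_map_le {K Y : Type*} [Group K] [Group Y] [Finite K] {f : K →* Y}
    (hf : Function.Surjective f) (a : K) :
    Nat.card (Subgroup.centralizer {f a}) ≤ Nat.card (Subgroup.centralizer {a}) := by
  let C := (Subgroup.centralizer {f a}).comap f
  have h1 : Nat.card C = Nat.card f.ker * Nat.card (Subgroup.centralizer {f a}) := by
    have := Subgroup.card_mul_index C
    have h2 := Subgroup.card_mul_index (Subgroup.centralizer {f a})
    have h3 := Subgroup.card_mul_index f.ker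
    rw [Subgroup.index_comap_of_surjective _ hf] at this
    rw [Subgroup.index_ker, MonoidHom.range_eq_top.2 hf, Subgroup.card_top, ← h2, ← this,
      ← mul_assoc] at h3
    haveI : Finite Y := Finite.of_surjective f hf
    exact (Nat.eq_of_mul_eq_mul_right (Nat.pos_of_ne_zero Subgroup.index_ne_zero_of_finite) h3).symm
  have h2 : Nat.card C ≤ Nat.card f.ker * Nat.card (Subgroup.centralizer {a}) := by
    let g : C → f.ker := fun x => ⟨x * a * x⁻¹ * a⁻¹, by
      have := Subgroup.mem_centralizer_singleton_iff.1 (Subgroup.mem_comap.1 x.2)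
      rw [MonoidHom.mem_ker, map_mul, map_mul, map_mul, this]; simp⟩
    rw [← Nat.card_prod]
    refine Nat.card_le_card_of_injective (fun x => (g x, ⟨((Function.invFun g (g x) : C) : K)⁻¹ * x, ?_⟩))
      fun x y hxy => ?_
    · have := Function.invFun_eq (f := g) ⟨x, rfl⟩
      rw [Subgroup.mem_centralizer_singleton_iff]
      generalize Function.invFun g (g x) = u' at *
      replace this : (u' : K) * a * (u' : K)⁻¹ = x * a * (x : K)⁻¹ :=
        mul_right_cancel (congrArg Subtype.val this)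
      generalize (u' : K) = u at *
      have e : (x : K) * a = u * a * u⁻¹ * x := by rw [this]; simp
      rw [mul_assoc, e]; group
    · simp only [Prod.mk.injEq, Subtype.mk.injEq] at hxy
      rw [hxy.1] at hxy
      exact Subtype.ext (mul_left_cancel hxy.2)
  rw [h1] at h2
  exact Nat.le_of_mul_le_mul_left h2 Nat.card_pos

/-- A central element of an image lies in the cyclic group generated by the image of a
self-centralising element of prime order; it is trivial unless that image is central. -/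
theorem eq_one_of_central {K Γ : Type*} [Group K] [Group Γ] [Finite K] {a : K} {p : ℕ}
    (hp : p.Prime) (ha : a ^ p = 1) (hC : ∀ c, Commute c a → c ∈ Subgroup.zpowers a) (σ : K →* Γ)
    {k : K} (hk : ∀ x, Commute (σ k) (σ x)) : σ k = 1 ∨ σ a = 1 ∨ ∀ x, Commute (σ a) (σ x) := by
  let f := σ.rangeRestrict
  haveI : Finite σ.range := Finite.of_surjective f σ.rangeRestrict_surjective
  haveI := Fact.mk hp
  by_cases h1 : f a = 1
  · exact Or.inr (Or.inl (congrArg Subtype.val h1))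
  have h2 : orderOf (f a) = p := orderOf_eq_prime (by rw [← map_pow, ha, map_one]) h1
  have h3 : Nat.card (Subgroup.centralizer {a}) ≤ p := by
    refine (Subgroup.card_le_of_le (K := Subgroup.zpowers a) fun c hc =>
      hC c (Subgroup.mem_centralizer_singleton_iff.1 hc)).trans ?_
    rw [Nat.card_zpowers]
    exact Nat.le_of_dvd hp.pos (orderOf_dvd_of_pow_eq_one ha)
  have h4 : Subgroup.zpowers (f a) = Subgroup.centralizer {f a} :=
    Subgroup.eq_of_le_of_card_ge (by simp [Subgroup.mem_centralizer_singleton_iff]) (by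
      rw [Nat.card_zpowers, h2]
      exact (card_centralizer_map_le σ.rangeRestrict_surjective a).trans h3)
  have h5 : f k ∈ Subgroup.zpowers (f a) := by
    rw [h4, Subgroup.mem_centralizer_singleton_iff]; exact Subtype.ext (hk a)
  by_cases h6 : f k = 1
  · exact Or.inl (congrArg Subtype.val h6)
  have h7 := mem_zpowers_of_prime_card (G := Subgroup.zpowers (f a)) (g := ⟨f k, h5⟩)
    (g' := ⟨f a, Subgroup.mem_zpowers _⟩) (by rw [Nat.card_zpowers, h2])
    (fun h => h6 (congrArg Subtype.val h))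
  obtain ⟨n, hn⟩ := h7
  have h8 : σ k ^ n = σ a := congrArg (fun x : Subgroup.zpowers (f a) => ((x : σ.range) : Γ)) hn
  exact Or.inr (Or.inr fun x => h8 ▸ (hk x).zpow_left n)

/-- If `a = ⁅u, v⁆` and conjugates of `a` generate `U`, and the image of `a` is central, then the
image of `U` is trivial. -/
theorem image_eq_one {K Γ : Type*} [Group K] [Group Γ] {a u v : K} (ha : a = u * v * u⁻¹ * v⁻¹)
    {U : Subgroup K} (hu : u ∈ U) (hU : U ≤ Subgroup.normalClosure {a}) (σ : K →* Γ)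
    (h : σ a = 1 ∨ ∀ x, Commute (σ a) (σ x)) : ∀ x ∈ U, σ x = 1 := by
  have h1 : σ a = 1 := h.elim id fun h => by
    let Z : Subgroup K := (Subgroup.centralizer (Set.range σ)).comap σ
    haveI : Z.Normal := ⟨fun n hn g => by
      have : σ g * σ n = σ n * σ g := hn _ ⟨g, rfl⟩
      rw [Subgroup.mem_comap, map_mul, map_mul, this, map_inv, mul_inv_cancel_right]; exact hn⟩
    have h2 : u ∈ Z := Subgroup.normalClosure_le_normal (by
      rintro _ rfl _ ⟨x, rfl⟩; exact (h x).symm.eq) (hU hu)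
    have h3 : σ v * σ u = σ u * σ v := h2 _ ⟨v, rfl⟩
    rw [ha]; simp [← h3]
  exact fun x hx => Subgroup.normalClosure_le_normal (N := σ.ker) (by rintro _ rfl; exact h1) (hU hx)

theorem commutator_eq_top_of {K : Type*} [Group K] {a u v : K} (ha : a = u * v * u⁻¹ * v⁻¹)
    (hU : ⊤ ≤ Subgroup.normalClosure {a}) : commutator K = ⊤ :=
  eq_top_iff.2 (hU.trans (Subgroup.normalClosure_le_normal (by
    rintro _ rfl
    exact ha ▸ Subgroup.commutator_mem_commutator (Subgroup.mem_top u) (Subgroup.mem_top v))))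

theorem gw_le_normalClosure {K : Type*} [Group K] (γ : ℕ → K) (a : List ℕ) (gs : List (List ℕ)) :
    gw γ (gs.map fun g => g ++ a ++ invW g) ≤ Subgroup.normalClosure {ev (ext γ) a} :=
  gw_le fun u hu => by
    obtain ⟨g, -, rfl⟩ := List.mem_map.1 hu
    rw [ev_append, ev_append, ev_invW]
    exact Subgroup.Normal.conj_mem inferInstance _
      (Subgroup.subset_normalClosure (Set.mem_singleton _)) _

/-- The section for a perfect group with trivial multiplier and a self-centralising element. -/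
theorem section_of {K G : Type} [Group K] [Group G] [Finite K] (hcl : Cover.Closed K) {a u v : K}
    (ha : a = u * v * u⁻¹ * v⁻¹) {p : ℕ} (hp : p.Prime) (hap : a ^ p = 1)
    (hC : ∀ c, Commute c a → c ∈ Subgroup.zpowers a) (hU : ⊤ ≤ Subgroup.normalClosure {a})
    (ρ : K →* G) (Γ : Type) [Group Γ] [Finite Γ] (π : Γ →* G) (hπ : IsStemExtension π) :
    ∃ σ : K →* Γ, π.comp σ = ρ ∧ ∀ k, σ k ∈ π.ker → σ k = 1 := by
  obtain ⟨σ, h⟩ := exists_section (commutator_eq_top_of ha hU) hcl ρ hπ.1 hπ.2.1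
  refine ⟨σ, h, fun k hk => ?_⟩
  rcases eq_one_of_central hp hap hC σ (k := k)
    (fun x => (Subgroup.mem_center_iff.1 (hπ.2.1 hk) _).symm) with h1 | h1
  · exact h1
  · exact image_eq_one ha (Subgroup.mem_top u) hU σ h1 k (Subgroup.mem_top k)

/-! ### The presented group in terms of `K` and `z` -/

section
open Cfsg.Spor
variable {α : Type} [DecidableEq α] {K : Type*} [Group K]

noncomputable def isK (k : ℕ) (ts : List Tab) (B : List ℕ) (w : List ℕ) : Bool :=
  beqL (sh (w.map (· - 2))) w && fixesB k ts (w.map (· - 2)) B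

/-- `bk`: the letters `z`, `γ j` as letters of `G`; `Wd`: the letters of `G` as words. -/
noncomputable def presB (R : List (List ℕ)) (n : ℕ) (bk : List ℕ) (Wd : List (List ℕ)) : Bool :=
  Nat.beq Wd.length n && ((allLt bk.length fun j => beqL (nth [] Wd (nth 0 bk j)) [Nat.mul 2 j]) &&
    allLt n fun j => trivW [] R
      (Nat.mul 2 j :: invW (expand (dbl (bk.map fun i => [Nat.mul 2 i])) (nth [] Wd j))))

variable {G : Type*} [Group G] {δ : ℕ → G} {R : List (List ℕ)} {n : ℕ} {bk : List ℕ}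
  {Wd : List (List ℕ)} {γ : ℕ → K} {ρ : K →* G}

theorem nth_map_two (bk : List ℕ) (δ : ℕ → G) {j : ℕ} (hj : j < bk.length) :
    wg δ (bk.map fun i => [Nat.mul 2 i]) j = δ (nth 0 bk j) := by
  rw [wg, nth_eq, nth_eq, List.getD_eq_getElem _ _ (by simpa using hj), List.getD_eq_getElem _ _ hj,
    List.getElem_map, ev_singleton]
  exact ext_two_mul _ _

theorem pres_wd (hR : Holds (ext δ) R) (h1 : ∀ j, n ≤ j → δ j = 1) (h : presB R n bk Wd = true)
    {z : G} (hz : zt ρ γ z = wg δ (bk.map fun i => [Nat.mul 2 i])) : δ = wg (zt ρ γ z) Wd := by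
  simp only [presB, Bool.and_eq_true, Nat.beq_eq, allLt_iff] at h
  funext j
  by_cases hj : j < n
  · have := trivW_sound (by simp) hR (h.2.2 j hj)
    rw [ev_cons, ev_invW, ev_expand_dbl, mul_inv_eq_one, ← hz] at this
    exact (ext_two_mul δ j).symm.trans this
  · rw [h1 j (by omega), wg_of_le _ (by omega)]

theorem pres_zr (hR : Holds (ext δ) R) {z : G} (h : δ = wg (zt ρ γ z) Wd) {ZR : List (List ℕ)}
    (hZ : (allL ZR fun w => memLL w (R.map (expand (dbl Wd)))) = true) :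
    Holds (ext (zt ρ γ z)) ZR := fun w hw => by
  obtain ⟨r, hr, rfl⟩ := List.mem_map.1 (memLL_sound (allL_iff.1 hZ w hw))
  rw [ev_expand_dbl, ← h]; exact hR r hr

theorem pres_gen_zt {L : List ℕ} (hL : gp δ L = ⊤) {z : G} (h : δ = wg (zt ρ γ z) Wd) :
    Subgroup.closure (Set.range ρ ∪ {z}) = ⊤ := by
  rw [eq_top_iff, ← hL, h]
  refine gp_le fun a _ => ext_mem (ev_mem _ _ _ fun b _ => ext_mem ?_)
  generalize b / 2 = j
  cases j
  · exact Subgroup.subset_closure (Or.inr rfl)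
  · exact Subgroup.subset_closure (Or.inl ⟨_, rfl⟩)

theorem pres_hlift {gens : List α} (hg : ∀ x, x ∈ gens) (hn : gens.Nodup)
    {edges : List (α × ℕ × α)} {extra : List (FreeGroup α)}
    {ρ : K →* CoxPresented α edges extra} {φ : K →* Perm ℕ} {k : ℕ} {ns : List Net} {ts : List Tab}
    (M : Model φ γ k ns ts) {B : List ℕ} (hB : IsBase φ ⊤ B) (hp : ptsOK k B = true) {L : List ℕ}
    (hL : gp γ L = ⊤) (h1 : ∀ j, bk.length ≤ j + 1 → γ j = 1)
    (h : presB (defR gens edges extra) gens.length bk Wd = true) (hb : 0 < bk.length)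
    {z : CoxPresented α edges extra}
    (hz : zt ρ γ z = wg (pγ gens edges extra) (bk.map fun i => [Nat.mul 2 i])) {ZR : List (List ℕ)}
    (hZ : (allL (defR gens edges extra) fun r =>
      (fun w => memLL w ZR || isK k ts B w) (expand (dbl Wd) r)) = true)
    (Γ : Type) [Group Γ] (σ : K →* Γ) (z' : Γ) (hH : Holds (ext (zt σ γ z')) ZR) :
    ∃ f : CoxPresented α edges extra →* Γ, f.comp ρ = σ ∧ f z = z' := by
  simp only [presB, Bool.and_eq_true, Nat.beq_eq, allLt_iff] at h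
  obtain ⟨f, hf⟩ := pres_lift hg hn (edges := edges) (extra := extra) (p := wg (zt σ γ z') Wd)
    (fun j hj => wg_of_le _ (by omega)) fun r hr => by
      have := allL_iff.1 hZ r hr
      rw [Bool.or_eq_true, isK, Bool.and_eq_true] at this
      rw [← ev_expand_dbl]
      rcases this with h2 | h2
      · exact hH _ (memLL_sound h2)
      · rw [← beqL_sound h2.1, ev_sh, hB _ trivial (fixesB_sound M hp h2.2), map_one]
  have key : ∀ j < bk.length, f (zt ρ γ z j) = zt σ γ z' j := fun j hj => by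
    rw [hz, nth_map_two _ _ hj, hf, wg, beqL_sound (h.2.1 j hj), ev_singleton]
    exact ext_two_mul _ j
  refine ⟨f, hom_ext_gp hL fun j => ?_, key 0 hb⟩
  by_cases hj : j + 1 < bk.length
  · exact key _ hj
  · rw [h1 j (by omega), map_one, map_one]

/-- The map from the group on the letters of `K`. -/
theorem pres_rho {m : ℕ} {RK : List (List ℕ)} {b0 : ℕ} (hm : bk.length = m)
    (h : Holds (ext (wg δ (bk.map fun i => [Nat.mul 2 i]))) RK) : ∃ ρ : PG m RK →* G,
      zt ρ (pgγ m RK) (δ b0) = wg δ ((b0 :: bk).map fun i => [Nat.mul 2 i]) := by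
  obtain ⟨ρ, hρ⟩ := pg_lift (m := m) (fun j hj => wg_of_le _ (by simpa [hm] using hj)) h
  refine ⟨ρ, funext fun j => ?_⟩
  cases j
  · exact (nth_map_two (b0 :: bk) δ (Nat.succ_pos _)).symm
  · exact hρ _

end

end Cfsg.Agent.CGT
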