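import Cfsg.Agent.CGT.Pres

set_option autoImplicit false

/-! Small lemmas used by generated certificates. -/

namespace Cfsg.Agent.CGT

open Equiv

variable {G : Type*} [Group G]

theorem TabOK.of_beq {k d : ℕ} {ns : List Net} (hv : validAll (2 ^ k) ns = true) {a : ℕ} {t : Tab}
    (h : Tab.beq (mkTab k d ns a) t = true) : TabOK k (lp ns a) t :=
  Tab.beq_sound h ▸ mkTab_ok d hv a

theorem TabOK.next {k : ℕ} {ns : List Net} {j : ℕ} {t : Tab} (h : TabOK k (lp ns (2 * j)) t)
    {R : List (List ℕ)} (hR : Holds (lp ns) R) (hm : memLL [2 * j, 2 * j] R = true) :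
    TabOK k (lp ns (2 * j + 1)) t := by
  have := hR _ (memLL_sound hm)
  simp only [ev_cons, ev_nil, mul_one] at this
  have h2 := h.inv this
  rwa [lp, ext_two_mul, ← ext_two_mul_add_one] at h2

/-- The tables of the letters from `a` on. -/
def TabsFrom (k : ℕ) (ns : List Net) : ℕ → List Tab → Prop
  | a, [] => 2 * ns.length ≤ a
  | a, t :: ts => TabOK k (lp ns a) t ∧ TabsFrom k ns (a + 1) ts

theorem TabsFrom.ok' {k : ℕ} {ns : List Net} {a : ℕ} {ts : List Tab} (h : TabsFrom k ns a ts) :
    ∀ b, TabOK k (lp ns (a + b)) (nth Tab.ident ts b) := by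
  induction ts generalizing a with
  | nil =>
    intro b
    rw [lp_of_le ns (le_trans h (Nat.le_add_right _ _))]
    intro i _; rfl
  | cons t ts ih =>
    intro b
    cases b with
    | zero => exact h.1
    | succ b =>
      have := ih h.2 b
      rwa [show a + 1 + b = a + (b + 1) by ring] at this

theorem TabsFrom.ok {k : ℕ} {ns : List Net} {ts : List Tab} (h : TabsFrom k ns 0 ts) :
    TabsOK k (lp ns) ts := fun b => by simpa using h.ok' b

/-- All tables at once. -/
noncomputable def tabsB (k d : ℕ) (ns : List Net) (ts : List Tab) : Bool :=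
  Nat.beq ts.length (Nat.mul 2 ns.length) &&
    allLt ts.length fun a => Tab.beq (mkTab k d ns a) (nth Tab.ident ts a)

theorem tabsB_sound {k d : ℕ} {ns : List Net} (hv : validAll (2 ^ k) ns = true) {ts : List Tab}
    (h : tabsB k d ns ts = true) : TabsOK k (lp ns) ts := by
  rw [tabsB, Bool.and_eq_true, Nat.beq_eq, allLt_iff] at h
  refine tabsOK_of_forall h.1 fun a ha => ?_
  have := TabOK.of_beq hv (h.2 a ha)
  rwa [nth_eq, List.getD_eq_getElem _ _ ha] at this

/-- Relators in derived letters follow from known relators. -/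
noncomputable def relsFrom (I : List ℕ) (D W R : List (List ℕ)) : Bool :=
  (allL I fun a => memLL [a, a] D) && (fun ds => allL R fun r => trivW I D (expand ds r)) (dbl W)

theorem Holds.relsFrom {γ : ℕ → G} {I : List ℕ} {D W R : List (List ℕ)} (h : Holds (ext γ) D)
    (hs : relsFrom I D W R = true) : Holds (ext (wg γ W)) R := fun r hr => by
  rw [CGT.relsFrom, Bool.and_eq_true] at hs
  have := trivW_sound (invol_sound h hs.1) h (allL_iff.1 hs.2 r hr)
  rwa [ev_expand, der_dbl] at this

theorem ev_expand_dbl (γ : ℕ → G) (W : List (List ℕ)) (u : List ℕ) :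
    ev (ext γ) (expand (dbl W) u) = ev (ext (wg γ W)) u := by rw [ev_expand, der_dbl]

/-- The letters of `L` are among the words `W`, with indices in `L'`. -/
noncomputable def lettersIn (W : List (List ℕ)) (L' L : List ℕ) : Bool :=
  allL L fun a => memLL [a] (L'.map (nth [] (dbl W)))

theorem gp_le_gp_wg (γ : ℕ → G) {W : List (List ℕ)} {L' L : List ℕ} (h : lettersIn W L' L = true) :
    gp γ L ≤ gp (wg γ W) L' := gp_le fun a ha => by
  obtain ⟨b, hb, e⟩ := List.mem_map.1 (memLL_sound (allL_iff.1 h a ha))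
  have := ext_mem_gp (wg γ W) hb
  rwa [← der_dbl, der, e, ev_singleton] at this

/-- The words of `S` are among the words `W`, with indices in `L'`. -/
noncomputable def wordsAmong (W : List (List ℕ)) (L' : List ℕ) (S : List (List ℕ)) : Bool :=
  allL S fun u => memLL u (L'.map (nth [] (dbl W)))

theorem gw_le_gp_wg (γ : ℕ → G) {W : List (List ℕ)} {L' : List ℕ} {S : List (List ℕ)}
    (h : wordsAmong W L' S = true) : gw γ S ≤ gp (wg γ W) L' := gw_le fun u hu => by
  obtain ⟨b, hb, e⟩ := List.mem_map.1 (memLL_sound (allL_iff.1 h u hu))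
  have := ext_mem_gp (wg γ W) hb
  rwa [← der_dbl, der, e] at this

/-- A finite subgroup with a bound for the order. -/
def Bd (K : Subgroup G) (m : ℕ) : Prop := Finite K ∧ Nat.card K ≤ m

theorem Bd.mono {K L : Subgroup G} {m : ℕ} (h : Bd L m) (hK : K ≤ L) : Bd K m := by
  haveI := h.1
  exact ⟨Finite.of_injective _ (Subgroup.inclusion_injective hK),
    (Subgroup.card_le_of_le hK).trans h.2⟩

theorem Bd.bot : Bd (⊥ : Subgroup G) 1 := ⟨inferInstance, by simp⟩

theorem Bd.gp_nil (γ : ℕ → G) : Bd (gp γ []) 1 := Bd.bot.mono (gp_le (by simp))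

theorem Bd.step {E : Enum} {γ : ℕ → G} {H : Subgroup G} {n m : ℕ} {L : List ℕ}
    (h : E.Fin γ H n L) (hH : Bd H m) {N : ℕ} (e : n * m = N) : Bd (gp γ L) N := e ▸ h.bound hH

theorem Bd.top {m : ℕ} {K : Subgroup G} (h : Bd K m) (e : K = ⊤) : Finite G ∧ Nat.card G ≤ m := by
  subst e
  haveI := h.1
  exact ⟨Finite.of_equiv _ Subgroup.topEquiv.toEquiv, by simpa using h.2⟩

/-- The chain and the bound give the order and a base. -/
theorem Bd.chain {φ : G →* Perm ℕ} {γ : ℕ → G} {k : ℕ} {ns : List Net} {ts : List Tab}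
    (M : Model φ γ k ns ts) {L : List ℕ} {m : ℕ} (h : Bd (gp γ L) m) {ls : List Level}
    (hS : (allL ls fun l => wordsIn L l.S) = true) (hc : ChainSound φ (gp γ L) k [] ls)
    (e : m = chainCard ls) :
    Nat.card (gp γ L) = m ∧ ChainExact φ (gp γ L) k [] ls ∧ IsBase φ (gp γ L) (chainBase [] ls) := by
  haveI := h.1
  subst e
  exact chain_main hc h.2

theorem chainOK_sound' {φ : G →* Perm ℕ} {γ : ℕ → G} {k : ℕ} {ns : List Net} {ts : List Tab}
    (M : Model φ γ k ns ts) {L : List ℕ} {ls : List Level}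
    (hS : (allL ls fun l => wordsIn L l.S) = true) (h : chainOK k ns ts ls [] = true) :
    ChainSound φ (gp γ L) k [] ls :=
  chainOK_sound M rfl (fun l hl => wordsIn_sound γ (allL_iff.1 hS l hl)) h

theorem Level.ok_sound' {φ : G →* Perm ℕ} {γ : ℕ → G} {k : ℕ} {ns : List Net} {ts : List Tab}
    (M : Model φ γ k ns ts) {L F : List ℕ} {l : Level}
    (h : (ptsOK k F && (wordsIn L l.S && l.ok k ns ts F)) = true) : l.Sound φ (gp γ L) k F := by
  simp only [Bool.and_eq_true] at h
  exact Level.ok_sound M h.1 (wordsIn_sound γ h.2.1) h.2.2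

theorem Enum.hyp_of {E : Enum} {γ : ℕ → G} {H : Subgroup G} {B : ℕ} (hv : validAll B E.ns = true)
    (hR : Holds (ext γ) E.R) (hP : Holds (lp E.ns) E.R) (hS : ∀ h ∈ E.Sub, ev (ext γ) h ∈ H)
    (hF : allL E.Sub (fixN E.ns E.b0) = true) : E.Hyp γ H :=
  ⟨⟨B, hv⟩, hR, hP, hS, fixN_all hv hF⟩

end Cfsg.Agent.CGT
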