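import Cfsg.Agent.CGT.Chain

set_option autoImplicit false

/-! Index bounds from a finished coset enumeration; derived letters; extension of models. -/

namespace Cfsg.Agent.CGT

open Equiv

variable {G : Type*} [Group G]

/-- The subgroup generated by the letters of a list. -/
def gp (γ : ℕ → G) (L : List ℕ) : Subgroup G := Subgroup.closure {x | ∃ a ∈ L, ext γ a = x}

theorem ext_mem_gp (γ : ℕ → G) {L : List ℕ} {a : ℕ} (ha : a ∈ L) : ext γ a ∈ gp γ L :=
  Subgroup.subset_closure ⟨a, ha, rfl⟩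

theorem ext_mem_gp' (γ : ℕ → G) {L : List ℕ} {a : ℕ} (ha : a ∈ L ∨ a ^^^ 1 ∈ L) :
    ext γ a ∈ gp γ L := by
  rcases ha with h | h
  · exact ext_mem_gp γ h
  · have := (gp γ L).inv_mem (ext_mem_gp γ h)
    rwa [ext_xor_one, inv_inv] at this

theorem gp_le {γ : ℕ → G} {L : List ℕ} {H : Subgroup G} (h : ∀ a ∈ L, ext γ a ∈ H) : gp γ L ≤ H :=
  (Subgroup.closure_le H).2 fun _ ⟨a, ha, e⟩ => e ▸ h a ha

/-- Membership in a list, for the kernel. -/
noncomputable def memL (a : ℕ) (L : List ℕ) : Bool :=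
  List.rec false (fun b _ ih => Bool.rec ih true (Nat.beq a b)) L

theorem memL_sound {a : ℕ} {L : List ℕ} (h : memL a L = true) : a ∈ L := by
  induction L with
  | nil => exact absurd h (by simp [memL])
  | cons b L ih =>
    have h' : Bool.rec (motive := fun _ => Bool) (memL a L) true (Nat.beq a b) = true := h
    cases hb : Nat.beq a b
    · rw [hb] at h'; exact List.mem_cons_of_mem _ (ih h')
    · rw [Nat.eq_of_beq_eq_true hb]; exact List.mem_cons_self

/-- All letters of the word, up to inversion, are in the list. -/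
noncomputable def wordIn (L : List ℕ) (w : List ℕ) : Bool :=
  allL w fun a => memL a L || memL (Nat.xor a 1) L

theorem wordIn_sound (γ : ℕ → G) {L w : List ℕ} (h : wordIn L w = true) : ev (ext γ) w ∈ gp γ L :=
  ev_mem _ _ _ fun a ha => by
    have := allL_iff.1 h a ha
    rw [Bool.or_eq_true] at this
    exact ext_mem_gp' γ (this.imp memL_sound memL_sound)

/-- All words of the list are words in the letters of `L`. -/
noncomputable def wordsIn (L : List ℕ) (ws : List (List ℕ)) : Bool := allL ws (wordIn L)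

theorem wordsIn_sound (γ : ℕ → G) {L : List ℕ} {ws : List (List ℕ)} (h : wordsIn L ws = true) :
    ∀ w ∈ ws, ev (ext γ) w ∈ gp γ L := fun w hw => wordIn_sound γ (allL_iff.1 h w hw)

theorem gp_mono (γ : ℕ → G) {L L' : List ℕ} (h : wordIn L' L = true) : gp γ L ≤ gp γ L' :=
  gp_le fun a ha => by
    have := allL_iff.1 h a ha
    rw [Bool.or_eq_true] at this
    exact ext_mem_gp' γ (this.imp memL_sound memL_sound)

/-- The subgroup generated by the values of a list of words. -/
def gw (γ : ℕ → G) (S : List (List ℕ)) : Subgroup G :=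
  Subgroup.closure {x | ∃ u ∈ S, ev (ext γ) u = x}

theorem ev_mem_gw (γ : ℕ → G) {S : List (List ℕ)} {u : List ℕ} (hu : u ∈ S) :
    ev (ext γ) u ∈ gw γ S := Subgroup.subset_closure ⟨u, hu, rfl⟩

theorem gw_le {γ : ℕ → G} {S : List (List ℕ)} {H : Subgroup G} (h : ∀ u ∈ S, ev (ext γ) u ∈ H) :
    gw γ S ≤ H := (Subgroup.closure_le H).2 fun _ ⟨u, hu, e⟩ => e ▸ h u hu

/-- Every element of a group generated by letters is the value of a word. -/
theorem exists_word {γ : ℕ → G} {L : List ℕ} {x : G} (hx : x ∈ gp γ L) :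
    ∃ w : List ℕ, (∀ a ∈ w, a ∈ L ∨ a ^^^ 1 ∈ L) ∧ ev (ext γ) w = x := by
  induction hx using Subgroup.closure_induction'' with
  | one => exact ⟨[], by simp, rfl⟩
  | mem x hx =>
    obtain ⟨a, ha, rfl⟩ := hx
    exact ⟨[a], by simp [ha], by simp⟩
  | inv_mem x hx =>
    obtain ⟨a, ha, rfl⟩ := hx
    exact ⟨[a ^^^ 1], by simp [ha], by simp [ext_xor_one]⟩
  | mul x y _ _ hx hy =>
    obtain ⟨u, hu, rfl⟩ := hx
    obtain ⟨v, hv, rfl⟩ := hy
    refine ⟨u ++ v, fun a ha => ?_, by simp⟩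
    rcases List.mem_append.1 ha with h | h
    · exact hu a h
    · exact hv a h

theorem finite_bits (O : ℕ) : {i | O.testBit i = true}.Finite :=
  (Set.finite_lt_nat O).subset fun i hi =>
    lt_of_lt_of_le Nat.lt_two_pow_self (Nat.ge_two_pow_of_testBit hi)

theorem ncard_bits {O d : ℕ} (h : O >>> (2 ^ (d + 3)) = 0) :
    {i | O.testBit i = true}.ncard = popc d O := by
  rw [popc_eq, ← Set.ncard_coe_finset]
  congr 1
  ext i
  simp only [Set.mem_setOf_eq, Finset.coe_filter, Finset.mem_range]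
  refine ⟨fun hi => ⟨?_, hi⟩, fun hi => hi.2⟩
  by_contra hlt
  have : (O >>> 2 ^ (d + 3)).testBit (i - 2 ^ (d + 3)) = true := by
    rw [Nat.testBit_shiftRight, Nat.add_sub_cancel' (by omega)]; exact hi
  rw [h] at this; simp at this

theorem ncard_bits_range (N : ℕ) : {i | (2 ^ N - 1).testBit i = true}.ncard = N := by
  have : {i | (2 ^ N - 1).testBit i = true} = (Finset.range N : Set ℕ) := by
    ext i; simp
  rw [this, Set.ncard_coe_finset, Finset.card_range]

namespace Enum

variable {E : Enum} {γ : ℕ → G} {H : Subgroup G}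

/-- The final test: the set of nodes has `n` elements, all below `2^(d+3)`, and all edges with
letters in `L` are known. -/
noncomputable def fin (d n : ℕ) (L : List ℕ) (D : ℕ) (K : List ℕ) : Bool :=
  Nat.beq (Nat.shiftRight D (Nat.pow 2 (Nat.add d 3))) 0 && (Nat.beq (popc d D) n &&
    allL L fun a => Nat.beq (Nat.land D (nth 0 K a)) D)

/-- The outcome of an enumeration: at most `n` cosets. -/
def Fin (E : Enum) (γ : ℕ → G) (H : Subgroup G) (n : ℕ) (L : List ℕ) : Prop :=
  ∃ (D : ℕ) (w : ℕ → G), {i | D.testBit i = true}.ncard = n ∧ w E.b0 ∈ H ∧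
    ∀ x ∈ gp γ L, ∃ j, D.testBit j = true ∧ (w j)⁻¹ * x ∈ H ∧
      ∀ φ : G →* Perm ℕ, (∀ j, φ (γ j) = netPerm E.ns j) → φ x E.b0 = j

theorem fin_of_inv {D : ℕ} {K : List ℕ} (hI : E.Inv γ H D K) {n : ℕ} {L : List ℕ}
    (hn : {i | D.testBit i = true}.ncard = n)
    (hL : ∀ a ∈ L, D &&& nth 0 K a = D) : E.Fin γ H n L := by
  obtain ⟨w, hw⟩ := hI
  have h1 : ∀ a ∈ L, ∀ i, D.testBit i = true → Good H D w (ext γ a) i (lp E.ns a i) := by
    intro a ha i hi
    have := hi
    rw [← hL a ha, Nat.testBit_and, Bool.and_eq_true] at this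
    exact hw.2.2 a i this.2
  have h2 : ∀ (φ : G →* Perm ℕ), (∀ j, φ (γ j) = netPerm E.ns j) → ∀ a, φ (ext γ a) = lp E.ns a := by
    intro φ hφ a
    rw [map_ext, lp]; congr 1; funext j; exact hφ j
  have key : ∀ x ∈ gp γ L, ∀ i, D.testBit i = true → ∃ j, Good H D w x i j ∧
      ∀ φ : G →* Perm ℕ, (∀ j, φ (γ j) = netPerm E.ns j) → φ x i = j := by
    intro x hx
    induction hx using Subgroup.closure_induction'' with
    | one => exact fun i hi => ⟨i, ⟨hi, hi, by simp [H.one_mem]⟩, fun φ _ => by simp⟩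
    | mem x hx =>
      obtain ⟨a, ha, rfl⟩ := hx
      exact fun i hi => ⟨_, h1 a ha i hi, fun φ hφ => by rw [h2 φ hφ]⟩
    | inv_mem x hx =>
      obtain ⟨a, ha, rfl⟩ := hx
      intro i hi
      have hm : Set.MapsTo (lp E.ns a) {i | D.testBit i = true} {i | D.testBit i = true} :=
        fun i hi => (h1 a ha i hi).2.1
      have hs := ((finite_bits D).injOn_iff_bijOn_of_mapsTo hm).1 (lp E.ns a).injective.injOn
      obtain ⟨j, hj, rfl⟩ := hs.surjOn hi
      exact ⟨j, (h1 a ha j hj).symm, fun φ hφ => by rw [map_inv, h2 φ hφ, perm_inv_apply]⟩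
    | mul x y _ _ hx hy =>
      intro i hi
      obtain ⟨j, g1, e1⟩ := hy i hi
      obtain ⟨l, g2, e2⟩ := hx j g1.2.1
      exact ⟨l, g1.trans g2, fun φ hφ => by rw [map_mul, Perm.mul_apply, e1 φ hφ, e2 φ hφ]⟩
  refine ⟨D, w, hn, hw.1, fun x hx => ?_⟩
  obtain ⟨j, g, e⟩ := key x hx _ hw.2.1
  refine ⟨j, g.2.1, ?_, e⟩
  have := H.mul_mem g.2.2 (H.inv_mem hw.1)
  simpa using this

theorem fin_of_run (hy : E.Hyp γ H) {cs : List ℕ} {D : ℕ} {K : List ℕ} (hI : E.Inv γ H D K)
    {d n : ℕ} {L : List ℕ} (h : E.run cs D K (fin d n L) = true) : E.Fin γ H n L := by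
  obtain ⟨D', K', h1, h2⟩ := run_inv hy hI h
  unfold fin at h2
  simp only [Bool.and_eq_true, Nat.beq_eq, allL_iff] at h2
  exact fin_of_inv h1 ((ncard_bits h2.1).trans h2.2.1) h2.2.2

theorem fin_of_done (hy : E.Hyp γ H) {cs : List ℕ} {D : ℕ} {K : List ℕ} (hI : E.Inv γ H D K)
    {n : ℕ} {L : List ℕ} (h : E.run cs D K (done n L) = true) : E.Fin γ H n L := by
  obtain ⟨D', K', h1, h2⟩ := run_inv hy hI h
  unfold done at h2
  simp only [Bool.and_eq_true, Nat.beq_eq, allL_iff] at h2
  exact fin_of_inv h1 (by rw [h2.1]; exact ncard_bits_range n) h2.2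

/-- The order bound. -/
theorem Fin.card_le {n : ℕ} {L : List ℕ} (h : E.Fin γ H n L) [Finite H] :
    Finite (gp γ L) ∧ Nat.card (gp γ L) ≤ n * Nat.card H := by
  obtain ⟨D, w, hn, -, hw⟩ := h
  choose j hj using hw
  haveI : Finite {i | D.testBit i = true} := (finite_bits D).to_subtype
  let f : gp γ L → {i | D.testBit i = true} × H :=
    fun x => (⟨j x.1 x.2, (hj x.1 x.2).1⟩, ⟨(w (j x.1 x.2))⁻¹ * x.1, (hj x.1 x.2).2.1⟩)
  have hf : Function.Injective f := by
    intro x y e
    have e1 : j x.1 x.2 = j y.1 y.2 := congrArg (fun p => p.1.1) e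
    have e2 : (w (j x.1 x.2))⁻¹ * x.1 = (w (j y.1 y.2))⁻¹ * y.1 := congrArg (fun p => p.2.1) e
    rw [e1] at e2
    exact Subtype.ext (mul_left_cancel e2)
  refine ⟨Finite.of_injective f hf, ?_⟩
  have := Nat.card_le_card_of_injective f hf
  rwa [Nat.card_prod, Nat.card_coe_set_eq, hn] at this

/-- The order bound in a convenient form. -/
theorem Fin.bound {n m : ℕ} {L : List ℕ} (h : E.Fin γ H n L) (hH : Finite H ∧ Nat.card H ≤ m) :
    Finite (gp γ L) ∧ Nat.card (gp γ L) ≤ n * m := by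
  haveI := hH.1
  exact ⟨h.card_le.1, h.card_le.2.trans (Nat.mul_le_mul_left n hH.2)⟩

/-- The stabiliser of the base node. -/
theorem Fin.stab {n : ℕ} {L : List ℕ} (h : E.Fin γ H n L) {φ : G →* Perm ℕ}
    (hφ : ∀ j, φ (γ j) = netPerm E.ns j) {x : G} (hx : x ∈ gp γ L) (e : φ x E.b0 = E.b0) :
    x ∈ H := by
  obtain ⟨D, w, -, h0, hw⟩ := h
  obtain ⟨j, -, h1, h2⟩ := hw x hx
  rw [← h2 φ hφ, e] at h1
  simpa using H.mul_mem h0 h1

end Enum

/-- The relators pass to the networks of a model. -/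
theorem holds_lp {φ : G →* Perm ℕ} {γ : ℕ → G} {ns : List Net} (hφ : ∀ j, φ (γ j) = netPerm ns j)
    {R : List (List ℕ)} (h : Holds (ext γ) R) : Holds (lp ns) R := fun r hr => by
  have := congrArg φ (h r hr)
  rw [map_ev, map_one] at this
  rw [← this]; congr 1; funext a; rw [map_ext, lp]; congr 1; funext j; exact (hφ j).symm

/-- The word fixes the point, tested with the networks. -/
noncomputable def fixN (ns : List Net) (b : ℕ) (w : List ℕ) : Bool :=
  Nat.beq (Nat.land (Nat.shiftRight (gatW ns w (Nat.shiftLeft 1 b)) b) 1) 1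

theorem fixN_sound {B : ℕ} {ns : List Net} (hv : validAll B ns = true) {b : ℕ} {w : List ℕ}
    (h : fixN ns b w = true) : ev (lp ns) w b = b := by
  have h1 : (gatW ns w (1 <<< b) >>> b) &&& 1 = 1 := Nat.eq_of_beq_eq_true h
  have h2 : (gatW ns w (1 <<< b)).testBit b = true := by
    rw [Nat.testBit, Nat.and_comm, h1]; rfl
  rw [testBit_gatW hv, Nat.one_shiftLeft, Nat.testBit_two_pow] at h2
  exact (of_decide_eq_true h2).symm

theorem fixN_all {B : ℕ} {ns : List Net} (hv : validAll B ns = true) {b : ℕ} {S : List (List ℕ)}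
    (h : allL S (fixN ns b) = true) : ∀ u ∈ S, ev (lp ns) u b = b :=
  fun u hu => fixN_sound hv (allL_iff.1 h u hu)

theorem Model.fix_all {φ : G →* Perm ℕ} {γ : ℕ → G} {k : ℕ} {ns : List Net} {ts : List Tab}
    (M : Model φ γ k ns ts) {b : ℕ} {S : List (List ℕ)} (hb : ptsOK k [b] = true)
    (h : (allL S fun u => fixesB k ts u [b]) = true) : ∀ u ∈ S, ev (lp ns) u b = b := fun u hu => by
  rw [← M.map_ev']
  exact fixesB_sound M hb (allL_iff.1 h u hu) b (by simp)

/-- Relators tested on a base. -/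
noncomputable def relsB (k : ℕ) (ts : List Tab) (B : List ℕ) (R : List (List ℕ)) : Bool :=
  allL R fun u => fixesB k ts u B

theorem relsB_sound {φ : G →* Perm ℕ} {γ : ℕ → G} {k : ℕ} {ns : List Net} {ts : List Tab}
    (M : Model φ γ k ns ts) {K : Subgroup G} {B : List ℕ} (hB : IsBase φ K B)
    (hp : ptsOK k B = true) {R : List (List ℕ)} (hR : ∀ u ∈ R, ev (ext γ) u ∈ K)
    (h : relsB k ts B R = true) : Holds (ext γ) R :=
  fun u hu => hB _ (hR u hu) (fixesB_sound M hp (allL_iff.1 h u hu))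

/-! ### Derived letters -/

/-- The inverse of a word. -/
noncomputable def invW (w : List ℕ) : List ℕ :=
  List.rec (motive := fun _ => List ℕ → List ℕ) (fun acc => acc)
    (fun a _ ih acc => ih (Nat.xor a 1 :: acc)) w []

theorem ev_invW (γ : ℕ → G) (w : List ℕ) : ev (ext γ) (invW w) = (ev (ext γ) w)⁻¹ := by
  have : ∀ acc : List ℕ, ev (ext γ) (List.rec (motive := fun _ => List ℕ → List ℕ) (fun acc => acc)
      (fun a _ ih acc => ih (Nat.xor a 1 :: acc)) w acc) = (ev (ext γ) w)⁻¹ * ev (ext γ) acc := by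
    induction w with
    | nil => intro acc; simp
    | cons a w ih =>
      intro acc
      have := ih (Nat.xor a 1 :: acc)
      simp only [ev_cons, xor_eq, ext_xor_one] at this ⊢
      rw [this]; group
  exact (this []).trans (by simp)

/-- The generators given by a list of words. -/
noncomputable def wg (γ : ℕ → G) (W : List (List ℕ)) (j : ℕ) : G := ev (ext γ) (nth [] W j)

/-- Each word followed by its inverse. -/
noncomputable def dbl (W : List (List ℕ)) : List (List ℕ) :=
  List.rec [] (fun w _ ih => w :: invW w :: ih) W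

theorem der_dbl (γ : ℕ → G) (W : List (List ℕ)) : der (ext γ) (dbl W) = ext (wg γ W) := by
  have key : ∀ j, der (ext γ) (dbl W) (2 * j) = wg γ W j ∧
      der (ext γ) (dbl W) (2 * j + 1) = (wg γ W j)⁻¹ := by
    induction W with
    | nil => intro j; simp [der, dbl, wg, nth_eq]
    | cons w W ih =>
      intro j
      cases j with
      | zero => exact ⟨rfl, ev_invW γ w⟩
      | succ j => exact ih j
  funext a
  obtain ⟨j, rfl | rfl⟩ := Nat.even_or_odd' a
  · rw [(key j).1, ext_two_mul]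
  · rw [(key j).2, ext_two_mul_add_one]

theorem ext_wg_mem {γ : ℕ → G} {W : List (List ℕ)} {K : Subgroup G}
    (h : ∀ u ∈ W, ev (ext γ) u ∈ K) (a : ℕ) : ext (wg γ W) a ∈ K := by
  apply ext_mem
  rcases Enum.nth_mem_or [] W (a / 2) with h' | h'
  · rw [wg, h']; exact K.one_mem
  · exact h _ h'

theorem gw_eq_gp (γ : ℕ → G) (W : List (List ℕ)) {L : List ℕ}
    (hL : (allLt W.length fun j => memL (Nat.mul 2 j) L) = true) : gw γ W = gp (wg γ W) L := by
  refine le_antisymm (gw_le fun u hu => ?_) (gp_le fun a _ => ext_wg_mem (fun u hu => ev_mem_gw γ hu) a)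
  obtain ⟨j, hj, rfl⟩ := List.getElem_of_mem hu
  have := ext_mem_gp (wg γ W) (memL_sound (allLt_iff.1 hL j hj))
  rwa [show Nat.mul 2 j = 2 * j from rfl, ext_two_mul, wg, nth_eq, List.getD_eq_getElem _ _ hj] at this

/-- Relators in derived letters tested on a base. -/
noncomputable def relsD (k : ℕ) (ts : List Tab) (W : List (List ℕ)) (B : List ℕ)
    (R : List (List ℕ)) : Bool :=
  (fun ds => allL R fun u => allL B fun b => Nat.beq (apD k (msk k) ts ds u b) b) (dbl W)

theorem relsD_sound {φ : G →* Perm ℕ} {γ : ℕ → G} {k : ℕ} {ns : List Net} {ts : List Tab}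
    (M : Model φ γ k ns ts) {K : Subgroup G} {B : List ℕ} (hB : IsBase φ K B)
    (hp : ptsOK k B = true) {W R : List (List ℕ)} (hW : ∀ u ∈ W, ev (ext γ) u ∈ K)
    (h : relsD k ts W B R = true) : Holds (ext (wg γ W)) R := fun u hu => by
  refine hB _ (ev_mem _ _ _ fun a _ => ext_wg_mem hW a) fun b hb => ?_
  have := Nat.eq_of_beq_eq_true (allL_iff.1 (allL_iff.1 h u hu) b hb)
  rwa [msk_eq, M.apD _ u (ptsOK_lt hp hb), der_dbl] at this

/-- A model for new generators given by words: the networks `ns'` are tested against the words. -/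
noncomputable def extOK (k : ℕ) (ns ns' : List Net) (W : List (List ℕ)) : Bool :=
  Nat.beq W.length ns'.length && allLt W.length fun j => allLt k fun t =>
    Nat.beq (gatW ns (nth [] W j) (sl t k)) (gat ns' (Nat.mul 2 j) (sl t k))

theorem extOK_sound {φ : G →* Perm ℕ} {γ : ℕ → G} {k : ℕ} {ns ns' : List Net}
    (hv : validAll (2 ^ k) ns = true) (hφ : ∀ j, φ (γ j) = netPerm ns j)
    (hv' : validAll (2 ^ k) ns' = true) {W : List (List ℕ)} (h : extOK k ns ns' W = true) :
    ∀ j, φ (wg γ W j) = netPerm ns' j := by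
  intro j
  rw [extOK, Bool.and_eq_true, Nat.beq_eq, allLt_iff] at h
  have e : φ (wg γ W j) = ev (lp ns) (nth [] W j) := by
    rw [wg, map_ev]; congr 1; funext a; rw [map_ext, lp]; congr 1; funext j; exact hφ j
  rw [e]
  by_cases hj : j < W.length
  · have h2 := allLt_iff.1 (h.2 j hj)
    rw [← ext_two_mul (netPerm ns') j]
    refine perm_eq_of_slices (ev_lp_mem hv _) (lp_mem hv' _) fun t ht i => ?_
    have := Nat.eq_of_beq_eq_true (h2 t ht)
    rw [← testBit_gatW hv, this, testBit_gat hv']; rfl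
  · rw [nth_eq, List.getD_eq_default _ _ (by omega), netPerm, nth_eq,
      List.getD_eq_default _ _ (by omega)]
    rfl

end Cfsg.Agent.CGT
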