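import Cfsg.Agent.CGT.Search

set_option autoImplicit false
set_option linter.style.haveILetI false

/-! Matrices over small fields acting on many vectors at once.  A field element is a code below
`q`; a coordinate of a family of vectors is a list of masks, one for each code. -/

namespace Cfsg.Agent.CGT

open Equiv Matrix

/-- Evaluate `x` to a literal and pass it on. -/
noncomputable def lt' (x : ℕ) (k : ℕ → Bool) : Bool := Nat.rec (k x) (fun m _ => k m) (Nat.succ x)

@[simp] theorem lt'_eq (x : ℕ) (k : ℕ → Bool) : lt' x k = k x := rfl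

/-- Tables of a field. -/
structure FT where
  q : ℕ
  sT : ℕ
  mT : ℕ

namespace FT

variable (T : FT)

/-- Subtraction of codes. -/
def sb (a b : ℕ) : ℕ := field 8 255 T.sT (Nat.add (Nat.mul a T.q) b)

/-- Multiplication of codes. -/
def mu (a b : ℕ) : ℕ := field 8 255 T.mT (Nat.add (Nat.mul a T.q) b)

/-- The tables describe the field. -/
structure OK {F : Type*} [Field F] (e : ℕ → F) : Prop where
  two : 2 ≤ T.q
  zero : e 0 = 0
  one : e 1 = 1
  sub : ∀ a < T.q, ∀ b < T.q, T.sb a b < T.q ∧ e (T.sb a b) = e a - e b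
  mul : ∀ a < T.q, ∀ b < T.q, T.mu a b < T.q ∧ e (T.mu a b) = e a * e b
  inj : ∀ a < T.q, ∀ b < T.q, e a = e b → a = b

/-- Digit `c` of a row. -/
def dg (row c : ℕ) : ℕ := row / T.q ^ c % T.q

/-- The matrix with the given rows. -/
noncomputable def mat {F ι : Type*} {d : ℕ} (e : ℕ → F) (σ : ι ≃ Fin d) (A : List ℕ) : Matrix ι ι F :=
  Matrix.of fun i j => e (T.dg (nth 0 A (σ i)) (σ j))

/-- All set bits in column `n` give the value `x`. -/
def Snd {F : Type*} (e : ℕ → F) (L : List ℕ) (n : ℕ) (x : F) : Prop :=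
  ∀ a < T.q, (nth 0 L a).testBit n = true → e a = x

/-- The planes describe the vectors. -/
def VS {F ι : Type*} {d : ℕ} (e : ℕ → F) (σ : ι ≃ Fin d) (P : List (List ℕ)) (X : ℕ → ι → F) : Prop :=
  P.length = d ∧ ∀ i n, T.Snd e (nth [] P (σ i)) n (X n i)

/-- The union over `a` of `L a ∩ L' (f a)`. -/
noncomputable def orS (L L' : List ℕ) (f : ℕ → ℕ) : ℕ :=
  Nat.rec 0 (fun a ih => Nat.lor (Nat.land (nth 0 L a) (nth 0 L' (f a))) ih) T.q

theorem orS_sound {L L' : List ℕ} {f : ℕ → ℕ} {n : ℕ} (h : (T.orS L L' f).testBit n = true) :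
    ∃ a < T.q, (nth 0 L a).testBit n = true ∧ (nth 0 L' (f a)).testBit n = true := by
  unfold orS at h
  generalize T.q = m at h
  induction m with
  | zero => simp at h
  | succ m ih =>
    simp only [lor_eq, land_eq, Nat.testBit_or, Nat.testBit_and, Bool.or_eq_true,
      Bool.and_eq_true] at h ih
    rcases h with h | h
    · exact ⟨m, by omega, h⟩
    · obtain ⟨a, h1, h2⟩ := ih h
      exact ⟨a, by omega, h2⟩

end FT

/-- The list of the values `f 0, …, f (n-1)`, evaluated. -/
noncomputable def buildL (n : ℕ) (f : ℕ → ℕ) (k : List ℕ → Bool) : Bool :=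
  Nat.rec (motive := fun _ => List ℕ → Bool) k (fun c ih acc => lt' (f c) fun x => ih (x :: acc)) n []

theorem buildL_sound {n : ℕ} {f : ℕ → ℕ} {k : List ℕ → Bool} (h : buildL n f k = true) :
    ∃ L, k L = true ∧ ∀ c < n, nth 0 L c = f c := by
  have key : ∀ (m : ℕ) (acc : List ℕ), (Nat.rec (motive := fun _ => List ℕ → Bool) k
      (fun c ih acc => lt' (f c) fun x => ih (x :: acc)) m acc : Bool) = true →
      ∃ L, k L = true ∧ (∀ c < m, nth 0 L c = f c) ∧ ∀ c, nth 0 L (m + c) = nth 0 acc c := by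
    intro m
    induction m with
    | zero => exact fun acc h => ⟨acc, h, by simp, by simp⟩
    | succ m ih =>
      intro acc h
      obtain ⟨L, h1, h2, h3⟩ := ih (f m :: acc) h
      refine ⟨L, h1, fun c hc => ?_, fun c => ?_⟩
      · rcases Nat.lt_succ_iff_lt_or_eq.1 hc with h4 | rfl
        · exact h2 c h4
        · exact h3 0
      · rw [show m + 1 + c = m + (c + 1) by omega, h3]; rfl
  obtain ⟨L, h1, h2, -⟩ := key n [] h
  exact ⟨L, h1, h2⟩

namespace FT

variable (T : FT)

/-- `acc + m • L`. -/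
noncomputable def axpy (m : ℕ) (L acc : List ℕ) (k : List ℕ → Bool) : Bool :=
  buildL T.q (fun c => T.orS L acc fun a => T.sb c (T.mu m a)) k

/-- `acc + ∑ row c • P c`. -/
noncomputable def dot (P : List (List ℕ)) (k : List ℕ → Bool) (row : ℕ) (acc : List ℕ) : Bool :=
  List.rec (motive := fun _ => ℕ → List ℕ → Bool) (fun _ acc => k acc)
    (fun L _ ih row acc => Bool.rec
      (lt' (Nat.mod row T.q) fun m => lt' (Nat.div row T.q) fun r =>
        Bool.rec (T.axpy m L acc fun acc' => ih r acc') (ih r acc) (Nat.beq m 0))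
      (k acc) (Nat.beq row 0)) P row acc

/-- The product of a matrix with the vectors. -/
noncomputable def mulM (N : ℕ) (A : List ℕ) (P : List (List ℕ)) (k : List (List ℕ) → Bool) : Bool :=
  lt' (msk N) fun full => List.rec (motive := fun _ => (List (List ℕ) → Bool) → Bool) (fun k => k [])
    (fun row _ ih k => T.dot P (fun Y => ih fun Ys => k (Y :: Ys)) row [full]) A k

/-- The product of a word in matrices with the vectors. -/
noncomputable def mulW (N : ℕ) (As : List (List ℕ)) (w : List ℕ) (P : List (List ℕ))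
    (k : List (List ℕ) → Bool) : Bool :=
  List.rec (motive := fun _ => (List (List ℕ) → Bool) → Bool) (fun k => k P)
    (fun a _ ih k => ih fun Y => T.mulM N (nth [] As a) Y k) w k

/-- The columns where `Y = l • Z`. -/
noncomputable def eqM (d full l : ℕ) (Y Z : List (List ℕ)) : ℕ :=
  Nat.rec full (fun r ih => Nat.land (T.orS (nth [] Z r) (nth [] Y r) (T.mu l)) ih) d

/-- In each column `Y` is a multiple of `Z`. -/
noncomputable def agree (d N : ℕ) (Λ : List ℕ) (Y Z : List (List ℕ)) : Bool :=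
  allL Λ (fun l => Nat.blt l T.q) && lt' (msk N) fun full =>
    Nat.beq (List.rec 0 (fun l _ ih => Nat.lor (T.eqM d full l Y Z) ih) Λ) full

variable {T} {F ι : Type*} [Field F] {e : ℕ → F} {d : ℕ} {σ : ι ≃ Fin d}

theorem axpy_sound (hT : T.OK e) {m : ℕ} (hm : m < T.q) {L acc : List ℕ} {k : List ℕ → Bool}
    (h : T.axpy m L acc k = true) :
    ∃ Y, k Y = true ∧ ∀ n x y, T.Snd e L n x → T.Snd e acc n y → T.Snd e Y n (y + e m * x) := by
  obtain ⟨Y, h1, h2⟩ := buildL_sound h
  refine ⟨Y, h1, fun n x y hx hy c hc hb => ?_⟩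
  rw [h2 c hc] at hb
  obtain ⟨a, ha, h3, h4⟩ := T.orS_sound hb
  have h5 := hT.mul m hm a ha
  have h6 := hT.sub c hc _ h5.1
  rw [← hx a ha h3, ← hy _ h6.1 h4, h6.2, h5.2]; ring

theorem dg_zero (row : ℕ) : T.dg row 0 = row % T.q := by simp [dg]

theorem dg_succ (row c : ℕ) : T.dg row (c + 1) = T.dg (row / T.q) c := by
  rw [dg, dg, pow_succ', Nat.div_div_eq_div_mul]

theorem dg_lt (hT : T.OK e) (row c : ℕ) : T.dg row c < T.q :=
  Nat.mod_lt _ (by have := hT.two; omega)

theorem dot_sound (hT : T.OK e) {P : List (List ℕ)} {k : List ℕ → Bool} {row : ℕ} {acc : List ℕ}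
    (h : T.dot P k row acc = true) :
    ∃ Y, k Y = true ∧ ∀ n (xs : ℕ → F) y, (∀ c < P.length, T.Snd e (nth [] P c) n (xs c)) →
      T.Snd e acc n y → T.Snd e Y n (y + ∑ c ∈ Finset.range P.length, e (T.dg row c) * xs c) := by
  induction P generalizing row acc with
  | nil => exact ⟨acc, h, fun n xs y _ hy => by simpa using hy⟩
  | cons L P ih =>
    have h' : Bool.rec (motive := fun _ => Bool) (Bool.rec (motive := fun _ => Bool)
        (T.axpy (row % T.q) L acc fun acc' => T.dot P k (row / T.q) acc')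
        (T.dot P k (row / T.q) acc) (Nat.beq (row % T.q) 0)) (k acc) (Nat.beq row 0) = true := h
    have hs : ∀ xs : ℕ → F, ∑ c ∈ Finset.range (L :: P).length, e (T.dg row c) * xs c =
        e (row % T.q) * xs 0 + ∑ c ∈ Finset.range P.length, e (T.dg (row / T.q) c) * xs (c + 1) :=
      fun xs => by
        rw [List.length_cons, Finset.sum_range_succ', add_comm, dg_zero]
        simp only [dg_succ]
    cases h0 : Nat.beq row 0
    · rw [h0] at h'
      cases h1 : Nat.beq (row % T.q) 0
      · rw [h1] at h'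
        obtain ⟨Z, h2, h3⟩ := axpy_sound hT (Nat.mod_lt _ (by have := hT.two; omega)) h'
        obtain ⟨Y, h4, h5⟩ := ih h2
        refine ⟨Y, h4, fun n xs y hx hy => ?_⟩
        rw [hs, ← add_assoc]
        exact h5 n _ _ (fun c hc => hx (c + 1) (by simpa using hc)) (h3 n _ _ (hx 0 (by simp)) hy)
      · rw [h1] at h'
        obtain ⟨Y, h4, h5⟩ := ih h'
        refine ⟨Y, h4, fun n xs y hx hy => ?_⟩
        rw [hs, Nat.eq_of_beq_eq_true h1, hT.zero, zero_mul, zero_add]
        exact h5 n _ _ (fun c hc => hx (c + 1) (by simpa using hc)) hy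
    · rw [h0] at h'
      obtain rfl := Nat.eq_of_beq_eq_true h0
      exact ⟨acc, h', fun n xs y _ hy => by simpa [dg, hT.zero] using hy⟩

theorem snd_full (hT : T.OK e) (full n : ℕ) : T.Snd e [full] n 0 := by
  intro a _ h
  rcases a with _ | a
  · exact hT.zero
  · exact absurd h (by simp [nth_eq])

variable [Fintype ι]

theorem mulM_sound (hT : T.OK e) {N : ℕ} {A : List ℕ} {P : List (List ℕ)}
    {k : List (List ℕ) → Bool} (h : T.mulM N A P k = true) (hA : A.length = d) {X : ℕ → ι → F}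
    (hX : T.VS e σ P X) : ∃ Y, k Y = true ∧ T.VS e σ Y fun n => T.mat e σ A *ᵥ X n := by
  have key : ∀ (A : List ℕ) (k : List (List ℕ) → Bool),
      (List.rec (motive := fun _ => (List (List ℕ) → Bool) → Bool) (fun k => k [])
        (fun row _ ih k => T.dot P (fun Y => ih fun Ys => k (Y :: Ys)) row [msk N]) A k : Bool) = true →
      ∃ Y, k Y = true ∧ Y.length = A.length ∧ ∀ r < A.length, ∀ n,
        T.Snd e (nth [] Y r) n (∑ j, e (T.dg (nth 0 A r) (σ j)) * X n j) := by
    intro A
    induction A with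
    | nil => exact fun k h => ⟨[], h, rfl, by simp⟩
    | cons row A ih =>
      intro k h
      obtain ⟨Y, h1, h2⟩ := dot_sound hT h
      obtain ⟨Ys, h3, h4, h5⟩ := ih _ h1
      refine ⟨Y :: Ys, h3, by simp [h4], fun r hr n => ?_⟩
      rcases r with _ | r
      · have := h2 n (fun c => if h : c < d then X n (σ.symm ⟨c, h⟩) else 0) 0 (fun c hc => by
          rw [hX.1] at hc
          simpa [hc] using hX.2 (σ.symm ⟨c, hc⟩) n) (snd_full hT _ _)
        rw [zero_add, hX.1, ← Fin.sum_univ_eq_sum_range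
          (fun c => e (T.dg row c) * if h : c < d then X n (σ.symm ⟨c, h⟩) else 0),
          ← Equiv.sum_comp σ] at this
        simp only [Fin.is_lt, dif_pos, Fin.eta, symm_apply_apply] at this
        exact this
      · exact h5 r (by simpa using hr) n
  obtain ⟨Y, h1, h2, h3⟩ := key A k h
  exact ⟨Y, h1, h2.trans hA, fun i n => h3 _ (hA ▸ (σ i).2) n⟩

theorem agree_sound (hT : T.OK e) {N : ℕ} {Λ : List ℕ} {Y Z : List (List ℕ)}
    (h : T.agree d N Λ Y Z = true) {X X' : ℕ → ι → F} (hX : T.VS e σ Y X) (hX' : T.VS e σ Z X')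
    {n : ℕ} (hn : n < N) : ∃ l ∈ Λ, X n = e l • X' n := by
  unfold agree at h
  rw [Bool.and_eq_true, lt'_eq, allL_iff] at h
  have h1 := congrArg (fun x => x.testBit n) (Nat.eq_of_beq_eq_true h.2)
  simp only [msk_eq, Nat.testBit_two_pow_sub_one, hn, decide_true] at h1
  have h2 : ∃ l ∈ Λ, (T.eqM d (2 ^ N - 1) l Y Z).testBit n = true := by
    clear h
    induction Λ with
    | nil => simp at h1
    | cons l Λ ih =>
      simp only [lor_eq, Nat.testBit_or, Bool.or_eq_true] at h1 ih
      rcases h1 with h1 | h1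
      · exact ⟨l, by simp, h1⟩
      · obtain ⟨l', h2, h3⟩ := ih h1
        exact ⟨l', by simp [h2], h3⟩
  obtain ⟨l, hl, h3⟩ := h2
  have hlq : l < T.q := by simpa using h.1 l hl
  refine ⟨l, hl, funext fun i => ?_⟩
  have h4 : ∀ m : ℕ, (T.eqM m (2 ^ N - 1) l Y Z).testBit n = true → ∀ r < m,
      (T.orS (nth [] Z r) (nth [] Y r) (T.mu l)).testBit n = true := by
    intro m
    induction m with
    | zero => simp
    | succ m ih =>
      intro h r hr
      have h' : (T.orS (nth [] Z m) (nth [] Y m) (T.mu l) &&& T.eqM m (2 ^ N - 1) l Y Z).testBit n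
        = true := h
      rw [Nat.testBit_and, Bool.and_eq_true] at h'
      rcases Nat.lt_succ_iff_lt_or_eq.1 hr with h5 | rfl
      · exact ih h'.2 r h5
      · exact h'.1
  obtain ⟨a, ha, h5, h6⟩ := T.orS_sound (h4 d h3 _ (σ i).2)
  have h7 := hT.mul l hlq a ha
  rw [Pi.smul_apply, smul_eq_mul, ← hX'.2 i n a ha h5, ← hX.2 i n _ h7.1 h6, h7.2]

end FT

/-- The planes of the identity matrix. -/
noncomputable def idP (d : ℕ) : List (List ℕ) :=
  Nat.rec (motive := fun _ => ℕ → List (List ℕ)) (fun _ => [])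
    (fun _ ih r => [Nat.xor (msk d) (Nat.shiftLeft 1 r), Nat.shiftLeft 1 r] :: ih (Nat.succ r)) d 0

namespace FT

variable {T : FT} {F ι : Type*} [Field F] {e : ℕ → F} {d : ℕ} {σ : ι ≃ Fin d}

theorem idP_vs (hT : T.OK e) : T.VS e σ (idP d) fun n i => if (σ i : ℕ) = n then 1 else 0 := by
  have key : ∀ m r : ℕ, ∀ Q : List (List ℕ), Q = Nat.rec (motive := fun _ => ℕ → List (List ℕ)) (fun _ => [])
      (fun _ ih r => [Nat.xor (msk d) (Nat.shiftLeft 1 r), Nat.shiftLeft 1 r] :: ih (Nat.succ r)) m r →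
      Q.length = m ∧ ∀ c < m, nth [] Q c =
        [Nat.xor (msk d) (Nat.shiftLeft 1 (r + c)), Nat.shiftLeft 1 (r + c)] := by
    intro m
    induction m with
    | zero => rintro r _ rfl; simp
    | succ m ih =>
      rintro r _ rfl
      obtain ⟨h1, h2⟩ := ih (r + 1) _ rfl
      refine ⟨congrArg (· + 1) h1, fun c hc => ?_⟩
      rcases c with _ | c
      · rfl
      · rw [show r + (c + 1) = r + 1 + c by omega]; exact h2 c (by omega)
  obtain ⟨h1, h2⟩ := key d 0 (idP d) rfl
  refine ⟨h1, fun i n a _ hb => ?_⟩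
  rw [h2 _ (σ i).2, zero_add] at hb
  have h3 := (σ i).2
  rcases a with _ | _ | a
  · have hb' : ((2 ^ d - 1) ^^^ (1 <<< (σ i : ℕ))).testBit n = true := hb
    rw [Nat.testBit_xor, Nat.one_shiftLeft, Nat.testBit_two_pow, Nat.testBit_two_pow_sub_one] at hb'
    rw [hT.zero]
    by_cases h : (σ i : ℕ) = n
    · subst h; simp at hb'
    · simp [h]
  · have hb' : (1 <<< (σ i : ℕ)).testBit n = true := hb
    rw [Nat.one_shiftLeft, Nat.testBit_two_pow] at hb'
    simpa [of_decide_eq_true hb'] using hT.one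
  · exact absurd hb (by simp [nth_eq])

variable [Fintype ι] [DecidableEq ι] {Γ : Type*} [Group Γ]

/-- The letters of `w` have the given matrices. -/
def Lets (T : FT) (e : ℕ → F) (σ : ι ≃ Fin d) (g : ℕ → Matrix ι ι F) (As : List (List ℕ)) : Prop :=
  ∀ a < As.length, (nth [] As a).length = d ∧ g a = T.mat e σ (nth [] As a)

theorem mulW_sound (hT : T.OK e) {N : ℕ} {As : List (List ℕ)} {g : ℕ → Matrix ι ι F}
    (hg : T.Lets e σ g As) {w : List ℕ} (hw : ∀ a ∈ w, a < As.length) {P : List (List ℕ)}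
    {k : List (List ℕ) → Bool} (h : T.mulW N As w P k = true) {X : ℕ → ι → F}
    (hX : T.VS e σ P X) : ∃ Y, k Y = true ∧ T.VS e σ Y fun n => ev g w *ᵥ X n := by
  induction w generalizing k with
  | nil => exact ⟨P, h, by simpa using hX⟩
  | cons a w ih =>
    obtain ⟨Z, h1, h2⟩ := ih (fun b hb => hw b (by simp [hb])) h
    have h3 := hg a (hw a (by simp))
    obtain ⟨Y, h4, h5⟩ := mulM_sound hT h1 h3.1 h2
    refine ⟨Y, h4, ?_⟩
    simpa only [ev_cons, h3.2, mulVec_mulVec] using h5

/-- The word has the value `l • B`. -/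
noncomputable def wEq (T : FT) (d : ℕ) (As : List (List ℕ)) (w : List ℕ) (l : ℕ) (B : List ℕ) : Bool :=
  allL w (fun a => Nat.blt a As.length) && (Nat.beq B.length d &&
    T.mulW d As w (idP d) fun Y => T.mulM d B (idP d) fun Z => T.agree d d [l] Y Z)

theorem wEq_sound (hT : T.OK e) {As : List (List ℕ)} {g : ℕ → Matrix ι ι F}
    (hg : T.Lets e σ g As) {w : List ℕ} {l : ℕ} {B : List ℕ} (h : T.wEq d As w l B = true) :
    ev g w = e l • T.mat e σ B := by
  unfold wEq at h
  simp only [Bool.and_eq_true, allL_iff, Nat.blt_eq, Nat.beq_eq] at h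
  obtain ⟨Y, h1, h2⟩ := mulW_sound hT hg h.1 h.2.2 (idP_vs hT)
  obtain ⟨Z, h3, h4⟩ := mulM_sound hT h1 h.2.1 (idP_vs (σ := σ) hT)
  ext i j
  obtain ⟨l', hl, h5⟩ := agree_sound hT h3 h2 h4 (σ j).2
  obtain rfl : l' = l := by simpa using hl
  have := congrFun h5 i
  simpa [mulVec, dotProduct, Fin.val_inj] using this

/-- The word is the scalar `l`. -/
noncomputable def wSc (T : FT) (d : ℕ) (As : List (List ℕ)) (w : List ℕ) (l : ℕ) : Bool :=
  allL w (fun a => Nat.blt a As.length) && T.mulW d As w (idP d) fun Y => T.agree d d [l] Y (idP d)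

theorem wSc_sound (hT : T.OK e) {As : List (List ℕ)} {g : ℕ → Matrix ι ι F}
    (hg : T.Lets e σ g As) {w : List ℕ} {l : ℕ} (h : T.wSc d As w l = true) :
    ev g w = e l • (1 : Matrix ι ι F) := by
  unfold wSc at h
  simp only [Bool.and_eq_true, allL_iff, Nat.blt_eq] at h
  obtain ⟨Y, h1, h2⟩ := mulW_sound hT hg h.1 h.2 (idP_vs hT)
  ext i j
  obtain ⟨l', hl, h5⟩ := agree_sound hT h1 h2 (idP_vs hT) (σ j).2
  obtain rfl : l' = l := by simpa using hl
  have := congrFun h5 i
  simpa [mulVec, dotProduct, Fin.val_inj, one_apply] using this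

end FT

end Cfsg.Agent.CGT
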