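import Cfsg.Agent.CGT.Mat

set_option autoImplicit false
set_option linter.style.haveILetI false

/-! Permutation models of matrix groups on projective points. -/

namespace Cfsg.Agent.CGT

open Equiv Matrix

/-- The index of the first mask containing `n`. -/
def idx : List ℕ → ℕ → ℕ
  | [], _ => 0
  | x :: L, n => if x.testBit n then 0 else idx L n + 1

/-- The masks are a partition of the first `N` points. -/
noncomputable def ohB (N : ℕ) (L : List ℕ) : Bool :=
  List.rec (motive := fun _ => ℕ → Bool) (fun acc => Nat.beq acc (msk N))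
    (fun x _ ih acc => Nat.beq (Nat.land x acc) 0 && ih (Nat.lor x acc)) L 0

theorem ohB_sound {N : ℕ} {L : List ℕ} (h : ohB N L = true) :
    (∀ a n, (nth 0 L a).testBit n = true → idx L n = a) ∧
      ∀ n < N, idx L n < L.length ∧ (nth 0 L (idx L n)).testBit n = true := by
  have key : ∀ acc : ℕ, (List.rec (motive := fun _ => ℕ → Bool) (fun acc => Nat.beq acc (msk N))
      (fun x _ ih acc => Nat.beq (Nat.land x acc) 0 && ih (Nat.lor x acc)) L acc : Bool) = true →
      (∀ a n, (nth 0 L a).testBit n = true → acc.testBit n = false ∧ idx L n = a) ∧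
      ∀ n < N, acc.testBit n = false → idx L n < L.length ∧ (nth 0 L (idx L n)).testBit n = true := by
    clear h
    induction L with
    | nil =>
      intro acc h
      refine ⟨fun a n h1 => absurd h1 (by simp [nth_eq]), fun n hn h1 => ?_⟩
      rw [Nat.eq_of_beq_eq_true h, msk_eq, Nat.testBit_two_pow_sub_one] at h1
      simp [hn] at h1
    | cons x L ih =>
      intro acc h
      rw [Bool.and_eq_true] at h
      obtain ⟨h1, h2⟩ := ih _ h.2
      have h3 : ∀ n, (x.testBit n && acc.testBit n) = false := fun n => by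
        have := congrArg (fun y => y.testBit n) (Nat.eq_of_beq_eq_true h.1)
        simpa only [land_eq, Nat.testBit_and, Nat.zero_testBit] using this
      refine ⟨fun a n ha => ?_, fun n hn ha => ?_⟩
      · rcases a with _ | a
        · have ha' : x.testBit n = true := ha
          have := h3 n
          rw [ha', Bool.true_and] at this
          exact ⟨this, by rw [idx, if_pos ha']⟩
        · have := h1 a n ha
          rw [lor_eq, Nat.testBit_or, Bool.or_eq_false_iff] at this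
          exact ⟨this.1.2, by rw [idx, if_neg (by simp [this.1.1]), this.2]⟩
      · by_cases hx : x.testBit n = true
        · rw [idx, if_pos hx]; exact ⟨by simp, hx⟩
        · rw [idx, if_neg hx]
          have := h2 n hn (by rw [lor_eq, Nat.testBit_or, ha]; simpa using hx)
          exact ⟨by simpa using this.1, this.2⟩
  obtain ⟨h1, h2⟩ := key 0 h
  exact ⟨fun a n ha => (h1 a n ha).2, fun n hn => h2 n hn (by simp)⟩

/-- The first non-zero coordinate is one. -/
noncomputable def nrmB (N : ℕ) (P : List (List ℕ)) : Bool :=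
  List.rec (motive := fun _ => ℕ → Bool) (fun Z => Nat.beq Z 0)
    (fun L _ ih Z => Nat.beq (Nat.land Z (Nat.lor (nth 0 L 0) (nth 0 L 1))) Z &&
      ih (Nat.land Z (nth 0 L 0))) P (msk N)

theorem nrmB_sound {N : ℕ} {P : List (List ℕ)} (h : nrmB N P = true) {n : ℕ} (hn : n < N) :
    ∃ r < P.length, (nth 0 (nth [] P r) 1).testBit n = true ∧
      ∀ r' < r, (nth 0 (nth [] P r') 0).testBit n = true := by
  have key : ∀ Z : ℕ, (List.rec (motive := fun _ => ℕ → Bool) (fun Z => Nat.beq Z 0)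
      (fun L _ ih Z => Nat.beq (Nat.land Z (Nat.lor (nth 0 L 0) (nth 0 L 1))) Z &&
        ih (Nat.land Z (nth 0 L 0))) P Z : Bool) = true → Z.testBit n = true →
      ∃ r < P.length, (nth 0 (nth [] P r) 1).testBit n = true ∧
        ∀ r' < r, (nth 0 (nth [] P r') 0).testBit n = true := by
    clear h
    induction P with
    | nil => intro Z h h1; rw [Nat.eq_of_beq_eq_true h] at h1; simp at h1
    | cons L P ih =>
      intro Z h h1
      rw [Bool.and_eq_true] at h
      have h2 := congrArg (fun y => y.testBit n) (Nat.eq_of_beq_eq_true h.1)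
      simp only [land_eq, lor_eq, Nat.testBit_and, Nat.testBit_or, h1, Bool.true_and,
        Bool.or_eq_true] at h2
      by_cases h3 : (nth 0 L 0).testBit n = true
      · obtain ⟨r, h4, h5, h6⟩ := ih _ h.2 (by rw [land_eq, Nat.testBit_and, h1, h3]; rfl)
        refine ⟨r + 1, by simpa using h4, h5, fun r' hr => ?_⟩
        rcases r' with _ | r'
        · exact h3
        · exact h6 r' (by omega)
      · exact ⟨0, by simp, h2.resolve_left h3, by simp⟩
  exact key _ h (by rw [msk_eq, Nat.testBit_two_pow_sub_one]; simpa using hn)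

/-- All planes moved by a letter. -/
noncomputable def gatK (q : ℕ) (ns : List Net) (a : ℕ) (P : List (List ℕ))
    (k : List (List ℕ) → Bool) : Bool :=
  List.rec (motive := fun _ => (List (List ℕ) → Bool) → Bool) (fun k => k [])
    (fun L _ ih k => buildL q (fun c => gat ns a (nth 0 L c)) fun Y => ih fun Ys => k (Y :: Ys)) P k

namespace FT

variable (T : FT)

/-- The test of the list of points. -/
noncomputable def ptsB (d N : ℕ) (P : List (List ℕ)) : Bool :=
  Nat.beq P.length d && (allL P (fun L => Nat.ble L.length T.q && ohB N L) &&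
    (nrmB N P && sortedB P.flatten N))

/-- The test of the action of one generator. -/
noncomputable def actB (d N : ℕ) (Λ : List ℕ) (ns : List Net) (As P : List (List ℕ)) (j : ℕ) : Bool :=
  T.mulM N (nth [] As (Nat.mul 2 j)) P fun Y => gatK T.q ns (Nat.mul 2 j) P fun Q => T.agree d N Λ Y Q

/-- The matrices come in pairs of inverses. -/
noncomputable def invB (d m : ℕ) (As : List (List ℕ)) : Bool :=
  Nat.beq As.length (Nat.mul 2 m) && (allL As (fun A => Nat.beq A.length d) &&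
    allLt m fun j => T.wSc d As [Nat.succ (Nat.mul 2 j), Nat.mul 2 j] 1)

variable {T} {F ι : Type*} [Field F] {e : ℕ → F} {d : ℕ} {σ : ι ≃ Fin d}

/-- The point in column `n`. -/
noncomputable def pt (e : ℕ → F) (σ : ι ≃ Fin d) (P : List (List ℕ)) (n : ℕ) (i : ι) : F :=
  e (idx (nth [] P (σ i)) n)

theorem gatK_sound {B : ℕ} {ns : List Net} (hv : validAll B ns = true) {a : ℕ} {P : List (List ℕ)}
    {k : List (List ℕ) → Bool} (h : gatK T.q ns a P k = true) {X : ℕ → ι → F}
    (hX : T.VS e σ P X) : ∃ Y, k Y = true ∧ T.VS e σ Y fun n => X (lp ns a n) := by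
  have key : ∀ (P : List (List ℕ)) (k : List (List ℕ) → Bool), gatK T.q ns a P k = true →
      ∃ Y, k Y = true ∧ Y.length = P.length ∧ ∀ r < P.length, ∀ c < T.q,
        nth 0 (nth [] Y r) c = gat ns a (nth 0 (nth [] P r) c) := by
    intro P
    induction P with
    | nil => exact fun k h => ⟨[], h, rfl, by simp⟩
    | cons L P ih =>
      intro k h
      obtain ⟨Y, h1, h2⟩ := buildL_sound h
      obtain ⟨Ys, h3, h4, h5⟩ := ih _ h1
      refine ⟨Y :: Ys, h3, by simp [h4], fun r hr => ?_⟩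
      rcases r with _ | r
      · exact h2
      · exact h5 r (by simpa using hr)
  obtain ⟨Y, h1, h2, h3⟩ := key P k h
  refine ⟨Y, h1, h2.trans hX.1, fun i n c hc hb => ?_⟩
  rw [h3 _ (hX.1 ▸ (σ i).2) c hc, testBit_gat hv] at hb
  exact hX.2 i _ c hc hb

theorem nth_mem {α : Type} (z : α) {l : List α} {i : ℕ} (hi : i < l.length) : nth z l i ∈ l := by
  rw [nth_eq, List.getD_eq_getElem _ _ hi]; exact List.getElem_mem hi

theorem ptsB_sound (hT : T.OK e) {N : ℕ} {P : List (List ℕ)} (h : T.ptsB d N P = true) :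
    T.VS e σ P (pt e σ P) ∧ (∀ n < N, pt e σ P n ≠ 0) ∧
      ∀ i j, i < N → j < N → ∀ a : F, pt e σ P i = a • pt e σ P j → i = j := by
  unfold ptsB at h
  simp only [Bool.and_eq_true, allL_iff, Nat.beq_eq, Nat.ble_eq] at h
  obtain ⟨h1, h2, h3, h4⟩ := h
  have h5 : ∀ i, (nth [] P (σ i)).length ≤ T.q ∧ ohB N (nth [] P (σ i)) = true := fun i =>
    h2 _ (nth_mem _ (h1 ▸ (σ i).2))
  have hv : T.VS e σ P (pt e σ P) := ⟨h1, fun i n a _ hb => by
    rw [pt, (ohB_sound (h5 i).2).1 a n hb]⟩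
  have hn : ∀ n < N, ∃ i, pt e σ P n i = 1 ∧ ∀ i', σ i' < σ i → pt e σ P n i' = 0 := fun n hn => by
    obtain ⟨r, h6, h7, h8⟩ := nrmB_sound h3 hn
    have := hT.two
    refine ⟨σ.symm ⟨r, h1 ▸ h6⟩, ?_, fun i' hi => ?_⟩
    · rw [← hv.2 _ n 1 (by omega) (by simpa using h7), hT.one]
    · rw [← hv.2 _ n 0 (by omega) (h8 _ (by simpa [Fin.lt_def] using hi)), hT.zero]
  refine ⟨hv, fun n h6 h7 => ?_, fun i j hi hj a ha => ?_⟩
  · obtain ⟨i, h8, -⟩ := hn n h6
    rw [h7] at h8
    exact zero_ne_one h8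
  obtain ⟨r, h6, h7⟩ := hn i hi
  obtain ⟨s, h8, h9⟩ := hn j hj
  have hr := congrFun ha r
  have hs := congrFun ha s
  rw [Pi.smul_apply, smul_eq_mul, h6] at hr
  rw [Pi.smul_apply, smul_eq_mul, h8, mul_one] at hs
  have ha1 : a = 1 := by
    rcases lt_trichotomy (σ r) (σ s) with h | h | h
    · rw [h9 r h, mul_zero] at hr; exact absurd hr one_ne_zero
    · rw [← hs, ← σ.injective h, h6]
    · rw [← hs, h7 s h, zero_mul] at hr; exact absurd hr one_ne_zero
  rw [ha1, one_smul] at ha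
  refine sortedB_sound h4 hi hj fun t => ?_
  rcases Enum.nth_mem_or 0 P.flatten t with h | h
  · rw [h]; simp
  obtain ⟨L, hL, hx⟩ := List.mem_flatten.1 h
  obtain ⟨r, hr, rfl⟩ := List.getElem_of_mem hL
  obtain ⟨c, hc, hx⟩ := List.getElem_of_mem hx
  have e1 : P[r] = nth [] P (σ (σ.symm ⟨r, h1 ▸ hr⟩)) := by
    simp [nth_eq, List.getElem?_eq_getElem hr]
  have e2 : nth 0 P.flatten t = nth 0 P[r] c := by rw [← hx, nth_eq, List.getD_eq_getElem _ _ hc]
  rw [e2, e1]
  generalize σ.symm ⟨r, h1 ▸ hr⟩ = z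
  obtain ⟨g1, g2⟩ := ohB_sound (h5 z).2
  have e3 : idx (nth [] P (σ z)) i = idx (nth [] P (σ z)) j :=
    hT.inj _ ((g2 i hi).1.trans_le (h5 z).1) _ ((g2 j hj).1.trans_le (h5 z).1) (congrFun ha z)
  apply Bool.eq_iff_iff.2
  exact ⟨fun h => by rw [← g1 c i h, e3]; exact (g2 j hj).2,
    fun h => by rw [← g1 c j h, ← e3]; exact (g2 i hi).2⟩

variable [Fintype ι] [DecidableEq ι] {Γ : Type*} [Group Γ]

/-- The model on projective points. -/
theorem exists_model (hT : T.OK e) (ρ : Γ →* Matrix ι ι F) {γ : ℕ → Γ} {L : List ℕ}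
    (gen : gp γ L = ⊤) {As : List (List ℕ)} (hg : T.Lets e σ (fun a => ρ (ext γ a)) As)
    {ns : List Net} (hl : As.length = 2 * ns.length) (h1 : ∀ j, ns.length ≤ j → γ j = 1) {k N : ℕ}
    (hv : validAll (2 ^ k) ns = true) (hf : fixAbove k N ns = true) {P : List (List ℕ)}
    (hP : T.ptsB d N P = true) {Λ : List ℕ} (ha : ∀ j < ns.length, T.actB d N Λ ns As P j = true) :
    ∃ φ : Γ →* Perm ℕ, (∀ j, φ (γ j) = netPerm ns j) ∧ ∀ g, φ g ∈ bddPerm N := by
  obtain ⟨p1, p2, p3⟩ := ptsB_sound (σ := σ) hT hP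
  obtain ⟨φ, h2, h3⟩ := exists_hom_rel gen (N := N) (p := netPerm ns)
    (fun g i j => ∃ a : F, ρ g *ᵥ pt e σ P i = a • pt e σ P j) (fun _ _ => ⟨1, by simp⟩)
    (fun _ _ _ _ _ _ _ _ ⟨a, h⟩ ⟨b, h'⟩ => ⟨a * b, by
      rw [map_mul, ← mulVec_mulVec, h, mulVec_smul, h', mul_smul]⟩)
    (fun x i j hi _ ⟨a, h⟩ => by
      have h4 : pt e σ P i = a • ρ x⁻¹ *ᵥ pt e σ P j := by
        rw [← mulVec_smul, ← h, mulVec_mulVec, ← map_mul, inv_mul_cancel, map_one, one_mulVec]
      have h5 : a ≠ 0 := fun h0 => p2 i hi (by rw [h4, h0, zero_smul])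
      exact ⟨a⁻¹, by rw [h4, inv_smul_smul₀ h5]⟩)
    (fun i j hi hj ⟨a, h⟩ => p3 i j hi hj a (by simpa using h)) (fixAbove_sound hv hf)
    (fun j i hi => by
      by_cases hj : j < ns.length
      · have h4 := hg (2 * j) (by omega)
        obtain ⟨Y, h5, h6⟩ := mulM_sound hT (ha j hj) h4.1 p1
        obtain ⟨Z, h7, h8⟩ := gatK_sound hv h5 p1
        obtain ⟨l, -, h9⟩ := agree_sound hT h7 h6 h8 hi
        refine ⟨e l, ?_⟩
        have h10 := h4.2
        simp only [ext_two_mul] at h10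
        rw [h10]
        simpa only [lp, show Nat.mul 2 j = 2 * j from rfl, ext_two_mul] using h9
      · exact ⟨1, by simp [h1 j (by omega), netPerm_of_le ns (show ns.length ≤ j by omega)]⟩)
  exact ⟨φ, h2, fun g => (h3 g).1⟩

theorem lets_mat {As : List (List ℕ)} (h : ∀ A ∈ As, A.length = d) :
    T.Lets e σ (fun a => T.mat e σ (nth [] As a)) As := fun _ ha => ⟨h _ (nth_mem _ ha), rfl⟩

theorem invB_sound (hT : T.OK e) {m : ℕ} {As : List (List ℕ)} (h : T.invB d m As = true) :
    As.length = 2 * m ∧ (∀ A ∈ As, A.length = d) ∧ ∀ j < m,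
      T.mat e σ (nth [] As (2 * j + 1)) * T.mat e σ (nth [] As (2 * j)) = 1 := by
  unfold invB at h
  simp only [Bool.and_eq_true, allL_iff, allLt_iff, Nat.beq_eq] at h
  refine ⟨h.1, h.2.1, fun j hj => ?_⟩
  simpa [hT.one] using wSc_sound (σ := σ) hT (lets_mat h.2.1) (h.2.2 j hj)

theorem exists_unit (hT : T.OK e) {m : ℕ} {As : List (List ℕ)} (h : T.invB d m As = true) {j : ℕ}
    (hj : j < m) : ∃ u : GL ι F, (u : Matrix ι ι F) = T.mat e σ (nth [] As (2 * j)) :=
  have h1 := (invB_sound (σ := σ) hT h).2.2 j hj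
  ⟨⟨_, _, mul_eq_one_comm.1 h1, h1⟩, rfl⟩

open Classical in
/-- The group elements with the given matrices. -/
noncomputable def gam (T : FT) (e : ℕ → F) (σ : ι ≃ Fin d) (ρ : Γ →* Matrix ι ι F)
    (As : List (List ℕ)) (j : ℕ) : Γ :=
  if h : 2 * j < As.length ∧ ∃ g, ρ g = T.mat e σ (nth [] As (2 * j)) then h.2.choose else 1

theorem gam_of_le {ρ : Γ →* Matrix ι ι F} {As : List (List ℕ)} {m : ℕ} (hl : As.length = 2 * m)
    (j : ℕ) (hj : m ≤ j) : T.gam e σ ρ As j = 1 := dif_neg fun h => by omega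

theorem lets_gam (hT : T.OK e) {ρ : Γ →* Matrix ι ι F} {m : ℕ} {As : List (List ℕ)}
    (h : T.invB d m As = true) (hx : ∀ j < m, ∃ g, ρ g = T.mat e σ (nth [] As (2 * j))) :
    T.Lets e σ (fun a => ρ (ext (T.gam e σ ρ As) a)) As := by
  obtain ⟨h1, h2, h3⟩ := invB_sound (σ := σ) hT h
  have h4 : ∀ j < m, ρ (T.gam e σ ρ As j) = T.mat e σ (nth [] As (2 * j)) := fun j hj => by
    have h5 : 2 * j < As.length ∧ _ := ⟨by omega, hx j hj⟩
    rw [gam, dif_pos h5]; exact h5.2.choose_spec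
  intro a ha
  refine ⟨h2 _ (nth_mem _ ha), ?_⟩
  obtain ⟨j, rfl | rfl⟩ := Nat.even_or_odd' a
  · simp only [ext_two_mul]; exact h4 j (by omega)
  · simp only [ext_two_mul_add_one]
    have h5 := h3 j (by omega)
    rw [← h4 j (by omega)] at h5
    rw [← one_mul (ρ _), ← h5, mul_assoc, ← map_mul, mul_inv_cancel, map_one, mul_one]

theorem map_word (hT : T.OK e) {ρ : Γ →* Matrix ι ι F} {γ : ℕ → Γ} {As : List (List ℕ)}
    (hg : T.Lets e σ (fun a => ρ (ext γ a)) As) {w B : List ℕ} (h : T.wEq d As w 1 B = true) :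
    ρ (ev (ext γ) w) = T.mat e σ B := by
  rw [map_ev, wEq_sound hT hg h, hT.one, one_smul]

/-- New letters as words in old letters. -/
noncomputable def exB (T : FT) (d m : ℕ) (As₀ W As : List (List ℕ)) : Bool :=
  allLt m fun j => T.wEq d As₀ (nth [] W j) 1 (nth [] As (Nat.mul 2 j))

theorem exB_sound (hT : T.OK e) {ρ : Γ →* Matrix ι ι F} {γ : ℕ → Γ} {As₀ : List (List ℕ)}
    (hg : T.Lets e σ (fun a => ρ (ext γ a)) As₀) {m : ℕ} {W As : List (List ℕ)}
    (h : T.exB d m As₀ W As = true) : ∀ j < m, ∃ g, ρ g = T.mat e σ (nth [] As (2 * j)) :=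
  fun j hj => ⟨_, map_word hT hg (allLt_iff.1 h j hj)⟩

/-- Matrices as words in the letters `L`. -/
noncomputable def memB (T : FT) (d : ℕ) (As : List (List ℕ)) (L : List ℕ) (V Bs : List (List ℕ)) :
    Bool :=
  allLt Bs.length fun i => wordIn L (nth [] V i) && T.wEq d As (nth [] V i) 1 (nth [] Bs i)

theorem memB_sound (hT : T.OK e) {ρ : Γ →* Matrix ι ι F} (hρ : Function.Injective ρ) {γ : ℕ → Γ}
    {As : List (List ℕ)} (hg : T.Lets e σ (fun a => ρ (ext γ a)) As) {L : List ℕ}
    {V Bs : List (List ℕ)} (h : T.memB d As L V Bs = true) {g : Γ} {i : ℕ} (hi : i < Bs.length)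
    (e1 : ρ g = T.mat e σ (nth [] Bs i)) : g ∈ gp γ L := by
  have := allLt_iff.1 h i hi
  rw [Bool.and_eq_true] at this
  rw [hρ (e1.trans (map_word hT hg this.2).symm)]
  exact wordIn_sound γ this.1

/-- The relators are scalars. -/
noncomputable def relB (T : FT) (d : ℕ) (As R : List (List ℕ)) (ls : List ℕ) : Bool :=
  List.rec (motive := fun _ => List ℕ → Bool) (fun _ => true)
    (fun r _ ih ls => T.wSc d As r (nth 1 ls 0) && ih ls.tail) R ls

theorem relB_sound (hT : T.OK e) {ρ : Γ →* Matrix ι ι F} {γ : ℕ → Γ} {As : List (List ℕ)}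
    (hg : T.Lets e σ (fun a => ρ (ext γ a)) As) {R : List (List ℕ)} {ls : List ℕ}
    (h : T.relB d As R ls = true) :
    ∀ r ∈ R, ∃ l, (l = 1 ∨ l ∈ ls) ∧ ρ (ev (ext γ) r) = e l • (1 : Matrix ι ι F) := by
  induction R generalizing ls with
  | nil => simp
  | cons r R ih =>
    have h' : (T.wSc d As r (nth 1 ls 0) && T.relB d As R ls.tail) = true := h
    rw [Bool.and_eq_true] at h'
    intro s hs
    rcases List.mem_cons.1 hs with rfl | hs
    · exact ⟨_, Enum.nth_mem_or 1 ls 0, by rw [map_ev, wSc_sound hT hg h'.1]⟩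
    · obtain ⟨l, h1, h2⟩ := ih h'.2 s hs
      exact ⟨l, h1.imp id List.mem_of_mem_tail, h2⟩

theorem holds_of_relB (hT : T.OK e) {ρ : Γ →* Matrix ι ι F} (hρ : Function.Injective ρ) {γ : ℕ → Γ}
    {As : List (List ℕ)} (hg : T.Lets e σ (fun a => ρ (ext γ a)) As) {R : List (List ℕ)}
    (h : T.relB d As R [] = true) : Holds (ext γ) R := fun r hr => by
  obtain ⟨l, h1, h2⟩ := relB_sound hT hg h r hr
  obtain rfl : l = 1 := by simpa using h1
  exact hρ (by rw [h2, hT.one, one_smul, map_one])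

theorem central_of_relB (hT : T.OK e) {ρ : Γ →* Matrix ι ι F} (hρ : Function.Injective ρ)
    {γ : ℕ → Γ} {As : List (List ℕ)} (hg : T.Lets e σ (fun a => ρ (ext γ a)) As)
    {R : List (List ℕ)} {ls : List ℕ} (h : T.relB d As R ls = true) :
    ∀ r ∈ R, ev (ext γ) r ∈ Subgroup.center Γ := fun r hr => by
  obtain ⟨l, -, h2⟩ := relB_sound hT hg h r hr
  exact Subgroup.mem_center_iff.2 fun g => hρ (by rw [map_mul, map_mul, h2]; simp)

end FT

end Cfsg.Agent.CGT
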