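import Cfsg.Agent.CGT.Mat2

set_option autoImplicit false
set_option linter.style.haveILetI false

/-! Centres, quotients, new models, field tables. -/

namespace Cfsg.Agent.CGT

open Equiv Matrix

variable {G : Type*} [Group G]

/-- The point `b` is the only common fixed point of the words, and its orbit is everything. -/
noncomputable def cfB (k N : ℕ) (ns : List Net) (ts : List Tab) (l : Level) (S : List (List ℕ)) : Bool :=
  Nat.blt l.b N && (Nat.ble N (Nat.pow 2 k) && (Nat.beq (Nat.land l.O (msk N)) (msk N) &&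
    (allL S (fun w => fixesB k ts w [l.b]) &&
    Nat.beq (Nat.land (List.rec (Nat.shiftLeft 1 l.b) (fun w _ ih => Nat.lor (movedM k ns w) ih) S)
      (msk N)) (msk N))))

theorem center_le_ker {φ : G →* Perm ℕ} {γ : ℕ → G} {k N : ℕ} {ns : List Net} {ts : List Tab}
    (M : Model φ γ k ns ts) (hb : ∀ g, φ g ∈ bddPerm N) {K : Subgroup G} {l : Level}
    {ls : List Level} (hs : ChainSound φ K k [] (l :: ls)) {S : List (List ℕ)}
    (h : cfB k N ns ts l S = true) : Subgroup.center G ≤ φ.ker := by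
  unfold cfB at h
  simp only [Bool.and_eq_true, Nat.blt_eq, Nat.ble_eq, Nat.beq_eq, allL_iff] at h
  obtain ⟨h1, -, h3, h4, h5⟩ := h
  intro z hz
  have hc : ∀ g x, φ z (φ g x) = φ g (φ z x) := fun g x => by
    rw [← Perm.mul_apply, ← map_mul, ← Subgroup.mem_center_iff.1 hz g, map_mul, Perm.mul_apply]
  have h6 : φ z l.b = l.b := by
    have h7 := congrArg (fun x => x.testBit (φ z l.b)) h5
    have h8 := bddPerm_lt (hb z) h1
    simp only [land_eq, msk_eq, Nat.testBit_and, Nat.testBit_two_pow_sub_one, h8, decide_true,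
      Bool.and_true] at h7
    clear h5
    induction S with
    | nil =>
      simp only [shl_eq, Nat.one_shiftLeft, Nat.testBit_two_pow] at h7
      exact (of_decide_eq_true h7).symm
    | cons w S ih =>
      simp only [lor_eq, Nat.testBit_or] at h7 ih
      have h9 := fixesB_sound M (ptsOK_cons hs.1.1 rfl) (h4 w (by simp)) l.b (by simp)
      rw [movedM_sound M w (by rw [← hc, h9]), Bool.false_or] at h7
      exact ih (fun a ha => h4 a (by simp [ha])) h7
  refine Equiv.ext fun x => ?_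
  by_cases hx : x < N
  · have h7 := congrArg (fun y => y.testBit x) h3
    simp only [land_eq, msk_eq, Nat.testBit_and, Nat.testBit_two_pow_sub_one, hx, decide_true,
      Bool.and_true] at h7
    obtain ⟨g, -, rfl⟩ := hs.1.2.1 x h7
    rw [hc, h6]; rfl
  · exact hb z x (by omega)

/-- The generators of a quotient. -/
def qg (Z : Subgroup G) [Z.Normal] (γ : ℕ → G) (j : ℕ) : G ⧸ Z := QuotientGroup.mk' Z (γ j)

theorem ev_qg (Z : Subgroup G) [Z.Normal] (γ : ℕ → G) (w : List ℕ) :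
    ev (ext (qg Z γ)) w = QuotientGroup.mk' Z (ev (ext γ) w) := by
  rw [map_ev]; simp only [map_ext]; rfl

theorem Model.quot {φ : G →* Perm ℕ} {γ : ℕ → G} {k : ℕ} {ns : List Net} {ts : List Tab}
    (M : Model φ γ k ns ts) {Z : Subgroup G} [Z.Normal] (h : Z ≤ φ.ker) :
    Model (QuotientGroup.lift Z φ h) (qg Z γ) k ns ts := ⟨M.valid, M.gen, M.tabs⟩

theorem gp_map {H : Type*} [Group H] (f : G →* H) (hf : Function.Surjective f) {γ : ℕ → G}
    {L : List ℕ} (h : gp γ L = ⊤) : gp (fun j => f (γ j)) L = ⊤ := by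
  rw [eq_top_iff]
  intro y _
  obtain ⟨x, rfl⟩ := hf y
  obtain ⟨w, h1, rfl⟩ := exists_word (h ▸ Subgroup.mem_top x)
  rw [map_ev]
  exact ev_mem _ _ _ fun a ha => by rw [map_ext]; exact ext_mem_gp' _ (h1 a ha)

theorem gp_qg (Z : Subgroup G) [Z.Normal] {γ : ℕ → G} {L : List ℕ} (h : gp γ L = ⊤) :
    gp (qg Z γ) L = ⊤ := gp_map _ (QuotientGroup.mk'_surjective Z) h

theorem holds_qg {Z : Subgroup G} [Z.Normal] {γ : ℕ → G} {R : List (List ℕ)}
    (h : ∀ r ∈ R, ev (ext γ) r ∈ Z) : Holds (ext (qg Z γ)) R := fun r hr => by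
  rw [ev_qg]; exact (QuotientGroup.eq_one_iff _).2 (h r hr)

theorem Holds.pair {X : Type*} [Group X] {γ : ℕ → G} {y : ℕ → X} {R : List (List ℕ)}
    (h : Holds (ext γ) R) (h' : Holds (ext y) R) : Holds (ext fun j => (γ j, y j)) R := fun r hr => by
  apply Prod.ext
  · have := map_ev (ext fun j => (γ j, y j)) (MonoidHom.fst G X) r
    simp only [map_ext] at this
    exact this.trans (h r hr)
  · have := map_ev (ext fun j => (γ j, y j)) (MonoidHom.snd G X) r
    simp only [map_ext] at this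
    exact this.trans (h' r hr)

/-- A homomorphism from a universal bound for the order. -/
theorem hom_of_bound [Finite G] {γ : ℕ → G} {L : List ℕ} (gen : gp γ L = ⊤) {N : ℕ}
    (hN : Nat.card G = N) {X : Type*} [Group X] {y : ℕ → X}
    (hU : Bd (gp (fun j => (γ j, y j)) L) N) {m : ℕ} (h1 : ∀ j, m ≤ j → γ j = 1)
    (h2 : ∀ j, m ≤ j → y j = 1) (hL : (allLt m fun j => memL (Nat.mul 2 j) L) = true) :
    ∃ f : G →* X, ∀ j, f (γ j) = y j := by
  let δ : ℕ → G × X := fun j => (γ j, y j)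
  haveI := hU.1
  let σ : gp δ L →* G := (MonoidHom.fst G X).comp (gp δ L).subtype
  have hσ : Function.Surjective σ := by
    rw [← MonoidHom.range_eq_top, eq_top_iff, ← gen]
    exact gp_le fun a ha => ⟨⟨ext δ a, ext_mem_gp δ ha⟩, map_ext (MonoidHom.fst G X) δ a⟩
  have hb : Function.Bijective σ := (Nat.bijective_iff_surjective_and_card _).2 ⟨hσ,
    le_antisymm (hN ▸ hU.2) (Nat.card_le_card_of_surjective _ hσ)⟩
  let e := MulEquiv.ofBijective σ hb
  refine ⟨((MonoidHom.snd G X).comp (gp δ L).subtype).comp e.symm.toMonoidHom, fun j => ?_⟩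
  by_cases hj : j < m
  · have h3 := ext_mem_gp δ (memL_sound (allLt_iff.1 hL j hj))
    rw [show Nat.mul 2 j = 2 * j from rfl, ext_two_mul] at h3
    have : e.symm (γ j) = ⟨δ j, h3⟩ := by rw [MulEquiv.symm_apply_eq]; rfl
    show (e.symm (γ j)).1.2 = _
    rw [this]
  · rw [h1 j (by omega), h2 j (by omega), map_one]

theorem holds_of_inj {φ : G →* Perm ℕ} {γ : ℕ → G} {k : ℕ} {ns : List Net} {ts : List Tab}
    (M : Model φ γ k ns ts) (hφ : Function.Injective φ) {R : List (List ℕ)}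
    (h : Holds (lp ns) R) : Holds (ext γ) R := fun r hr =>
  hφ (by rw [M.map_ev', h r hr, map_one])

/-- A certificate when the order is bounded but generation is not yet known. -/
theorem Cert.of_card {φ : G →* Perm ℕ} {γ : ℕ → G} {k : ℕ} {ns : List Net} {ts : List Tab}
    {L : List ℕ} {ls : List Level} (M : Model φ γ k ns ts)
    (hs : ChainSound φ (gp γ L) k [] ls) {m : ℕ} (hb : Finite G ∧ Nat.card G ≤ m)
    (e : Nat.ble m (chainCard ls) = true) : Cert φ γ k ns ts L ls := by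
  haveI := hb.1
  have h1 := hs.le_card
  rw [St_nil] at h1
  exact Cert.of_bound M (Subgroup.eq_top_of_le_card _
    ((hb.2.trans (Nat.le_of_ble_eq_true e)).trans h1)) hs hb e

theorem eq_top_of_closure {S : Set G} {H : Subgroup (Subgroup.closure S)}
    (h : ∀ s (hs : s ∈ S), ⟨s, Subgroup.subset_closure hs⟩ ∈ H) : H = ⊤ := by
  rw [eq_top_iff]
  rintro ⟨x, hx⟩ -
  induction hx using Subgroup.closure_induction with
  | mem x hx => exact h x hx
  | one => exact H.one_mem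
  | mul x y _ _ hx hy => exact H.mul_mem hx hy
  | inv x _ hx => exact H.inv_mem hx

/-! ### Field tables -/

namespace FT

variable {T : FT} {F : Type*} [Field F]

/-- The element with a given code: digits in base `p` are the coordinates for powers of `θ`. -/
def el (p : ℕ) (θ : F) (a : ℕ) : F := (a % p : ℕ) + (a / p % p : ℕ) * θ + (a / p / p % p : ℕ) * θ ^ 2

/-- The test of the tables for `θ^3 = c₀ + c₁ θ + c₂ θ^2`, where `θ^2 = b₀ + b₁ θ` may be used `s`
times. -/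
noncomputable def okB (T : FT) (p b₀ b₁ c₀ c₁ c₂ s : ℕ) : Bool :=
  Nat.ble 2 p && (Nat.ble 2 T.q && allLt T.q fun a => allLt T.q fun b =>
    (fun a₀ a₁ a₂ d₀ d₁ d₂ u v =>
      Nat.blt u T.q && (Nat.blt v T.q &&
      (Nat.beq ((u + d₀) % p) a₀ && (Nat.beq ((u / p + d₁) % p) a₁ && (Nat.beq ((u / p / p + d₂) % p) a₂ &&
      ((fun t₂ t₃ t₄ =>
        Nat.beq ((a₀ * d₀ + t₃ * c₀ + t₄ * c₂ * c₀ + s * t₂ * b₀) % p) (v % p) &&
        (Nat.beq ((a₀ * d₁ + a₁ * d₀ + t₃ * c₁ + t₄ * (c₀ + c₂ * c₁) + s * t₂ * b₁) % p) (v / p % p) &&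
        Nat.beq ((1 - s) * t₂ % p) (v / p / p % p)))
        (a₀ * d₂ + a₁ * d₁ + a₂ * d₀ + (a₁ * d₂ + a₂ * d₁) * c₂ + a₂ * d₂ * (c₁ + c₂ * c₂))
        (a₁ * d₂ + a₂ * d₁) (a₂ * d₂) &&
      (Nat.beq a b || !(allLt T.q fun c => !(Nat.beq (T.mu u c) 1)))))))))
    (a % p) (a / p % p) (a / p / p % p) (b % p) (b / p % p) (b / p / p % p) (T.sb a b) (T.mu a b))

theorem cast_of_beq {p : ℕ} [CharP F p] {a b : ℕ} (h : Nat.beq (a % p) b = true) :
    (a : F) = b := by
  rw [← Nat.eq_of_beq_eq_true h, CharP.cast_eq_mod F p a]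

theorem okB_sound {p b₀ b₁ c₀ c₁ c₂ s : ℕ} [CharP F p] {θ : F}
    (h3 : θ ^ 3 = c₀ + c₁ * θ + c₂ * θ ^ 2) (h2 : s = 0 ∨ s = 1 ∧ θ ^ 2 = b₀ + b₁ * θ)
    (h : T.okB p b₀ b₁ c₀ c₁ c₂ s = true) : T.OK (el p θ) := by
  unfold okB at h
  simp only [Bool.and_eq_true, allLt_iff, Nat.ble_eq, Nat.blt_eq] at h
  obtain ⟨hp, hq, h⟩ := h
  have e1 : el p θ 1 = 1 := by simp [el, Nat.mod_eq_of_lt hp, Nat.div_eq_of_lt hp]
  have e0 : el p θ 0 = 0 := by simp [el]
  have hs : ∀ a < T.q, ∀ b < T.q, T.sb a b < T.q ∧ el p θ (T.sb a b) = el p θ a - el p θ b := by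
    intro a ha b hb
    obtain ⟨g1, -, g2, g3, g4, -⟩ := h a ha b hb
    refine ⟨g1, ?_⟩
    have g2 := cast_of_beq (F := F) g2
    have g3 := cast_of_beq (F := F) g3
    have g4 := cast_of_beq (F := F) g4
    simp only [el, ← CharP.cast_eq_mod F p, Nat.cast_add] at g2 g3 g4 ⊢
    linear_combination g2 + θ * g3 + θ ^ 2 * g4
  have hm : ∀ a < T.q, ∀ b < T.q, T.mu a b < T.q ∧ el p θ (T.mu a b) = el p θ a * el p θ b := by
    intro a ha b hb
    obtain ⟨-, g1, -, -, -, ⟨g2, g3, g4⟩, -⟩ := h a ha b hb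
    refine ⟨g1, ?_⟩
    have g2 := cast_of_beq (F := F) g2
    have g3 := cast_of_beq (F := F) g3
    have g4 := cast_of_beq (F := F) g4
    unfold el
    generalize a % p = a₀, a / p % p = a₁, a / p / p % p = a₂, b % p = d₀, b / p % p = d₁,
      b / p / p % p = d₂, T.mu a b % p = v₀, T.mu a b / p % p = v₁, T.mu a b / p / p % p = v₂ at *
    rcases h2 with rfl | ⟨rfl, h2⟩
    · push_cast at g2 g3 g4
      linear_combination -g2 - θ * g3 - θ ^ 2 * g4 -
        ((a₁ * d₂ + a₂ * d₁ : F) + a₂ * d₂ * (θ + c₂)) * h3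
    · push_cast at g2 g3 g4
      linear_combination -g2 - θ * g3 - θ ^ 2 * g4 -
        ((a₁ * d₂ + a₂ * d₁ : F) + a₂ * d₂ * (θ + c₂)) * h3 -
        ((a₀ * d₂ + a₁ * d₁ + a₂ * d₀ + (a₁ * d₂ + a₂ * d₁) * c₂ + a₂ * d₂ * (c₁ + c₂ * c₂) : F)) * h2
  refine ⟨hq, e0, e1, hs, hm, fun a ha b hb hab => ?_⟩
  obtain ⟨g1, -, -, -, -, -, g2⟩ := h a ha b hb
  rw [Bool.or_eq_true] at g2
  refine g2.elim Nat.eq_of_beq_eq_true fun g3 => ?_
  by_contra hc
  rw [allLt_iff.2] at g3
  · simp at g3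
  · intro c hc
    have h4 := (hm _ g1 c hc).2
    rw [(hs a ha b hb).2, hab, sub_self, zero_mul] at h4
    cases h5 : Nat.beq (T.mu (T.sb a b) c) 1
    · rfl
    · rw [Nat.eq_of_beq_eq_true h5, e1] at h4
      exact absurd h4 one_ne_zero

theorem el_of_lt {p : ℕ} (θ : F) {a : ℕ} (h : a < p) : el p θ a = a := by
  simp [el, Nat.mod_eq_of_lt h, Nat.div_eq_of_lt h]

theorem OK.surj [Finite F] {e : ℕ → F} (hT : T.OK e) (hq : Nat.card F = T.q) (x : F) :
    ∃ a < T.q, e a = x := by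
  have : Function.Bijective fun a : Fin T.q => e a :=
    (Nat.bijective_iff_injective_and_card _).2 ⟨fun a b h => Fin.ext (hT.inj _ a.2 _ b.2 h), by simp [hq]⟩
  obtain ⟨a, ha⟩ := this.2 x
  exact ⟨a, a.2, ha⟩

end FT

end Cfsg.Agent.CGT
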