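import Cfsg.Agent.CGT.Word

set_option autoImplicit false

/-! Swap networks acting on the bits of a natural number: a cheap way to let the kernel apply a
permutation of many points to a whole bit mask at once. -/

namespace Cfsg.Agent.CGT

open Equiv

/-- One stage: swap bits `i` and `i + s` for every `i` in the mask `m`. -/
def dswap (s m x : ℕ) : ℕ :=
  (fun t => Nat.xor (Nat.xor x t) (Nat.shiftLeft t s)) (Nat.land (Nat.xor (Nat.shiftRight x s) x) m)

/-- The position map of one stage. -/
def sw (s m i : ℕ) : ℕ :=
  if m.testBit i then i + s else if s ≤ i ∧ m.testBit (i - s) then i - s else i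

theorem sw_aux {s m : ℕ} (h : m &&& (m <<< s) = 0) {i : ℕ} (hi : m.testBit i = true) :
    m.testBit (i + s) = false := by
  have := congrArg (fun x => x.testBit (i + s)) h
  simpa [Nat.testBit_shiftLeft, hi] using this

theorem sw_aux' {s m : ℕ} (h : m &&& (m <<< s) = 0) {i : ℕ} (hi : m.testBit i = true)
    (hs : s ≤ i) : m.testBit (i - s) = false := by
  by_contra hc
  have hc' : m.testBit (i - s) = true := by simpa using hc
  have := sw_aux h hc'
  rw [Nat.sub_add_cancel hs, hi] at this
  exact absurd this (by simp)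

theorem sw_sw {s m : ℕ} (h : m &&& (m <<< s) = 0) : Function.Involutive (sw s m) := by
  intro i
  unfold sw
  by_cases h1 : m.testBit i = true
  · simp [h1, sw_aux h h1]
  · by_cases h2 : s ≤ i ∧ m.testBit (i - s) = true
    · simp [h1, h2, Nat.sub_add_cancel h2.1]
    · simp [h1, h2]

theorem dswap_eq (s m x : ℕ) :
    dswap s m x = (x ^^^ (((x >>> s) ^^^ x) &&& m)) ^^^ ((((x >>> s) ^^^ x) &&& m) <<< s) := rfl

theorem testBit_dswap {s m : ℕ} (h : m &&& (m <<< s) = 0) (x i : ℕ) :
    (dswap s m x).testBit i = x.testBit (sw s m i) := by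
  rw [dswap_eq]
  simp only [Nat.testBit_xor, Nat.testBit_and, Nat.testBit_shiftRight, Nat.testBit_shiftLeft]
  unfold sw
  by_cases h1 : m.testBit i = true
  · by_cases hs : s ≤ i
    · simp only [h1, sw_aux' h h1 hs, Nat.add_comm i s, if_true]
      cases x.testBit i <;> cases x.testBit (s + i) <;> simp
    · simp only [h1, hs, Nat.add_comm i s, if_true]
      cases x.testBit i <;> cases x.testBit (s + i) <;> simp
  · by_cases hs : s ≤ i
    · by_cases h2 : m.testBit (i - s) = true
      · simp [h1, h2, hs]
      · simp [h1, h2, hs]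
    · simp [h1, hs]

/-- One stage as a permutation of the natural numbers (the identity if the mask is not admissible). -/
def swP (s m : ℕ) : Perm ℕ :=
  if h : m &&& (m <<< s) = 0 then (sw_sw h).toPerm else 1

theorem swP_mul_self (s m : ℕ) : swP s m * swP s m = 1 := by
  unfold swP
  split_ifs with h
  · ext i; exact sw_sw h i
  · simp

theorem swP_inv (s m : ℕ) : (swP s m)⁻¹ = swP s m :=
  inv_eq_of_mul_eq_one_right (swP_mul_self s m)

theorem swP_apply {s m : ℕ} (h : m &&& (m <<< s) = 0) (i : ℕ) : swP s m i = sw s m i := by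
  simp [swP, h]

/-- A swap network: a list of stages. -/
inductive Net : Type
  | nil : Net
  | cons (s m : ℕ) (r : Net) : Net

/-- Evaluate `x` to a literal before going on with `k`. -/
noncomputable def frc {α : Type} (x : ℕ) (k : α) : α := Bool.rec k k (Nat.ble 0 x)

@[simp] theorem frc_eq {α : Type} (x : ℕ) (k : α) : frc x k = k := by
  unfold frc; cases Nat.ble 0 x <;> rfl

namespace Net

/-- The permutation of positions realised by a network. -/
noncomputable def perm (n : Net) : Perm ℕ :=
  Net.rec 1 (fun s m _ ih => swP s m * ih) n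

/-- Pull a bit mask back along the permutation of the network. -/
noncomputable def gather (n : Net) (x : ℕ) : ℕ :=
  Net.rec (motive := fun _ => ℕ → ℕ) (fun x => x) (fun s m _ ih x => ih (dswap s m x)) n x

/-- Pull a bit mask back along the inverse permutation (push it forward). -/
noncomputable def scatter (n : Net) (x : ℕ) : ℕ :=
  Net.rec x (fun s m _ ih => dswap s m ih) n

/-- Admissible masks, all moved positions below `B`. -/
noncomputable def valid (B : ℕ) (n : Net) : Bool :=
  Net.rec true (fun s m _ ih =>
    (fun t => (Nat.beq (Nat.land m t) 0 && Nat.beq (Nat.shiftRight t B) 0) && ih) (Nat.shiftLeft m s)) n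

@[simp] theorem perm_nil : perm nil = 1 := rfl
@[simp] theorem perm_cons (s m : ℕ) (r : Net) : perm (cons s m r) = swP s m * perm r := rfl
@[simp] theorem gather_nil (x : ℕ) : gather nil x = x := rfl
@[simp] theorem gather_cons (s m : ℕ) (r : Net) (x : ℕ) :
    gather (cons s m r) x = gather r (dswap s m x) := rfl
@[simp] theorem scatter_nil (x : ℕ) : scatter nil x = x := rfl
@[simp] theorem scatter_cons (s m : ℕ) (r : Net) (x : ℕ) :
    scatter (cons s m r) x = dswap s m (scatter r x) := rfl

theorem valid_cons {B s m : ℕ} {r : Net} (h : valid B (cons s m r) = true) :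
    m &&& (m <<< s) = 0 ∧ (m <<< s) >>> B = 0 ∧ valid B r = true := by
  have h' : ((Nat.beq (m &&& (m <<< s)) 0 && Nat.beq ((m <<< s) >>> B) 0) && valid B r) = true := h
  simp only [Bool.and_eq_true, Nat.beq_eq] at h'
  exact ⟨h'.1.1, h'.1.2, h'.2⟩

theorem testBit_gather {B : ℕ} {n : Net} (h : valid B n = true) (x i : ℕ) :
    (gather n x).testBit i = x.testBit (perm n i) := by
  induction n generalizing x with
  | nil => simp
  | cons s m r ih =>
    obtain ⟨h1, -, h3⟩ := valid_cons h
    rw [gather_cons, ih h3, testBit_dswap h1, perm_cons, Perm.mul_apply, swP_apply h1]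

theorem testBit_scatter {B : ℕ} {n : Net} (h : valid B n = true) (x i : ℕ) :
    (scatter n x).testBit i = x.testBit ((perm n)⁻¹ i) := by
  induction n generalizing i with
  | nil => simp
  | cons s m r ih =>
    obtain ⟨h1, -, h3⟩ := valid_cons h
    rw [scatter_cons, testBit_dswap h1, ih h3, perm_cons, mul_inv_rev, Perm.mul_apply, swP_inv,
      swP_apply h1]

theorem sw_of_le {B s m : ℕ} (h : (m <<< s) >>> B = 0) {i : ℕ} (hi : B ≤ i) : sw s m i = i := by
  have key : ∀ j, B ≤ j + s → m.testBit j = false := by
    intro j hj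
    have := congrArg (fun x => x.testBit (j + s - B)) h
    simp only [Nat.testBit_shiftRight, Nat.testBit_shiftLeft, Nat.zero_testBit] at this
    rw [Nat.add_sub_cancel' hj] at this
    simpa using this
  unfold sw
  have h1 := key i (by omega)
  by_cases hs : s ≤ i
  · have h2 := key (i - s) (by omega)
    simp [h1, h2]
  · simp [h1, hs]

theorem perm_of_le {B : ℕ} {n : Net} (h : valid B n = true) {i : ℕ} (hi : B ≤ i) :
    perm n i = i := by
  induction n with
  | nil => simp
  | cons s m r ih =>
    obtain ⟨h1, h2, h3⟩ := valid_cons h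
    rw [perm_cons, Perm.mul_apply, ih h3, swP_apply h1, sw_of_le h2 hi]

end Net

/-- Permutations of the natural numbers fixing everything from `B` on. -/
def bddPerm (B : ℕ) : Subgroup (Perm ℕ) where
  carrier := {p | ∀ i, B ≤ i → p i = i}
  one_mem' := fun _ _ => rfl
  mul_mem' := fun {p q} hp hq i hi => by rw [Perm.mul_apply, hq i hi, hp i hi]
  inv_mem' := fun {p} hp i hi => by rw [Perm.inv_eq_iff_eq, hp i hi]

theorem bddPerm_lt {B : ℕ} {p : Perm ℕ} (hp : p ∈ bddPerm B) {i : ℕ} (hi : i < B) : p i < B := by
  by_contra hc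
  have := hp (p i) (by omega)
  have := p.injective this
  omega

/-! ### Alphabets: letter `2j` is generator `j`, letter `2j+1` its inverse -/

/-- Extend an assignment of the generators to all letters. -/
def ext {G : Type*} [Group G] (γ : ℕ → G) (a : ℕ) : G :=
  if a % 2 = 0 then γ (a / 2) else (γ (a / 2))⁻¹

theorem map_ext {G H : Type*} [Group G] [Group H] (f : G →* H) (γ : ℕ → G) (a : ℕ) :
    f (ext γ a) = ext (fun j => f (γ j)) a := by
  unfold ext; split_ifs <;> simp

theorem ext_two_mul {G : Type*} [Group G] (γ : ℕ → G) (j : ℕ) : ext γ (2 * j) = γ j := by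
  simp [ext]

theorem ext_two_mul_add_one {G : Type*} [Group G] (γ : ℕ → G) (j : ℕ) :
    ext γ (2 * j + 1) = (γ j)⁻¹ := by
  have : (2 * j + 1) / 2 = j := by omega
  simp [ext, this]

theorem ext_mem {G : Type*} [Group G] {γ : ℕ → G} {H : Subgroup G} {a : ℕ}
    (h : γ (a / 2) ∈ H) : ext γ a ∈ H := by
  unfold ext; split_ifs
  · exact h
  · exact H.inv_mem h

theorem ext_xor_one {G : Type*} [Group G] (γ : ℕ → G) (a : ℕ) :
    ext γ (a ^^^ 1) = (ext γ a)⁻¹ := by
  rcases Nat.even_or_odd' a with ⟨j, rfl | rfl⟩
  · have : (2 * j) ^^^ 1 = 2 * j + 1 := Nat.xor_one_of_even (even_two_mul j)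
    rw [this, ext_two_mul, ext_two_mul_add_one]
  · have : (2 * j + 1) ^^^ 1 = 2 * j := by
      rw [Nat.xor_one_of_odd (odd_two_mul_add_one j)]; rfl
    rw [this, ext_two_mul, ext_two_mul_add_one, inv_inv]

/-- `l.getD i d`, written for the kernel. -/
noncomputable def nth {α : Type} (d : α) (l : List α) (i : ℕ) : α :=
  List.rec (motive := fun _ => ℕ → α) (fun _ => d)
    (fun a _ ih i => Nat.rec a (fun j _ => ih j) i) l i

theorem nth_eq {α : Type} (d : α) (l : List α) (i : ℕ) : nth d l i = l.getD i d := by
  induction l generalizing i with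
  | nil => rfl
  | cons a l ih =>
    cases i with
    | zero => rfl
    | succ j => exact ih j

/-- The permutations of the generators given by a list of networks. -/
noncomputable def netPerm (ns : List Net) (j : ℕ) : Perm ℕ := (nth Net.nil ns j).perm

/-- The permutation of a letter. -/
noncomputable def lp (ns : List Net) : ℕ → Perm ℕ := ext (netPerm ns)

/-- Pull a mask back along the permutation of a letter. -/
noncomputable def gat (ns : List Net) (a x : ℕ) : ℕ :=
  Bool.rec ((nth Net.nil ns (Nat.shiftRight a 1)).scatter x)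
    ((nth Net.nil ns (Nat.shiftRight a 1)).gather x) (Nat.beq (Nat.land a 1) 0)

/-- All networks are valid below `B`. -/
noncomputable def validAll (B : ℕ) (ns : List Net) : Bool :=
  List.rec true (fun n _ ih => Net.valid B n && ih) ns

theorem valid_nth {B : ℕ} {ns : List Net} (h : validAll B ns = true) (j : ℕ) :
    Net.valid B (nth Net.nil ns j) = true := by
  induction ns generalizing j with
  | nil => rfl
  | cons n l ih =>
    have h' : (Net.valid B n && validAll B l) = true := h
    simp only [Bool.and_eq_true] at h'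
    cases j with
    | zero => exact h'.1
    | succ j => exact ih h'.2 j

theorem validAll_append {B : ℕ} {l l' : List Net} (h : validAll B l = true)
    (h' : validAll B l' = true) : validAll B (l ++ l') = true := by
  induction l with
  | nil => exact h'
  | cons n l ih =>
    have h1 : (Net.valid B n && validAll B l) = true := h
    simp only [Bool.and_eq_true] at h1
    show (Net.valid B n && validAll B (l ++ l')) = true
    simp [h1.1, ih h1.2]

theorem testBit_gat {B : ℕ} {ns : List Net} (h : validAll B ns = true) (a x i : ℕ) :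
    (gat ns a x).testBit i = x.testBit (lp ns a i) := by
  have h1 : Nat.shiftRight a 1 = a / 2 := by
    show a >>> 1 = a / 2
    rw [Nat.shiftRight_one]
  have h2 : Nat.land a 1 = a % 2 := by
    show a &&& 1 = a % 2
    rw [Nat.and_one_is_mod]
  unfold gat lp ext netPerm
  rw [h1, h2]
  rcases Nat.mod_two_eq_zero_or_one a with h0 | h0
  · simp only [h0, if_true]
    exact Net.testBit_gather (valid_nth h _) x i
  · simp only [h0, one_ne_zero, if_false]
    exact Net.testBit_scatter (valid_nth h _) x i

theorem lp_mem {B : ℕ} {ns : List Net} (h : validAll B ns = true) (a : ℕ) :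
    lp ns a ∈ bddPerm B :=
  ext_mem fun _ hi => Net.perm_of_le (valid_nth h _) hi

theorem ev_lp_mem {B : ℕ} {ns : List Net} (h : validAll B ns = true) (w : List ℕ) :
    ev (lp ns) w ∈ bddPerm B :=
  ev_mem _ _ _ fun a _ => lp_mem h a

/-- Pull a mask back along the permutation of a word. -/
noncomputable def gatW (ns : List Net) (w : List ℕ) (x : ℕ) : ℕ :=
  List.rec (motive := fun _ => ℕ → ℕ) (fun x => x)
    (fun a _ ih x => (fun y => frc y (ih y)) (gat ns a x)) w x

theorem gatW_cons (ns : List Net) (a : ℕ) (w : List ℕ) (x : ℕ) :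
    gatW ns (a :: w) x = gatW ns w (gat ns a x) := frc_eq (gat ns a x) _

theorem testBit_gatW {B : ℕ} {ns : List Net} (h : validAll B ns = true) (w : List ℕ) (x i : ℕ) :
    (gatW ns w x).testBit i = x.testBit (ev (lp ns) w i) := by
  induction w generalizing x with
  | nil => rfl
  | cons a w ih => rw [gatW_cons, ih, testBit_gat h, ev_cons, Perm.mul_apply]

/-! ### Index slices and equality of words as permutations -/

/-- The mask of the positions `i < 2^k` whose bit `j` is set. -/
noncomputable def sl (j k : ℕ) : ℕ :=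
  Nat.rec 0 (fun e ih => Bool.rec (Nat.lor ih (Nat.shiftLeft ih (Nat.pow 2 e)))
    (Nat.shiftLeft (Nat.sub (Nat.pow 2 (Nat.pow 2 e)) 1) (Nat.pow 2 e)) (Nat.beq j e)) k

theorem sl_succ (j e : ℕ) : sl j (e + 1) =
    if j = e then (2 ^ (2 ^ e) - 1) <<< (2 ^ e) else sl j e ||| (sl j e <<< (2 ^ e)) := by
  by_cases h : j = e
  · subst h
    simp only [if_true]
    show Bool.rec (motive := fun _ => ℕ) _ _ (Nat.beq j j) = _
    rw [Nat.beq_refl]; rfl
  · simp only [h, if_false]
    show Bool.rec (motive := fun _ => ℕ) _ _ (Nat.beq j e) = _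
    have : Nat.beq j e = false := by
      cases hb : Nat.beq j e
      · rfl
      · exact absurd (Nat.eq_of_beq_eq_true hb) h
    rw [this]; rfl

theorem testBit_sl (j k i : ℕ) : (sl j k).testBit i = (decide (i < 2 ^ k) && i.testBit j) := by
  induction k generalizing i with
  | zero =>
    show (0 : ℕ).testBit i = _
    rcases Nat.eq_zero_or_pos i with rfl | hi
    · simp
    · have : ¬ i < 2 ^ 0 := by omega
      simp only [this, Nat.zero_testBit, decide_false, Bool.false_and]
  | succ e ih =>
    rw [sl_succ]
    have hp : 2 ^ (e + 1) = 2 ^ e + 2 ^ e := by rw [pow_succ]; omega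
    by_cases hlo : i < 2 ^ e
    · have h1 : i < 2 ^ (e + 1) := by omega
      have h2 : ¬ i ≥ 2 ^ e := by omega
      split_ifs with h
      · subst h
        simp [Nat.testBit_shiftLeft, h2, Nat.testBit_lt_two_pow hlo]
      · simp [Nat.testBit_shiftLeft, h2, ih, hlo, h1]
    · have h2 : i ≥ 2 ^ e := by omega
      by_cases hhi : i < 2 ^ (e + 1)
      · obtain ⟨d, rfl⟩ : ∃ d, i = 2 ^ e + d := ⟨i - 2 ^ e, by omega⟩
        have hd : d < 2 ^ e := by omega
        split_ifs with h
        · subst h
          simp [Nat.testBit_shiftLeft, hhi, hd, Nat.testBit_two_pow_add_eq,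
            Nat.testBit_lt_two_pow hd]
        · simp only [Nat.testBit_or, Nat.testBit_shiftLeft, ih, hlo, h2, hhi, decide_true,
            decide_false, Bool.false_and, Bool.false_or, Bool.true_and, Nat.add_sub_cancel_left, hd]
          rcases Nat.lt_or_gt_of_ne h with h' | h'
          · rw [Nat.testBit_two_pow_add_gt h']
          · rw [Nat.testBit_lt_two_pow (lt_of_lt_of_le hd (Nat.pow_le_pow_right (by norm_num) h'.le)),
              Nat.testBit_lt_two_pow (lt_of_lt_of_le hhi (Nat.pow_le_pow_right (by norm_num) h'))]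
      · have h3 : ¬ i - 2 ^ e < 2 ^ e := by omega
        split_ifs with h
        · simp [Nat.testBit_shiftLeft, hhi, h3]
        · simp [Nat.testBit_shiftLeft, ih, hlo, hhi, h3]

/-- `∀ j < k, p j`, written for the kernel. -/
noncomputable def allLt (k : ℕ) (p : ℕ → Bool) : Bool :=
  Nat.rec true (fun j ih => p j && ih) k

theorem allLt_iff {k : ℕ} {p : ℕ → Bool} : allLt k p = true ↔ ∀ j < k, p j = true := by
  induction k with
  | zero => simp [allLt]
  | succ e ih =>
    show (p e && allLt e p) = true ↔ _
    rw [Bool.and_eq_true, ih]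
    constructor
    · rintro ⟨h1, h2⟩ j hj
      rcases Nat.lt_succ_iff_lt_or_eq.1 hj with h | rfl
      · exact h2 j h
      · exact h1
    · intro h
      exact ⟨h e (by omega), fun j hj => h j (by omega)⟩

/-- `∀ a ∈ l, p a`, written for the kernel. -/
noncomputable def allL {α : Type} (l : List α) (p : α → Bool) : Bool :=
  List.rec true (fun a _ ih => p a && ih) l

theorem allL_iff {α : Type} {l : List α} {p : α → Bool} :
    allL l p = true ↔ ∀ a ∈ l, p a = true := by
  induction l with
  | nil => simp [allL]
  | cons a l ih =>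
    show (p a && allL l p) = true ↔ _
    rw [Bool.and_eq_true, ih]; simp

theorem perm_eq_of_slices {k : ℕ} {p q : Perm ℕ} (hp : p ∈ bddPerm (2 ^ k))
    (hq : q ∈ bddPerm (2 ^ k))
    (h : ∀ j < k, ∀ i, (sl j k).testBit (p i) = (sl j k).testBit (q i)) : p = q := by
  ext i
  by_cases hi : i < 2 ^ k
  · have h1 := bddPerm_lt hp hi
    have h2 := bddPerm_lt hq hi
    apply Nat.eq_of_testBit_eq
    intro j
    by_cases hj : j < k
    · simpa [testBit_sl, h1, h2] using h j hj i
    · have : 2 ^ k ≤ 2 ^ j := Nat.pow_le_pow_right (by norm_num) (by omega)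
      rw [Nat.testBit_lt_two_pow (by omega), Nat.testBit_lt_two_pow (by omega)]
  · rw [hp i (by omega), hq i (by omega)]

/-- Two words act in the same way on all `2^k` points. -/
noncomputable def eqW (k : ℕ) (ns : List Net) (u v : List ℕ) : Bool :=
  allLt k fun j => Nat.beq (gatW ns u (sl j k)) (gatW ns v (sl j k))

theorem eqW_sound {k : ℕ} {ns : List Net} (hv : validAll (2 ^ k) ns = true) {u v : List ℕ}
    (h : eqW k ns u v = true) : ev (lp ns) u = ev (lp ns) v := by
  refine perm_eq_of_slices (ev_lp_mem hv u) (ev_lp_mem hv v) fun j hj i => ?_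
  have := allLt_iff.1 h j hj
  rw [Nat.beq_eq] at this
  rw [← testBit_gatW hv, ← testBit_gatW hv, this]

/-- All the relators act trivially. -/
noncomputable def holdsB (k : ℕ) (ns : List Net) (R : List (List ℕ)) : Bool :=
  allL R fun r => eqW k ns r []

theorem holdsB_sound {k : ℕ} {ns : List Net} (hv : validAll (2 ^ k) ns = true)
    {R : List (List ℕ)} (h : holdsB k ns R = true) : Holds (lp ns) R :=
  fun r hr => eqW_sound hv (allL_iff.1 h r hr)

theorem Holds.append {G : Type*} [Monoid G] {g : ℕ → G} {R R' : List (List ℕ)} (h : Holds g R)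
    (h' : Holds g R') : Holds g (R ++ R') := fun r hr => by
  rcases List.mem_append.1 hr with h1 | h1
  · exact h r h1
  · exact h' r h1

end Cfsg.Agent.CGT
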