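import Mathlib
import Cfsg.Prelude.Def_KGroupFacts

set_option autoImplicit false
set_option linter.style.haveILetI false

/-! Normalising an automorphism on a Frobenius group `p : m` with self-centralising kernel. -/

namespace Cfsg.Agent.CGT

variable {G : Type*} [Group G]

theorem exists_conj_pow [Finite G] {p : ℕ} (hp : p.Prime) (hG : ¬ p ^ 2 ∣ Nat.card G) {x z : G}
    (hx : orderOf x = p) (hz : orderOf z = p) : ∃ g : G, ∃ k, 0 < k ∧ k < p ∧ g * z * g⁻¹ = x ^ k := by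
  classical
  haveI := Fact.mk hp
  have key : ∀ {x : G}, orderOf x = p → ∃ P : Sylow p G, (P : Subgroup G) = Subgroup.zpowers x := by
    intro x hx
    have h1 : Nat.card (Subgroup.zpowers x) = p ^ 1 := by rw [Nat.card_zpowers, hx, pow_one]
    have h2 : ¬ p ∣ (Subgroup.zpowers x).index := by
      intro h
      apply hG
      rw [← (Subgroup.zpowers x).card_mul_index, h1, pow_one, sq]
      exact Nat.mul_dvd_mul_left p h
    exact ⟨(IsPGroup.of_card h1).toSylow h2, rfl⟩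
  obtain ⟨P, hP⟩ := key hx
  obtain ⟨Q, hQ⟩ := key hz
  obtain ⟨g, hg⟩ := MulAction.exists_smul_eq G Q P
  have h1 : g * z * g⁻¹ ∈ Subgroup.zpowers x := by
    rw [← hP, ← hg, Sylow.coe_subgroup_smul, hQ]
    exact Subgroup.smul_mem_pointwise_smul _ _ _ (Subgroup.mem_zpowers z)
  rw [mem_zpowers_iff_mem_range_orderOf, hx] at h1
  obtain ⟨k, hk, e⟩ := Finset.mem_image.1 h1
  refine ⟨g, k, Nat.pos_of_ne_zero ?_, Finset.mem_range.1 hk, e.symm⟩
  rintro rfl
  have : z = 1 := by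
    have h2 : g * z * g⁻¹ = 1 := by rw [← e, pow_zero]
    simpa [mul_inv_eq_iff_eq_mul] using h2
  rw [this, orderOf_one] at hz
  exact hp.one_lt.ne hz

theorem conj_pow_iter {x y : G} {r : ℕ} (hy : y * x * y⁻¹ = x ^ r) (m k : ℕ) :
    y ^ m * x ^ k * (y ^ m)⁻¹ = x ^ (k * r ^ m) := by
  induction m with
  | zero => simp
  | succ m ih =>
    calc y ^ (m + 1) * x ^ k * (y ^ (m + 1))⁻¹ = y * (y ^ m * x ^ k * (y ^ m)⁻¹) * y⁻¹ := by
          rw [pow_succ']; group
      _ = (y * x * y⁻¹) ^ (k * r ^ m) := by rw [ih, conj_pow]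
      _ = _ := by rw [hy, ← pow_mul]; congr 1; ring

/-- Every automorphism is, up to an inner one, normalised on `x` and `y`. -/
theorem aut_normalise [Finite G] {p : ℕ} (hp : p.Prime) (hG : ¬ p ^ 2 ∣ Nat.card G) {x y : G}
    (hx : orderOf x = p) (hC : ∀ c, Commute c x → c ∈ Subgroup.zpowers x) {r : ℕ}
    (hy : y * x * y⁻¹ = x ^ r) (hr : ¬ r ≡ 1 [MOD p]) {Ks : List ℕ}
    (hK : ∀ k, 0 < k → k < p → ∃ m, ∃ k0 ∈ Ks, k * r ^ m ≡ k0 [MOD p]) (α : MulAut G) :
    ∃ g : G, ∃ k ∈ Ks, (MulAut.conj g * α) x = x ^ k ∧ (MulAut.conj g * α) y = y := by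
  haveI := Fact.mk hp
  obtain ⟨g, k, hk0, hkp, hg⟩ := exists_conj_pow hp hG hx (z := α x) (by rw [α.orderOf_eq, hx])
  obtain ⟨m, k0, hk0', hm⟩ := hK k hk0 hkp
  set β := MulAut.conj (y ^ m * g) * α with hβ
  have hβx : β x = x ^ k0 := by
    have : β x = y ^ m * (g * α x * g⁻¹) * (y ^ m)⁻¹ := by
      simp only [hβ, MulAut.mul_apply, MulAut.conj_apply]; group
    rw [this, hg, conj_pow_iter hy, pow_eq_pow_iff_modEq, hx]; exact hm
  have hxk : x ∈ Subgroup.zpowers (x ^ k0) := by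
    have h1 : orderOf (x ^ k0) = p := by rw [← hβx, β.orderOf_eq, hx]
    have h2 : Subgroup.zpowers (x ^ k0) = Subgroup.zpowers x :=
      Subgroup.eq_of_le_of_card_ge (by simp) (by rw [Nat.card_zpowers, Nat.card_zpowers, h1, hx])
    rw [h2]; exact Subgroup.mem_zpowers x
  have hc : Commute (β y * y⁻¹) x := by
    have h1 : β y * x ^ k0 * (β y)⁻¹ = (x ^ k0) ^ r := by
      have := congrArg β hy
      rwa [map_mul, map_mul, map_inv, map_pow, hβx] at this
    have h2 : y * x ^ k0 * y⁻¹ = (x ^ k0) ^ r := by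
      rw [← conj_pow, hy, ← pow_mul, ← pow_mul, mul_comm r]
    have h3 : Commute (y⁻¹ * β y) (x ^ k0) := by
      have : y⁻¹ * β y * x ^ k0 * (y⁻¹ * β y)⁻¹ = x ^ k0 := by
        calc _ = y⁻¹ * (β y * x ^ k0 * (β y)⁻¹) * y := by group
          _ = _ := by rw [h1, ← h2]; group
      exact mul_inv_eq_iff_eq_mul.1 this
    obtain ⟨n, hn⟩ := hxk
    have h4 : Commute (y⁻¹ * β y) x := by rw [← hn]; exact h3.zpow_right n
    obtain ⟨l, hl⟩ := hC _ h4
    have : β y * y⁻¹ = y * x ^ l * y⁻¹ := by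
      have hl' : x ^ l = y⁻¹ * β y := hl
      rw [hl']; group
    rw [this, ← conj_zpow, hy]
    exact ((Commute.refl x).pow_left r).zpow_left l
  obtain ⟨i, hi⟩ := hC _ hc
  have hi' : β y = x ^ i * y := by
    have : x ^ i = β y * y⁻¹ := hi
    rw [this]; group
  -- solve j * (r - 1) = i modulo p
  have hu : ((r : ZMod p) - 1) ≠ 0 := by
    intro h
    apply hr
    rw [← ZMod.natCast_eq_natCast_iff, Nat.cast_one]; exact sub_eq_zero.1 h
  obtain ⟨j, hj⟩ := ZMod.intCast_surjective ((i : ZMod p) * ((r : ZMod p) - 1)⁻¹)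
  have hj' : x ^ (j * r) = x ^ (j + i) := by
    rw [zpow_eq_zpow_iff_modEq, hx, ← ZMod.intCast_eq_intCast_iff]
    push_cast
    rw [hj]; field_simp; ring
  refine ⟨x ^ j * (y ^ m * g), k0, hk0', ?_, ?_⟩
  · rw [map_mul, mul_assoc, ← hβ, MulAut.mul_apply, hβx, MulAut.conj_apply]; group
  · rw [map_mul, mul_assoc, ← hβ, MulAut.mul_apply, hi', MulAut.conj_apply]
    have h5 : y * x ^ j * y⁻¹ = x ^ (j * r) := by
      rw [← conj_zpow, hy, ← zpow_natCast, ← zpow_mul, mul_comm (r : ℤ)]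
    calc x ^ j * (x ^ i * y) * (x ^ j)⁻¹ = x ^ (j + i) * (y * x ^ j * y⁻¹)⁻¹ * y := by group
      _ = y := by rw [h5, hj']; group

/-- The image of an element normalising a fixed cyclic group. -/
theorem aut_third {α : MulAut G} {u u' w : G} (hu : α u = u) (hu' : α u' = u')
    (hw : w * u * w⁻¹ = u') : Commute (w⁻¹ * α w) u := by
  have h1 : α w * u * (α w)⁻¹ = u' := by
    have := congrArg α hw
    rwa [map_mul, map_mul, map_inv, hu, hu'] at this
  have : w⁻¹ * α w * u * (w⁻¹ * α w)⁻¹ = u := by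
    calc _ = w⁻¹ * (α w * u * (α w)⁻¹) * w := by group
      _ = _ := by rw [h1, ← hw]; group
  exact mul_inv_eq_iff_eq_mul.1 this

theorem card_out_eq_one (h : ∀ α : MulAut G, ∃ g, MulAut.conj g * α = 1) :
    Nat.card (Cfsg.Out G) = 1 := by
  rw [Nat.card_eq_one_iff_unique]
  refine ⟨⟨fun a b => ?_⟩, ⟨1⟩⟩
  have : ∀ a : Cfsg.Out G, a = 1 := by
    intro a
    induction a using QuotientGroup.induction_on with
    | H α =>
      obtain ⟨g, hg⟩ := h α
      rw [QuotientGroup.eq_one_iff]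
      exact ⟨g⁻¹, by rw [map_inv]; exact inv_eq_of_mul_eq_one_right hg⟩
  rw [this a, this b]

theorem card_out_eq_two {β : MulAut G} (hβ : ∀ g, MulAut.conj g ≠ β)
    (h : ∀ α : MulAut G, ∃ g, MulAut.conj g * α = 1 ∨ MulAut.conj g * α = β) :
    Nat.card (Cfsg.Out G) = 2 := by
  rw [Nat.card_eq_two_iff' (1 : Cfsg.Out G)]
  refine ⟨(β : Cfsg.Out G), fun e => ?_, fun a ha => ?_⟩
  · obtain ⟨g, hg⟩ := (QuotientGroup.eq_one_iff β).1 e
    exact hβ g hg
  · induction a using QuotientGroup.induction_on with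
    | H α =>
      obtain ⟨g, hg⟩ := h α
      have h1 : ((MulAut.conj g : MulAut G) : Cfsg.Out G) = 1 :=
        (QuotientGroup.eq_one_iff _).2 ⟨g, rfl⟩
      have h2 : ((MulAut.conj g * α : MulAut G) : Cfsg.Out G) = α := by
        rw [QuotientGroup.mk_mul, h1, one_mul]
      rcases hg with hg | hg
      · exact absurd (by rw [← h2, hg]; rfl) ha
      · rw [← h2, hg]

end Cfsg.Agent.CGT
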