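import Cfsg.Agent.CGT.Search
import Cfsg.Agent.CGT.OutAbs

set_option autoImplicit false
set_option linter.style.haveILetI false

/-! Certificates for the outer automorphism group. -/

namespace Cfsg.Agent.CGT

open Equiv

variable {G : Type*} [Group G]

/-- Concatenation, for the kernel. -/
noncomputable def app (u v : List ℕ) : List ℕ := List.rec v (fun a _ ih => a :: ih) u

theorem ev_app (g : ℕ → G) (u v : List ℕ) : ev g (app u v) = ev g u * ev g v := by
  induction u with
  | nil => exact (one_mul _).symm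
  | cons a u ih =>
    show ev g (a :: app u v) = _
    rw [ev_cons, ev_cons, ih, mul_assoc]

/-- A power of a word. -/
noncomputable def pw (w : List ℕ) (n : ℕ) : List ℕ := Nat.rec [] (fun _ ih => app w ih) n

theorem ev_pw (g : ℕ → G) (w : List ℕ) (n : ℕ) : ev g (pw w n) = ev g w ^ n := by
  induction n with
  | zero => simp [pw]
  | succ n ih =>
    show ev g (app w (pw w n)) = _
    rw [ev_app, ih, pow_succ']

theorem map_ev_wg {γ : ℕ → G} {W : List (List ℕ)} {F : Type*} [FunLike F G G] [MonoidHomClass F G G]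
    {β : F} (h : ∀ j, β (γ j) = wg γ W j) (u : List ℕ) :
    β (ev (ext γ) u) = ev (ext γ) (expand (dbl W) u) := by
  rw [ev_expand_dbl, map_ev]
  congr 1
  funext a
  obtain ⟨j, rfl | rfl⟩ := Nat.even_or_odd' a
  · rw [ext_two_mul, ext_two_mul, h]
  · rw [ext_two_mul_add_one, ext_two_mul_add_one, map_inv, h]

/-- The centraliser of `u` is covered by a list modulo the powers of `u`. -/
def Cent (γ : ℕ → G) (u : List ℕ) (Cl : List (List ℕ)) (n : ℕ) : Prop :=
  ∀ c : G, Commute c (ev (ext γ) u) →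
    ∃ i ≤ n, ∃ j, c = ev (ext γ) (nth [] Cl j) * ev (ext γ) u ^ i

theorem Cent.of_found {φ : G →* Perm ℕ} {γ : ℕ → G} {ns : List Net} {S : Srch}
    (M : Model φ γ S.k ns S.ts) {l : Level} {ls : List Level}
    (hx : ChainExact φ ⊤ S.k [] (l :: ls)) (hu : S.u' = S.u) {R n : ℕ}
    (h : S.Found φ γ ⊤ [] l.b R)
    (hO : Nat.beq (Nat.land l.O (Srch.cover ns (invW S.u') R n)) l.O = true) :
    Cent γ S.u S.Cl n := fun c hc =>
  h.all M (by rw [St_nil]; trivial) hO (by rw [St_nil]; trivial) (by rw [hu]; exact hc)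
    (hx.1.2 c (by rw [St_nil]; trivial))

/-- The version for a base point fixed by `u`. -/
theorem Cent.of_found_fix {φ : G →* Perm ℕ} {γ : ℕ → G} {ns : List Net} {S : Srch}
    (M : Model φ γ S.k ns S.ts) {l : Level} {ls : List Level}
    (hx : ChainExact φ ⊤ S.k [] (l :: ls)) (hu : S.u' = S.u) {R : ℕ}
    (h : S.Found φ γ ⊤ [] l.b R) (hb : fixesB S.k S.ts S.u [l.b] = true)
    (hO : Nat.beq (Nat.land l.O (Nat.lor R (movedM S.k ns S.u))) l.O = true) :
    Cent γ S.u S.Cl 0 := fun c hc => by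
  have h0 : c ∈ St φ ⊤ [] := by rw [St_nil]; trivial
  have h1 := hx.1.2 c h0
  have h2 := fixesB_sound M (ptsOK_cons hx.1.1 rfl) hb l.b (by simp)
  have h3 : φ (ev (ext γ) S.u) (φ c l.b) = φ c l.b := by
    rw [← Perm.mul_apply, ← map_mul, ← hc.eq, map_mul, Perm.mul_apply, h2]
  rw [← Nat.eq_of_beq_eq_true hO, land_eq, lor_eq, Nat.testBit_and, Nat.testBit_or,
    movedM_sound M _ h3, Bool.or_false, Bool.and_eq_true] at h1
  obtain ⟨j, hj⟩ := h c h0 (by rw [hu]; exact hc) h1.2
  exact ⟨0, le_rfl, j, by simpa using hj⟩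

theorem Cent.zpowers {γ : ℕ → G} {u : List ℕ} {n : ℕ} (h : Cent γ u [] n) (c : G)
    (hc : Commute c (ev (ext γ) u)) : c ∈ Subgroup.zpowers (ev (ext γ) u) := by
  obtain ⟨i, -, j, rfl⟩ := h c hc
  show ev (ext γ) [] * _ ∈ _
  simp

/-- The data. -/
structure OutD where
  k : ℕ
  ts : List Tab
  B : List ℕ
  x : List ℕ
  y : List ℕ
  w : List ℕ
  u : List ℕ
  p : ℕ
  r : ℕ
  j : ℕ
  j' : ℕ
  n : ℕ
  Ks : List ℕ
  Cl : List (List ℕ)
  rels : List (List ℕ)
  tg : List (List (List ℕ))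

namespace OutD

variable (D : OutD)

/-- The basic relations. -/
noncomputable def basic (N q : ℕ) : Bool :=
  ptsOK D.k D.B && (!(Nat.beq (Nat.mod N (Nat.mul D.p D.p)) 0) &&
  (fixesB D.k D.ts (pw D.x D.p) D.B && (movesD D.k D.ts [D.x] q [0] &&
  (eqB D.k D.ts D.B (app D.y D.x) (app (pw D.x D.r) D.y) &&
  (!(Nat.beq (Nat.mod D.r D.p) (Nat.mod 1 D.p)) &&
  ((allLt D.p fun k => Nat.beq k 0 || !(allLt D.p fun m =>
    !(memL (Nat.mod (Nat.mul k (Nat.pow D.r m)) D.p) D.Ks))) &&
  (eqB D.k D.ts D.B D.u (pw D.y D.j) &&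
  (eqB D.k D.ts D.B (app D.w D.u) (app (pw D.y D.j') D.w) &&
  relsD D.k D.ts [D.x, D.y, D.w] D.B D.rels))))))))

/-- The test of one candidate. -/
noncomputable def cand (k : ℕ) (c : List ℕ) (i e : ℕ) : Bool :=
  (fun X Z t => Bool.rec
    (movesD D.k D.ts (dbl [X, D.y, Z]) (Nat.shiftRight t 6) (nth [] D.rels (Nat.land t 63)))
    (Nat.blt t D.tg.length && (eqB D.k D.ts D.B X (nth [] (nth [] D.tg t) 0) &&
      (eqB D.k D.ts D.B D.y (nth [] (nth [] D.tg t) 1) && eqB D.k D.ts D.B Z (nth [] (nth [] D.tg t) 2))))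
    (Nat.beq (Nat.land e 1) 0))
    (pw D.x k) (app D.w (app c (pw D.u i))) (Nat.shiftRight e 1)

/-- The test of all candidates with a given exponent and given representatives. -/
noncomputable def cands (k : ℕ) (Cl : List (List ℕ)) (es : List (List ℕ)) : Bool :=
  List.rec (motive := fun _ => List (List ℕ) → Bool) (fun _ => true)
    (fun c _ ih es => List.rec false (fun e es' _ =>
      (allLt (Nat.succ D.n) fun i => D.cand k c i (nth 0 e i)) && ih es') es) Cl es

/-- What the test proves. -/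
def Done (γ : ℕ → G) (k : ℕ) (c : List ℕ) : Prop :=
  ∀ i ≤ D.n, ∀ α : MulAut G, α (ev (ext γ) D.x) = ev (ext γ) D.x ^ k →
    α (ev (ext γ) D.y) = ev (ext γ) D.y →
    α (ev (ext γ) D.w) = ev (ext γ) D.w * (ev (ext γ) c * ev (ext γ) D.u ^ i) →
    ∃ t < D.tg.length, α (ev (ext γ) D.x) = ev (ext γ) (nth [] (nth [] D.tg t) 0) ∧
      α (ev (ext γ) D.y) = ev (ext γ) (nth [] (nth [] D.tg t) 1) ∧
      α (ev (ext γ) D.w) = ev (ext γ) (nth [] (nth [] D.tg t) 2)

variable {D} {φ : G →* Perm ℕ} {γ : ℕ → G} {ns : List Net}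

theorem cands_sound (M : Model φ γ D.k ns D.ts) (hB : IsBase φ ⊤ D.B) {N q : ℕ}
    (hb : D.basic N q = true) {k : ℕ} {Cl es : List (List ℕ)} (h : D.cands k Cl es = true) :
    ∀ c ∈ Cl, D.Done γ k c := by
  unfold basic at hb
  simp only [Bool.and_eq_true] at hb
  have hp := hb.1
  have hR := relsD_sound M hB hp (fun _ _ => trivial) hb.2.2.2.2.2.2.2.2.2
  induction Cl generalizing es with
  | nil => simp
  | cons c Cl ih =>
    rcases es with _ | ⟨e, es⟩
    · exact absurd h (by simp [cands])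
    have h' : ((allLt (Nat.succ D.n) fun i => D.cand k c i (nth 0 e i)) && D.cands k Cl es) = true := h
    rw [Bool.and_eq_true] at h'
    intro c' hc'
    rcases List.mem_cons.1 hc' with rfl | hc'
    swap
    · exact ih h'.2 c' hc'
    intro i hi α h1 h2 h3
    have h4 := allLt_iff.1 h'.1 i (by omega)
    unfold cand at h4
    generalize nth 0 e i = e' at h4
    rw [← ev_pw] at h1
    rw [← ev_pw, ← ev_app, ← ev_app] at h3
    generalize Nat.shiftRight e' 1 = t at h4
    cases h5 : Nat.beq (Nat.land e' 1) 0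
    · rw [h5] at h4
      exfalso
      refine movesD_sound M h4 ?_
      have h6 := congrArg α (Enum.holds_nth hR (Nat.land t 63))
      rw [map_one, map_ev] at h6
      rw [der_dbl, ← h6]
      congr 1
      funext a
      have : ∀ j, α (wg γ [D.x, D.y, D.w] j) =
          wg γ [pw D.x k, D.y, app D.w (app c' (pw D.u i))] j := by
        intro j
        rcases j with _ | _ | _ | j
        · exact h1
        · exact h2
        · exact h3
        · exact map_one α
      obtain ⟨j, rfl | rfl⟩ := Nat.even_or_odd' a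
      · rw [ext_two_mul, ext_two_mul, this]
      · rw [ext_two_mul_add_one, ext_two_mul_add_one, map_inv, this]
    · rw [h5] at h4
      simp only [Bool.and_eq_true, Nat.blt_eq] at h4
      exact ⟨t, h4.1, h1.trans (eqB_sound M hB hp trivial trivial h4.2.1),
        h2.trans (eqB_sound M hB hp trivial trivial h4.2.2.1),
        h3.trans (eqB_sound M hB hp trivial trivial h4.2.2.2)⟩

theorem main [Finite G] (M : Model φ γ D.k ns D.ts) (hB : IsBase φ ⊤ D.B) {N q : ℕ}
    (hN : Nat.card G = N) (hp : D.p.Prime) (hb : D.basic N q = true) {n : ℕ} (hx : Cent γ D.x [] n)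
    (hu : Cent γ D.u D.Cl D.n) (hd : ∀ k ∈ D.Ks, ∀ c ∈ [] :: D.Cl, D.Done γ k c) (α : MulAut G) :
    ∃ g : G, ∃ t < D.tg.length,
      (MulAut.conj g * α) (ev (ext γ) D.x) = ev (ext γ) (nth [] (nth [] D.tg t) 0) ∧
      (MulAut.conj g * α) (ev (ext γ) D.y) = ev (ext γ) (nth [] (nth [] D.tg t) 1) ∧
      (MulAut.conj g * α) (ev (ext γ) D.w) = ev (ext γ) (nth [] (nth [] D.tg t) 2) := by
  unfold basic at hb
  simp only [Bool.and_eq_true, Bool.not_eq_true'] at hb
  obtain ⟨h0, h1, h2, h3, h4, h5, h6, h7, h8, -⟩ := hb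
  haveI := Fact.mk hp
  have e1 : ¬ D.p ^ 2 ∣ Nat.card G := by
    rw [hN, sq]
    exact fun h => Nat.ne_of_beq_eq_false h1 (Nat.mod_eq_zero_of_dvd h)
  have e2 : orderOf (ev (ext γ) D.x) = D.p := by
    apply orderOf_eq_prime
    · rw [← ev_pw]; exact hB _ trivial (fixesB_sound M h0 h2)
    · have := movesD_sound M h3
      rwa [ev_singleton] at this
  have e3 := eqB_sound M hB h0 trivial trivial h4
  rw [ev_app, ev_app, ev_pw, ← mul_inv_eq_iff_eq_mul] at e3
  have e4 := eqB_sound M hB h0 trivial trivial h7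
  have e5 := eqB_sound M hB h0 trivial trivial h8
  rw [ev_pw] at e4
  rw [ev_app, ev_app, ev_pw, ← mul_inv_eq_iff_eq_mul] at e5
  obtain ⟨g, k, hk, f1, f2⟩ := aut_normalise hp e1 e2 hx.zpowers e3 (Nat.ne_of_beq_eq_false h5)
    (Ks := D.Ks) (fun k hk0 hk => by
      have := allLt_iff.1 h6 k hk
      simp only [Bool.or_eq_true, Nat.beq_eq, Bool.not_eq_true'] at this
      rcases this with h | h
      · omega
      · by_contra hc
        rw [allLt_iff.2] at h
        · simp at h
        · intro m _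
          cases hm : memL (Nat.mod (Nat.mul k (Nat.pow D.r m)) D.p) D.Ks
          · rfl
          · exact absurd ⟨m, _, memL_sound hm, (Nat.mod_modEq _ _).symm⟩ hc) α
  have f3 := aut_third (α := MulAut.conj g * α) (by rw [e4, map_pow, f2]) (by rw [map_pow, f2]) e5
  obtain ⟨i, hi, j, hj⟩ := hu _ f3
  refine ⟨g, hd k hk (nth [] D.Cl j) ?_ i hi _ f1 f2 (by rw [← hj]; group)⟩
  rcases Enum.nth_mem_or [] D.Cl j with h | h
  · rw [h]; exact List.mem_cons_self
  · exact List.mem_cons_of_mem _ h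

theorem aut_ext (hg : gw γ [D.x, D.y, D.w] = ⊤) {α β : MulAut G}
    (h1 : α (ev (ext γ) D.x) = β (ev (ext γ) D.x)) (h2 : α (ev (ext γ) D.y) = β (ev (ext γ) D.y))
    (h3 : α (ev (ext γ) D.w) = β (ev (ext γ) D.w)) : α = β := by
  have : gw γ [D.x, D.y, D.w] ≤ α.toMonoidHom.eqLocus β.toMonoidHom := gw_le fun u hu => by
    simp only [List.mem_cons, List.not_mem_nil, or_false] at hu
    rcases hu with rfl | rfl | rfl
    exacts [h1, h2, h3]
  ext z
  exact this (hg ▸ Subgroup.mem_top z)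

/-- Trivial outer automorphism group. -/
theorem out_one [Finite G] (M : Model φ γ D.k ns D.ts) (hB : IsBase φ ⊤ D.B) {N q : ℕ}
    (hN : Nat.card G = N) (hp : D.p.Prime) (hb : D.basic N q = true) {n : ℕ} (hx : Cent γ D.x [] n)
    (hu : Cent γ D.u D.Cl D.n) (hd : ∀ k ∈ D.Ks, ∀ c ∈ [] :: D.Cl, D.Done γ k c)
    (hg : gw γ [D.x, D.y, D.w] = ⊤) (ht : D.tg = [[D.x, D.y, D.w]]) : Nat.card (Cfsg.Out G) = 1 := by
  refine card_out_eq_one fun α => ?_
  obtain ⟨g, t, h0, h1, h2, h3⟩ := main M hB hN hp hb hx hu hd α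
  rw [ht] at h0 h1 h2 h3
  obtain rfl : t = 0 := by simpa using h0
  exact ⟨g, aut_ext hg h1 h2 h3⟩

variable (D)

/-- The second target is the automorphism given by the words `W` followed by conjugation. -/
noncomputable def second (W : List (List ℕ)) (g : List ℕ) (X Z : List ℕ) : Bool :=
  eqB D.k D.ts D.B (app g (expand (dbl W) D.x)) (app X g) &&
  (eqB D.k D.ts D.B (app g (expand (dbl W) D.y)) (app D.y g) &&
   eqB D.k D.ts D.B (app g (expand (dbl W) D.w)) (app Z g))

/-- No listed element induces the second target. -/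
noncomputable def outer (X Z : List ℕ) (Cl : List (List ℕ)) (es : List (List ℕ)) : Bool :=
  List.rec (motive := fun _ => List (List ℕ) → Bool) (fun _ => true)
    (fun c _ ih es => List.rec false (fun e es' _ =>
      (allLt (Nat.succ D.n) fun i => movesD D.k D.ts (dbl [app c (pw D.u i), D.x, X, D.w, Z])
        (Nat.shiftRight (nth 0 e i) 1)
        (Bool.rec [0, 2, 1, 5] [0, 6, 1, 9] (Nat.beq (Nat.land (nth 0 e i) 1) 0))) && ih es') es) Cl es

variable {D}

theorem outer_sound (M : Model φ γ D.k ns D.ts) {X Z : List ℕ} {Cl es : List (List ℕ)}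
    (h : D.outer X Z Cl es = true) : ∀ c ∈ Cl, ∀ i ≤ D.n,
      ¬ (MulAut.conj (ev (ext γ) c * ev (ext γ) D.u ^ i) (ev (ext γ) D.x) = ev (ext γ) X ∧
        MulAut.conj (ev (ext γ) c * ev (ext γ) D.u ^ i) (ev (ext γ) D.w) = ev (ext γ) Z) := by
  induction Cl generalizing es with
  | nil => simp
  | cons c Cl ih =>
    rcases es with _ | ⟨e, es⟩
    · exact absurd h (by simp [outer])
    have h' : ((allLt (Nat.succ D.n) fun i => movesD D.k D.ts (dbl [app c (pw D.u i), D.x, X, D.w, Z])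
        (Nat.shiftRight (nth 0 e i) 1)
        (Bool.rec [0, 2, 1, 5] [0, 6, 1, 9] (Nat.beq (Nat.land (nth 0 e i) 1) 0))) &&
        D.outer X Z Cl es) = true := h
    rw [Bool.and_eq_true] at h'
    intro c' hc'
    rcases List.mem_cons.1 hc' with rfl | hc'
    swap
    · exact ih h'.2 c' hc'
    intro i hi ⟨h1, h2⟩
    have h4 := movesD_sound M (allLt_iff.1 h'.1 i (by omega))
    rw [der_dbl] at h4
    rw [← ev_pw, ← ev_app, MulAut.conj_apply] at h1 h2
    apply h4
    cases Nat.beq (Nat.land (nth 0 e i) 1) 0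
    · show ev (ext γ) (app c' (pw D.u i)) * (ev (ext γ) D.x *
        ((ev (ext γ) (app c' (pw D.u i)))⁻¹ * ((ev (ext γ) X)⁻¹ * 1))) = 1
      rw [← h1]; group
    · show ev (ext γ) (app c' (pw D.u i)) * (ev (ext γ) D.w *
        ((ev (ext γ) (app c' (pw D.u i)))⁻¹ * ((ev (ext γ) Z)⁻¹ * 1))) = 1
      rw [← h2]; group

/-- Outer automorphism group of order two. -/
theorem out_two [Finite G] (M : Model φ γ D.k ns D.ts) (hB : IsBase φ ⊤ D.B) {N q : ℕ}
    (hN : Nat.card G = N) (hp : D.p.Prime) (hb : D.basic N q = true) {n : ℕ} (hx : Cent γ D.x [] n)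
    (hu : Cent γ D.u D.Cl D.n) (hd : ∀ k ∈ D.Ks, ∀ c ∈ [] :: D.Cl, D.Done γ k c)
    (hg : gw γ [D.x, D.y, D.w] = ⊤) {X Z : List ℕ} (ht : D.tg = [[D.x, D.y, D.w], [X, D.y, Z]])
    (β : MulAut G) {W : List (List ℕ)} (hβ : ∀ j, β (γ j) = wg γ W j) {g : List ℕ}
    (h2 : D.second W g X Z = true) {es : List (List ℕ)} (ho : D.outer X Z ([] :: D.Cl) es = true) :
    Nat.card (Cfsg.Out G) = 2 := by
  have hb' := hb
  unfold basic at hb'
  simp only [Bool.and_eq_true] at hb'
  have h0 := hb'.1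
  have e4 := eqB_sound M hB h0 trivial trivial hb'.2.2.2.2.2.2.2.1
  rw [ev_pw] at e4
  unfold second at h2
  simp only [Bool.and_eq_true] at h2
  have key : ∀ {a b : List ℕ}, eqB D.k D.ts D.B (app g (expand (dbl W) a)) (app b g) = true →
      (MulAut.conj (ev (ext γ) g) * β) (ev (ext γ) a) = ev (ext γ) b := by
    intro a b h
    have := eqB_sound M hB h0 trivial trivial h
    rw [ev_app, ev_app, ← map_ev_wg hβ] at this
    rw [MulAut.mul_apply, MulAut.conj_apply, this]; group
  have f1 := key h2.1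
  have f2 := key h2.2.1
  have f3 := key h2.2.2
  refine card_out_eq_two (β := MulAut.conj (ev (ext γ) g) * β) (fun h e => ?_) fun α => ?_
  · rw [← e] at f1 f2 f3
    have : Commute h (ev (ext γ) D.u) := by
      rw [e4]; exact Commute.pow_right (mul_inv_eq_iff_eq_mul.1 f2) _
    obtain ⟨i, hi, j, rfl⟩ := hu _ this
    refine outer_sound M ho (nth [] D.Cl j) ?_ i hi ⟨f1, f3⟩
    rcases Enum.nth_mem_or [] D.Cl j with h | h
    · rw [h]; exact List.mem_cons_self
    · exact List.mem_cons_of_mem _ h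
  · obtain ⟨g', t, h0, h1, h2, h3⟩ := main M hB hN hp hb hx hu hd α
    rw [ht] at h0 h1 h2 h3
    refine ⟨g', ?_⟩
    rcases t with _ | _ | t
    · exact Or.inl (aut_ext hg h1 h2 h3)
    · exact Or.inr (aut_ext hg (h1.trans f1.symm) (h2.trans f2.symm) (h3.trans f3.symm))
    · simp at h0

end OutD

/-- An involutory endomorphism given by words is an automorphism. -/
theorem exists_aut {φ : G →* Perm ℕ} {γ : ℕ → G} {k : ℕ} {ns : List Net} {ts : List Tab}
    (M : Model φ γ k ns ts) {B : List ℕ} (hB : IsBase φ ⊤ B) (hp : ptsOK k B = true) {L : List ℕ}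
    (hL : gp γ L = ⊤) {W : List (List ℕ)} (f : G →* G) (hf : ∀ j, f (γ j) = wg γ W j)
    (h : (allL L fun a => eqB k ts B (expand (dbl W) (nth [] (dbl W) a)) [a]) = true) :
    ∃ β : MulAut G, ∀ j, β (γ j) = wg γ W j := by
  have : ∀ z, f (f z) = z := by
    have h1 : gp γ L ≤ (f.comp f).eqLocus (MonoidHom.id G) := gp_le fun a ha => by
      have := eqB_sound M hB hp trivial trivial (allL_iff.1 h a ha)
      rw [← map_ev_wg hf, ev_singleton] at this
      show f (f (ext γ a)) = ext γ a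
      rw [← ev_singleton (ext γ) a, map_ev_wg hf [a], ev_expand, ev_singleton, der, this, ev_singleton]
    exact fun z => h1 (hL ▸ Subgroup.mem_top z)
  exact ⟨MonoidHom.toMulEquiv f f (MonoidHom.ext this) (MonoidHom.ext this), hf⟩

end Cfsg.Agent.CGT
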