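import Cfsg.Agent.CGT.Out

set_option autoImplicit false

/-! Transport of centraliser lists along conjugation. -/

namespace Cfsg.Agent.CGT

open Equiv

variable {G : Type*} [Group G]

/-- `g u = u' g`, and `g c = c' g` for the entries of the two lists. -/
noncomputable def conjB (k : ℕ) (ts : List Tab) (B g u u' : List ℕ) (Cl Cl' : List (List ℕ)) : Bool :=
  ptsOK k B && (eqB k ts B (app g u) (app u' g) && (Nat.beq Cl.length Cl'.length &&
    allLt Cl.length fun j => eqB k ts B (app g (nth [] Cl j)) (app (nth [] Cl' j) g)))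

theorem Cent.conj {φ : G →* Perm ℕ} {γ : ℕ → G} {k : ℕ} {ns : List Net} {ts : List Tab}
    (M : Model φ γ k ns ts) {B : List ℕ} (hB : IsBase φ ⊤ B) {g u u' : List ℕ}
    {Cl Cl' : List (List ℕ)} {n : ℕ} (h : Cent γ u' Cl' n) (hc : conjB k ts B g u u' Cl Cl' = true) :
    Cent γ u Cl n := by
  unfold conjB at hc
  simp only [Bool.and_eq_true, Nat.beq_eq] at hc
  obtain ⟨hp, h1, h2, h3⟩ := hc
  have e1 := eqB_sound M hB hp trivial trivial h1
  rw [ev_app, ev_app, ← mul_inv_eq_iff_eq_mul] at e1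
  intro c hc
  have hc' : Commute (ev (ext γ) g * c * (ev (ext γ) g)⁻¹) (ev (ext γ) u') := by
    rw [← e1]; exact hc.map (MulAut.conj (ev (ext γ) g))
  obtain ⟨i, hi, j, e⟩ := h _ hc'
  refine ⟨i, hi, j, ?_⟩
  have e2 : ev (ext γ) g * ev (ext γ) (nth [] Cl j) * (ev (ext γ) g)⁻¹ = ev (ext γ) (nth [] Cl' j) := by
    by_cases hj : j < Cl.length
    · have := eqB_sound M hB hp trivial trivial (allLt_iff.1 h3 j hj)
      rwa [ev_app, ev_app, ← mul_inv_eq_iff_eq_mul] at this
    · rw [nth_eq, nth_eq, List.getD_eq_default _ _ (by omega), List.getD_eq_default _ _ (by omega)]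
      simp
  rw [← e1, ← e2, conj_pow] at e
  calc c = (ev (ext γ) g)⁻¹ * (ev (ext γ) g * c * (ev (ext γ) g)⁻¹) * ev (ext γ) g := by group
    _ = _ := by rw [e]; group

theorem forall_mem_of_append {α : Type} {p : α → Prop} {l l₁ l₂ : List α} (e : l = l₁ ++ l₂)
    (h : ∀ a ∈ l₁, p a) (h' : ∀ a ∈ l₂, p a) : ∀ a ∈ l, p a := e ▸ forall_mem_append' h h'

end Cfsg.Agent.CGT
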