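import Cfsg.Agent.CGT.SeqTC
import Cfsg.Prelude.Def_SporCoxeter

set_option autoImplicit false

/-! Groups given by a Coxeter graph and further relators, in terms of words of letter codes. -/

namespace Cfsg.Agent.CGT

open Cfsg.Spor

variable {α : Type} [DecidableEq α] {X : Type*} [Group X]

/-- An element of the free group as a word of letter codes. -/
def fgW (gens : List α) (r : FreeGroup α) : List ℕ :=
  r.toWord.map fun p => if p.2 then 2 * gens.idxOf p.1 else 2 * gens.idxOf p.1 + 1

theorem ev_fgW (gens : List α) (p : ℕ → X) (f : FreeGroup α →* X)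
    (hf : ∀ x, f (FreeGroup.of x) = p (gens.idxOf x)) (r : FreeGroup α) :
    ev (ext p) (fgW gens r) = f r := by
  conv_rhs => rw [← FreeGroup.mk_toWord (x := r)]
  unfold fgW
  induction r.toWord with
  | nil => exact (map_one f).symm
  | cons a l ih =>
    obtain ⟨x, b⟩ := a
    rw [List.map_cons, ev_cons, ih, show FreeGroup.mk ((x, b) :: l) =
      FreeGroup.mk [(x, b)] * FreeGroup.mk l from rfl, map_mul]
    congr 1
    cases b
    · rw [if_neg (by simp), ext_two_mul_add_one, ← hf, ← map_inv]; rfl
    · rw [if_pos rfl, ext_two_mul, ← hf]; rfl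

/-- Replace inverses of involutions. -/
noncomputable def nrm (I : List ℕ) (w : List ℕ) : List ℕ :=
  List.rec [] (fun a _ ih => Bool.rec a (Nat.xor a 1) (memL (Nat.xor a 1) I) :: ih) w

theorem ev_nrm {γ : ℕ → X} {I : List ℕ} (hI : ∀ a ∈ I, ext γ a * ext γ a = 1) (w : List ℕ) :
    ev (ext γ) (nrm I w) = ev (ext γ) w := by
  induction w with
  | nil => rfl
  | cons a w ih =>
    show ev (ext γ) (Bool.rec a (Nat.xor a 1) (memL (Nat.xor a 1) I) :: nrm I w) = _
    rw [ev_cons, ev_cons, ih]
    congr 1
    cases hb : memL (Nat.xor a 1) I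
    · rfl
    · have := hI _ (memL_sound hb)
      show ext γ (a ^^^ 1) = _
      rw [xor_eq, ext_xor_one, ← mul_inv_rev, inv_eq_one] at this
      rw [ext_xor_one]; exact (eq_inv_of_mul_eq_one_left this).symm

/-- The codes of the nodes. -/
def coxI (gens : List α) (edges : List (α × ℕ × α)) : List ℕ :=
  (coxNodes edges).map fun x => 2 * gens.idxOf x

/-- The Coxeter relators. -/
def coxR (gens : List α) (edges : List (α × ℕ × α)) : List (List ℕ) :=
  (coxNodes edges).dedup.flatMap fun x => (coxNodes edges).dedup.map fun y =>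
    (List.replicate (coxLabel edges x y) [2 * gens.idxOf x, 2 * gens.idxOf y]).flatten

/-- All defining relators. -/
noncomputable def defR (gens : List α) (edges : List (α × ℕ × α)) (extra : List (FreeGroup α)) :
    List (List ℕ) :=
  coxR gens edges ++ extra.map fun e => red (coxI gens edges) (nrm (coxI gens edges) (fgW gens e))

theorem holds_coxR_iff {gens : List α} {edges : List (α × ℕ × α)} {p : ℕ → X} :
    Holds (ext p) (coxR gens edges) ↔ ∀ x ∈ coxNodes edges, ∀ y ∈ coxNodes edges,
      (p (gens.idxOf x) * p (gens.idxOf y)) ^ coxLabel edges x y = 1 := by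
  simp only [Holds, coxR, List.mem_flatMap, List.mem_map, List.mem_dedup]
  constructor
  · intro h x hx y hy
    have := h _ ⟨x, hx, y, hy, rfl⟩
    simpa [ev_replicate_flatten, ext_two_mul] using this
  · rintro h _ ⟨x, hx, y, hy, rfl⟩
    simpa [ev_replicate_flatten, ext_two_mul] using h x hx y hy

theorem coxI_invol {gens : List α} {edges : List (α × ℕ × α)} {p : ℕ → X}
    (h : Holds (ext p) (coxR gens edges)) : ∀ a ∈ coxI gens edges, ext p a * ext p a = 1 := by
  intro a ha
  obtain ⟨x, hx, rfl⟩ := List.mem_map.1 ha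
  have := holds_coxR_iff.1 h x hx x hx
  rwa [coxLabel, if_pos rfl, pow_one, ← ext_two_mul p] at this

theorem holds_defR_iff {gens : List α} {edges : List (α × ℕ × α)} {extra : List (FreeGroup α)}
    {p : ℕ → X} (f : FreeGroup α →* X) (hf : ∀ x, f (FreeGroup.of x) = p (gens.idxOf x)) :
    Holds (ext p) (defR gens edges extra) ↔
      ∀ r ∈ coxRelators edges ∪ {r | r ∈ extra}, f r = 1 := by
  have h1 : Holds (ext p) (coxR gens edges) ↔ ∀ r ∈ coxRelators edges, f r = 1 := by
    rw [holds_coxR_iff]
    constructor
    · rintro h _ ⟨x, hx, y, hy, rfl⟩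
      rw [map_pow, map_mul, hf, hf]; exact h x hx y hy
    · intro h x hx y hy
      have := h _ ⟨x, hx, y, hy, rfl⟩
      rwa [map_pow, map_mul, hf, hf] at this
  unfold defR Holds at *
  rw [List.forall_mem_append, h1]
  constructor
  · rintro ⟨h2, h3⟩ r (hr | hr)
    · exact h2 r hr
    · have hI := coxI_invol (h1.2 h2)
      have := h3 _ (List.mem_map.2 ⟨r, hr, rfl⟩)
      rwa [ev_red hI, ev_nrm hI, ev_fgW gens p f hf] at this
  · intro h
    have h2 : ∀ r ∈ coxRelators edges, f r = 1 := fun r hr => h r (Or.inl hr)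
    refine ⟨h2, fun r hr => ?_⟩
    obtain ⟨e, he, rfl⟩ := List.mem_map.1 hr
    have hI := coxI_invol (h1.2 h2)
    rw [ev_red hI, ev_nrm hI, ev_fgW gens p f hf]
    exact h e (Or.inr he)

/-- The generators of the presented group. -/
def pγ (gens : List α) (edges : List (α × ℕ × α)) (extra : List (FreeGroup α)) (j : ℕ) :
    CoxPresented α edges extra :=
  match gens[j]? with
  | some x => PresentedGroup.of x
  | none => 1

theorem pγ_idxOf {gens : List α} (hg : ∀ x, x ∈ gens) (edges : List (α × ℕ × α))
    (extra : List (FreeGroup α)) (x : α) :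
    pγ gens edges extra (gens.idxOf x) = PresentedGroup.of x := by
  rw [pγ, List.getElem?_idxOf (hg x)]

theorem pres_holds {gens : List α} (hg : ∀ x, x ∈ gens) (edges : List (α × ℕ × α))
    (extra : List (FreeGroup α)) : Holds (ext (pγ gens edges extra)) (defR gens edges extra) :=
  (holds_defR_iff (PresentedGroup.mk _) fun x => (pγ_idxOf hg edges extra x).symm).2
    fun _ hr => PresentedGroup.one_of_mem hr

theorem pres_gen {gens : List α} (hg : ∀ x, x ∈ gens) (edges : List (α × ℕ × α))
    (extra : List (FreeGroup α)) {L : List ℕ}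
    (hL : (allLt gens.length fun j => memL (Nat.mul 2 j) L) = true) :
    gp (pγ gens edges extra) L = ⊤ := by
  rw [eq_top_iff, ← PresentedGroup.closure_range_of, Subgroup.closure_le]
  rintro _ ⟨x, rfl⟩
  have := ext_mem_gp (pγ gens edges extra)
    (memL_sound (allLt_iff.1 hL _ (List.idxOf_lt_length_of_mem (hg x))))
  rwa [show Nat.mul 2 (gens.idxOf x) = 2 * gens.idxOf x from rfl, ext_two_mul, pγ_idxOf hg] at this

theorem pres_lift {gens : List α} (hg : ∀ x, x ∈ gens) (hn : gens.Nodup)
    {edges : List (α × ℕ × α)} {extra : List (FreeGroup α)} {p : ℕ → X}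
    (hp : ∀ j, gens.length ≤ j → p j = 1) (h : Holds (ext p) (defR gens edges extra)) :
    ∃ φ : CoxPresented α edges extra →* X, ∀ j, φ (pγ gens edges extra j) = p j := by
  have := (holds_defR_iff (FreeGroup.lift fun x => p (gens.idxOf x)) (by simp)).1 h
  refine ⟨PresentedGroup.toGroup this, fun j => ?_⟩
  by_cases hj : j < gens.length
  · have e : gens.idxOf gens[j] = j := hn.idxOf_getElem j hj
    conv_lhs => rw [← e, pγ_idxOf hg]
    rw [PresentedGroup.toGroup.of, e]
  · rw [pγ, List.getElem?_eq_none (by omega), hp j (by omega)]; exact map_one _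

/-- Every word of `D` is in `R`, up to a rotation by one letter. -/
noncomputable def subR (R D : List (List ℕ)) : Bool :=
  allL D fun z => memLL z R || memLL (List.drop 1 z ++ List.take 1 z) R

theorem Holds.subR {g : ℕ → X} {R D : List (List ℕ)} (h : Holds g R) (hs : subR R D = true) :
    Holds g D := fun z hz => by
  have := allL_iff.1 hs z hz
  rw [Bool.or_eq_true] at this
  rcases this with h1 | h1
  · exact h _ (memLL_sound h1)
  · have h2 := h _ (memLL_sound h1)
    rw [ev_append, mul_eq_one_comm, ← ev_append, List.take_append_drop] at h2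
    exact h2

theorem netPerm_of_le (ns : List Net) {j : ℕ} (hj : ns.length ≤ j) : netPerm ns j = 1 := by
  rw [netPerm, nth_eq, List.getD_eq_default _ _ hj]; rfl

/-- The action of the presented group given by networks. -/
theorem pres_perm {gens : List α} (hg : ∀ x, x ∈ gens) (hn : gens.Nodup)
    {edges : List (α × ℕ × α)} {extra : List (FreeGroup α)} {ns : List Net}
    (hl : ns.length = gens.length) {R : List (List ℕ)} (h : Holds (lp ns) R)
    (hs : subR R (defR gens edges extra) = true) :
    ∃ φ : CoxPresented α edges extra →* Equiv.Perm ℕ,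
      ∀ j, φ (pγ gens edges extra j) = netPerm ns j :=
  pres_lift hg hn (fun _ hj => netPerm_of_le ns (hl ▸ hj)) (h.subR hs)

end Cfsg.Agent.CGT
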