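import Cfsg.Agent.CGT.Act

set_option autoImplicit false
set_option linter.style.haveILetI false

/-! Backtrack search for the elements `c` with `c u = u' c`; orbits by tables; straight line
programs. -/

namespace Cfsg.Agent.CGT

open Equiv

variable {G : Type*} [Group G]

/-- Search trees. -/
inductive Tr : Type
  | nil : Tr
  | leaf (i : ℕ) : Tr
  | cons (w : List ℕ) (child sib : Tr) : Tr

/-- Apply the inverse of a word in derived letters. -/
noncomputable def apDI (k M : ℕ) (ts : List Tab) (ds : List (List ℕ)) (w : List ℕ) (i : ℕ) : ℕ :=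
  List.rec (motive := fun _ => ℕ → ℕ) (fun i => i)
    (fun a _ ih i => (fun y => frc y (ih y)) (apI k M ts (nth [] ds a) i)) w i

theorem apDI_cons (k M : ℕ) (ts : List Tab) (ds : List (List ℕ)) (a : ℕ) (w : List ℕ) (i : ℕ) :
    apDI k M ts ds (a :: w) i = apDI k M ts ds w (apI k M ts (nth [] ds a) i) :=
  frc_eq (apI k M ts (nth [] ds a) i) _

/-- A product of words in derived letters, the last factor first. -/
inductive Pd : Type
  | nil : Pd
  | snoc (t : Pd) (ds : List (List ℕ)) (w : List ℕ) : Pd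

namespace Pd

noncomputable def val (g : ℕ → G) (t : Pd) : G := Pd.rec 1 (fun _ ds w ih => ih * ev (der g ds) w) t

noncomputable def ap (k M : ℕ) (ts : List Tab) (t : Pd) (i : ℕ) : ℕ :=
  Pd.rec (motive := fun _ => ℕ → ℕ) (fun i => i)
    (fun _ ds w ih i => (fun y => frc y (ih y)) (apD k M ts ds w i)) t i

noncomputable def apI (k M : ℕ) (ts : List Tab) (t : Pd) (i : ℕ) : ℕ :=
  Pd.rec i (fun _ ds w ih => frc ih (apDI k M ts ds w ih)) t

end Pd

namespace Model

variable {φ : G →* Perm ℕ} {γ : ℕ → G} {k : ℕ} {ns : List Net} {ts : List Tab}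

theorem der_lt (M : Model φ γ k ns ts) (ds : List (List ℕ)) (w : List ℕ) :
    φ (ev (der (ext γ) ds) w) ∈ bddPerm (2 ^ k) := by
  rw [M.map_der]; exact ev_mem _ _ _ fun a _ => ev_lp_mem M.valid _

theorem ev_bdd (M : Model φ γ k ns ts) (w : List ℕ) : φ (ev (ext γ) w) ∈ bddPerm (2 ^ k) := by
  rw [M.map_ev']; exact ev_lp_mem M.valid _

theorem apDI (M : Model φ γ k ns ts) (ds : List (List ℕ)) (w : List ℕ) {i : ℕ} (hi : i < 2 ^ k) :
    apDI k (msk k) ts ds w i = (φ (ev (der (ext γ) ds) w))⁻¹ i := by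
  induction w generalizing i with
  | nil => simp [CGT.apDI]
  | cons a w ih =>
    rw [apDI_cons, msk_eq, M.apI _ hi, ← msk_eq, map_inv,
      ih (bddPerm_lt ((bddPerm _).inv_mem (M.ev_bdd _)) hi), ev_cons, map_mul, mul_inv_rev,
      Perm.mul_apply, der]

theorem val_bdd (M : Model φ γ k ns ts) (t : Pd) : φ (t.val (ext γ)) ∈ bddPerm (2 ^ k) := by
  induction t with
  | nil => show φ 1 ∈ _; rw [map_one]; exact (bddPerm _).one_mem
  | snoc t ds w ih =>
    show φ (t.val (ext γ) * _) ∈ _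
    rw [map_mul]; exact (bddPerm _).mul_mem ih (M.der_lt ds w)

theorem apP (M : Model φ γ k ns ts) (t : Pd) {i : ℕ} (hi : i < 2 ^ k) :
    t.ap k (msk k) ts i = φ (t.val (ext γ)) i := by
  induction t generalizing i with
  | nil => show i = φ 1 i; simp
  | snoc t ds w ih =>
    have e : (Pd.snoc t ds w).ap k (msk k) ts i = t.ap k (msk k) ts (CGT.apD k (msk k) ts ds w i) :=
      frc_eq (CGT.apD k (msk k) ts ds w i) _
    show _ = φ (t.val (ext γ) * _) i
    rw [e, msk_eq, M.apD ds w hi, ← msk_eq, ih (bddPerm_lt (M.der_lt ds w) hi), map_mul,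
      Perm.mul_apply]

theorem apPI (M : Model φ γ k ns ts) (t : Pd) {i : ℕ} (hi : i < 2 ^ k) :
    t.apI k (msk k) ts i = (φ (t.val (ext γ)))⁻¹ i := by
  induction t with
  | nil => show i = (φ 1)⁻¹ i; simp
  | snoc t ds w ih =>
    have e : (Pd.snoc t ds w).apI k (msk k) ts i =
      CGT.apDI k (msk k) ts ds w (t.apI k (msk k) ts i) := frc_eq (t.apI k (msk k) ts i) _
    show _ = (φ (t.val (ext γ) * _))⁻¹ i
    rw [e, ih, M.apDI ds w (bddPerm_lt ((bddPerm _).inv_mem (M.val_bdd t)) hi), map_mul,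
      mul_inv_rev, Perm.mul_apply]

theorem ap' (M : Model φ γ k ns ts) (w : List ℕ) {i : ℕ} (hi : i < 2 ^ k) :
    CGT.ap k (msk k) ts w i = φ (ev (ext γ) w) i := M.ap w hi

end Model

/-- `x.testBit i` for the kernel. -/
def tb (x i : ℕ) : Bool := Nat.beq (Nat.land (Nat.shiftRight x i) 1) 1

theorem tb_eq (x i : ℕ) : tb x i = x.testBit i := by
  rw [tb, Nat.testBit, land_eq, shr_eq, Nat.and_comm 1, Nat.and_one_is_mod]
  rcases Nat.mod_two_eq_zero_or_one (x >>> i) with h | h <;> rw [h] <;> rfl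

/-- The data of a search. -/
structure Srch where
  k : ℕ
  ts : List Tab
  B : List ℕ
  u : List ℕ
  u' : List ℕ
  Cl : List (List ℕ)

namespace Srch

variable (S : Srch)

/-- The test at a leaf. -/
noncomputable def fin (i : ℕ) (t : Pd) : Bool :=
  (fun j => Bool.rec
    (Nat.ble j (msk S.k) && !(Nat.beq (t.ap S.k (msk S.k) S.ts (ap S.k (msk S.k) S.ts S.u j))
      (ap S.k (msk S.k) S.ts S.u' (t.ap S.k (msk S.k) S.ts j))))
    (allL S.B fun b => Nat.beq (t.ap S.k (msk S.k) S.ts b) (ap S.k (msk S.k) S.ts (nth [] S.Cl j) b))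
    (Nat.beq (Nat.land i 1) 0)) (Nat.shiftRight i 1)

/-- The forced image. -/
noncomputable def frcd (t : Pd) (b : ℕ) : ℕ :=
  t.apI S.k (msk S.k) S.ts (ap S.k (msk S.k) S.ts S.u' (t.ap S.k (msk S.k) S.ts b))

/-- The search; a link `0` marks a free level, a link `b + 1` a level whose base point is `u b`. -/
noncomputable def run (tr : Tr) (ls : List Level) (lk : List ℕ) (t : Pd) (acc : ℕ) : Bool :=
  Tr.rec (motive := fun _ => List Level → List ℕ → Pd → ℕ → Bool)
    (fun ls lk t acc => List.rec false (fun l _ _ => List.rec false (fun e _ _ =>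
      Nat.rec (Nat.beq (Nat.land l.O acc) l.O) (fun b _ => !(tb l.O (S.frcd t b))) e) lk) ls)
    (fun i ls _ t _ => List.rec (S.fin i t) (fun _ _ _ => false) ls)
    (fun w _ _ ic is ls lk t acc => List.rec false (fun l ls' _ => List.rec false (fun e lk' _ =>
      Nat.rec
        (Bool.rec false ((fun y => frc y (is ls lk t y))
          (Nat.lor acc (Nat.shiftLeft 1 (apD S.k (msk S.k) S.ts (dbl l.S) w l.b))))
          (ic ls' lk' (Pd.snoc t (dbl l.S) w) 0))
        (fun b _ => Bool.rec false (ic ls' lk' (Pd.snoc t (dbl l.S) w) 0)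
          (Nat.beq (apDI S.k (msk S.k) S.ts (dbl l.S) w (S.frcd t b)) l.b)) e) lk) ls)
    tr ls lk t acc

/-- The side conditions on the levels. -/
def Aux (φ : G →* Perm ℕ) (γ : ℕ → G) (K : Subgroup G) : List ℕ → List Level → List ℕ → Prop
  | _, [], _ => True
  | _, _ :: _, [] => True
  | F, l :: ls, e :: lk => (l.b < 2 ^ S.k ∧ (∀ s ∈ l.S, ev (ext γ) s ∈ St φ K F) ∧
      ∀ b, e = b + 1 → b ∈ F ∧ b < 2 ^ S.k ∧ φ (ev (ext γ) S.u) b = l.b) ∧ Aux φ γ K (l.b :: F) ls lk

/-- The test of the side conditions. -/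
noncomputable def auxB (L : List ℕ) (ls : List Level) (F lk : List ℕ) : Bool :=
  List.rec (motive := fun _ => List ℕ → List ℕ → Bool) (fun _ _ => true)
    (fun l _ ih F lk => List.rec true (fun e lk' _ => Nat.ble l.b (msk S.k) && (wordsIn L l.S &&
      ((allL l.S fun s => fixesB S.k S.ts s F) &&
      (Nat.rec true (fun b _ => memL b F && Nat.beq (ap S.k (msk S.k) S.ts S.u b) l.b) e &&
        ih (l.b :: F) lk')))) lk) ls F lk

variable {S} {φ : G →* Perm ℕ} {γ : ℕ → G} {ns : List Net}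

theorem auxB_sound (M : Model φ γ S.k ns S.ts) {L : List ℕ} {K : Subgroup G} (hK : gp γ L ≤ K)
    {ls : List Level} {F lk : List ℕ} (hF : ptsOK S.k F = true) (h : S.auxB L ls F lk = true) :
    S.Aux φ γ K F ls lk := by
  induction ls generalizing F lk with
  | nil => cases lk <;> trivial
  | cons l ls ih =>
    cases lk with
    | nil => trivial
    | cons e lk =>
      have h' : (Nat.ble l.b (msk S.k) && (wordsIn L l.S && ((allL l.S fun s => fixesB S.k S.ts s F) &&
        (Nat.rec true (fun b _ => memL b F && Nat.beq (ap S.k (msk S.k) S.ts S.u b) l.b) e &&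
        S.auxB L ls (l.b :: F) lk)))) = true := h
      simp only [Bool.and_eq_true] at h'
      obtain ⟨h1, h2, h3, h4, h5⟩ := h'
      have hb := lt_of_ble_msk h1
      refine ⟨⟨hb, fun s hs => ⟨hK (wordsIn_sound γ h2 s hs), fixesB_sound M hF (allL_iff.1 h3 s hs)⟩,
        fun b e' => ?_⟩, ih (ptsOK_cons hb hF) h5⟩
      subst e'
      have h6 : (memL b F && Nat.beq (ap S.k (msk S.k) S.ts S.u b) l.b) = true := h4
      rw [Bool.and_eq_true, Nat.beq_eq] at h6
      have h7 := ptsOK_lt hF (memL_sound h6.1)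
      exact ⟨memL_sound h6.1, h7, by rw [← M.ap' _ h7, h6.2]⟩

/-- The hypothesis on the first level. -/
def Fst (φ : G →* Perm ℕ) (K : Subgroup G) (k : ℕ) (F : List ℕ) (c : G) (acc : ℕ) :
    List Level → Prop
  | [] => c = 1
  | l :: ls => l.O.testBit (φ c l.b) = true ∧ acc.testBit (φ c l.b) = false ∧
      ChainExact φ K k (l.b :: F) ls

theorem fst_of_exact {K : Subgroup G} {k : ℕ} {F : List ℕ} {ls : List Level}
    (h : ChainExact φ K k F ls) {c : G} (hc : c ∈ St φ K F) : Fst φ K k F c 0 ls := by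
  cases ls with
  | nil => exact h c hc
  | cons l ls => exact ⟨h.1.2 c hc, by simp, h.2⟩

theorem fin_sound (M : Model φ γ S.k ns S.ts) (hB : IsBase φ ⊤ S.B) (hp : ptsOK S.k S.B = true)
    {i : ℕ} {t : Pd} (h : S.fin i t = true)
    (hc : t.val (ext γ) * ev (ext γ) S.u = ev (ext γ) S.u' * t.val (ext γ)) :
    ∃ j, t.val (ext γ) = ev (ext γ) (nth [] S.Cl j) := by
  unfold fin at h
  generalize Nat.shiftRight i 1 = j at h
  cases hb : Nat.beq (Nat.land i 1) 0
  · rw [hb] at h
    simp only [Bool.and_eq_true, Bool.not_eq_true'] at h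
    have hj := lt_of_ble_msk h.1
    have h2 := h.2
    rw [M.ap' _ hj, M.apP t hj, M.apP t (M.ev_lt _ hj), M.ap' _ (bddPerm_lt (M.val_bdd t) hj),
      ← Perm.mul_apply, ← map_mul, hc, map_mul, Perm.mul_apply] at h2
    simp at h2
  · rw [hb] at h
    refine ⟨j, hB.eq trivial trivial fun b hb => ?_⟩
    have := Nat.eq_of_beq_eq_true (allL_iff.1 h b hb)
    rwa [M.ap' _ (ptsOK_lt hp hb), M.apP t (ptsOK_lt hp hb)] at this

theorem frcd_eq (M : Model φ γ S.k ns S.ts) {t : Pd} {b b' : ℕ} (hb : b < 2 ^ S.k) {c : G}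
    (h1 : φ c b = b) (h2 : φ (ev (ext γ) S.u) b = b')
    (hc : t.val (ext γ) * c * ev (ext γ) S.u = ev (ext γ) S.u' * (t.val (ext γ) * c)) :
    S.frcd t b = φ c b' := by
  have h3 := bddPerm_lt (M.val_bdd t) hb
  rw [frcd, M.apP t hb, M.ap' _ h3, M.apPI t (M.ev_lt _ h3), Perm.inv_eq_iff_eq, ← h2,
    ← Perm.mul_apply (φ c), ← Perm.mul_apply (φ (t.val _)), ← map_mul, ← map_mul, ← mul_assoc, hc,
    map_mul, map_mul, Perm.mul_apply, Perm.mul_apply, h1]

theorem run_sound (M : Model φ γ S.k ns S.ts) (hB : IsBase φ ⊤ S.B) (hp : ptsOK S.k S.B = true)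
    {K : Subgroup G} {tr : Tr} {F : List ℕ} {ls : List Level} {lk : List ℕ} {t : Pd} {acc : ℕ}
    (ha : S.Aux φ γ K F ls lk) (h : S.run tr ls lk t acc = true) {c : G} (hc : c ∈ St φ K F)
    (hf : Fst φ K S.k F c acc ls)
    (e : t.val (ext γ) * c * ev (ext γ) S.u = ev (ext γ) S.u' * (t.val (ext γ) * c)) :
    ∃ j, t.val (ext γ) * c = ev (ext γ) (nth [] S.Cl j) := by
  induction tr generalizing F ls lk t acc c with
  | nil =>
    rcases ls with _ | ⟨l, ls⟩
    · exact absurd h (by simp [run])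
    rcases lk with _ | ⟨_ | b, lk⟩
    · exact absurd h (by simp [run])
    · have h' : l.O &&& acc = l.O := Nat.eq_of_beq_eq_true h
      have := hf.1
      rw [← h', Nat.testBit_and, hf.2.1] at this
      simp at this
    · have h' : (!(tb l.O (S.frcd t b))) = true := h
      obtain ⟨h1, h2, h3⟩ := ha.1.2.2 b rfl
      rw [frcd_eq M h2 (hc.2 b h1) h3 e, tb_eq, hf.1] at h'
      simp at h'
  | leaf i =>
    rcases ls with _ | ⟨l, ls⟩
    · have h1 : c = 1 := hf
      subst h1
      rw [mul_one] at e ⊢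
      exact fin_sound M hB hp h e
    · exact absurd h (by simp [run])
  | cons w ch sb ic is =>
    rcases ls with _ | ⟨l, ls⟩
    · exact absurd h (by simp [run])
    rcases lk with _ | ⟨e0, lk⟩
    · exact absurd h (by simp [run])
    have hW : ev (der (ext γ) (dbl l.S)) w ∈ St φ K F := by
      rw [der_dbl]; exact ev_mem _ _ _ fun a _ => ext_wg_mem ha.1.2.1 a
    have down : S.run ch ls lk (Pd.snoc t (dbl l.S) w) 0 = true →
        φ (ev (der (ext γ) (dbl l.S)) w) l.b = φ c l.b →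
        ∃ j, t.val (ext γ) * c = ev (ext γ) (nth [] S.Cl j) := by
      intro h1 h2
      set W := ev (der (ext γ) (dbl l.S)) w
      have h3 := (St φ K F).mul_mem ((St φ K F).inv_mem hW) hc
      have h4 : W⁻¹ * c ∈ St φ K (l.b :: F) := ⟨h3.1, fun b hb => by
        rcases List.mem_cons.1 hb with rfl | hb
        · rw [map_mul, Perm.mul_apply, ← h2, map_inv, perm_inv_apply]
        · exact h3.2 b hb⟩
      have e1 : (Pd.snoc t (dbl l.S) w).val (ext γ) * (W⁻¹ * c) = t.val (ext γ) * c := by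
        show t.val (ext γ) * W * _ = _
        group
      have := ic ha.2 h1 h4 (fst_of_exact hf.2.2 h4) (by rw [e1]; exact e)
      rwa [e1] at this
    rcases e0 with _ | b
    · have h' : Bool.rec (motive := fun _ => Bool) false ((fun y => frc y (S.run sb (l :: ls) (0 :: lk) t y))
          (Nat.lor acc (Nat.shiftLeft 1 (apD S.k (msk S.k) S.ts (dbl l.S) w l.b))))
          (S.run ch ls lk (Pd.snoc t (dbl l.S) w) 0) = true := h
      cases h1 : S.run ch ls lk (Pd.snoc t (dbl l.S) w) 0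
      · rw [h1] at h'; exact absurd h' (by simp)
      · rw [h1] at h'
        simp only [frc_eq] at h'
        by_cases h2 : φ (ev (der (ext γ) (dbl l.S)) w) l.b = φ c l.b
        · exact down h1 h2
        · refine is ha h' hc ⟨hf.1, ?_, hf.2.2⟩ e
          rw [lor_eq, Nat.testBit_or, hf.2.1, shl_eq, Nat.one_shiftLeft, Nat.testBit_two_pow, msk_eq,
            M.apD _ _ ha.1.1]
          simpa using h2
    · have h' : Bool.rec (motive := fun _ => Bool) false (S.run ch ls lk (Pd.snoc t (dbl l.S) w) 0)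
          (Nat.beq (apDI S.k (msk S.k) S.ts (dbl l.S) w (S.frcd t b)) l.b) = true := h
      obtain ⟨h1, h2, h3⟩ := ha.1.2.2 b rfl
      have h6 : S.frcd t b < 2 ^ S.k := by
        have h3 := bddPerm_lt (M.val_bdd t) h2
        rw [frcd, M.apP t h2, M.ap' _ h3, M.apPI t (M.ev_lt _ h3)]
        exact bddPerm_lt ((bddPerm _).inv_mem (M.val_bdd t)) (M.ev_lt _ h3)
      cases h4 : Nat.beq (apDI S.k (msk S.k) S.ts (dbl l.S) w (S.frcd t b)) l.b
      · rw [h4] at h'; exact absurd h' (by simp)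
      · rw [h4] at h'
        have h5 := Nat.eq_of_beq_eq_true h4
        rw [M.apDI _ _ h6, frcd_eq M h2 (hc.2 b h1) h3 e, Perm.inv_eq_iff_eq] at h5
        exact down h' h5.symm

variable (S)

/-- All solutions mapping `b` into the mask `R` are listed. -/
def Found (φ : G →* Perm ℕ) (γ : ℕ → G) (K : Subgroup G) (F : List ℕ) (b R : ℕ) : Prop :=
  ∀ c ∈ St φ K F, c * ev (ext γ) S.u = ev (ext γ) S.u' * c → R.testBit (φ c b) = true →
    ∃ j, c = ev (ext γ) (nth [] S.Cl j)

variable {S}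

theorem Found.or {K : Subgroup G} {F : List ℕ} {b R R' : ℕ} (h : S.Found φ γ K F b R)
    (h' : S.Found φ γ K F b R') : S.Found φ γ K F b (Nat.lor R R') := fun c hc e hR => by
  rw [lor_eq, Nat.testBit_or, Bool.or_eq_true] at hR
  exact hR.elim (h c hc e) (h' c hc e)

theorem found_of_run (M : Model φ γ S.k ns S.ts) (hB : IsBase φ ⊤ S.B) (hp : ptsOK S.k S.B = true)
    {K : Subgroup G} {F : List ℕ} {l : Level} {ls : List Level} {lk : List ℕ}
    (hx : ChainExact φ K S.k F (l :: ls)) (ha : S.Aux φ γ K F (l :: ls) (0 :: lk)) {tr : Tr} {R : ℕ}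
    (h : S.run tr (⟨l.b, l.S, [], R, 0⟩ :: ls) (0 :: lk) Pd.nil 0 = true) :
    S.Found φ γ K F l.b R := fun c hc e hR => by
  have := run_sound M hB hp (ls := ⟨l.b, l.S, [], R, 0⟩ :: ls) (K := K) (F := F) (lk := 0 :: lk)
    ⟨ha.1, ha.2⟩ h hc
    ⟨hR, by simp, hx.2⟩ (by show 1 * c * _ = _ * (1 * c); rw [one_mul]; exact e)
  simpa [Pd.val] using this

/-- The images of the mask under the first `n + 1` powers of the inverse of the word. -/
noncomputable def cover (ns : List Net) (w : List ℕ) (R n : ℕ) : ℕ :=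
  Nat.rec R (fun _ ih => frc ih (Nat.lor R (gatW ns w ih))) n

theorem cover_sound {k : ℕ} {ts : List Tab} (M : Model φ γ k ns ts) (w : List ℕ) (R n p : ℕ)
    (h : (cover ns w R n).testBit p = true) :
    ∃ i ≤ n, R.testBit (φ (ev (ext γ) w ^ i) p) = true := by
  induction n generalizing p with
  | zero => exact ⟨0, le_rfl, by rw [pow_zero, map_one]; exact h⟩
  | succ n ih =>
    have e : cover ns w R (n + 1) = R ||| gatW ns w (cover ns w R n) := frc_eq (cover ns w R n) _
    rw [e, Nat.testBit_or, Bool.or_eq_true, M.gatW] at h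
    rcases h with h | h
    · exact ⟨0, by omega, by simpa using h⟩
    · obtain ⟨i, hi, h2⟩ := ih _ h
      exact ⟨i + 1, by omega, by rwa [pow_succ, map_mul, Perm.mul_apply]⟩

/-- The outcome of a search modulo the powers of `u`. -/
theorem Found.all (M : Model φ γ S.k ns S.ts) {K : Subgroup G} {F : List ℕ} {b R O n : ℕ}
    (h : S.Found φ γ K F b R) (hu : ev (ext γ) S.u ∈ St φ K F)
    (hO : Nat.beq (Nat.land O (cover ns (invW S.u') R n)) O = true) {c : G} (hc : c ∈ St φ K F)
    (e : c * ev (ext γ) S.u = ev (ext γ) S.u' * c) (hb : O.testBit (φ c b) = true) :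
    ∃ i ≤ n, ∃ j, c = ev (ext γ) (nth [] S.Cl j) * ev (ext γ) S.u ^ i := by
  rw [← Nat.eq_of_beq_eq_true hO, land_eq, Nat.testBit_and, Bool.and_eq_true] at hb
  obtain ⟨i, hi, h2⟩ := cover_sound M _ _ _ _ hb.2
  rw [ev_invW] at h2
  have e1 : SemiconjBy c (ev (ext γ) S.u) (ev (ext γ) S.u') := e
  have e2 : c * (ev (ext γ) S.u)⁻¹ ^ i = (ev (ext γ) S.u')⁻¹ ^ i * c := e1.inv_right.pow_right i
  obtain ⟨j, hj⟩ := h (c * (ev (ext γ) S.u)⁻¹ ^ i)
    ((St φ K F).mul_mem hc ((St φ K F).pow_mem ((St φ K F).inv_mem hu) i))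
    (by rw [mul_assoc, ← ((Commute.refl (ev (ext γ) S.u)).inv_right.pow_right i).eq, ← mul_assoc, e,
      mul_assoc])
    (by rwa [e2, map_mul, Perm.mul_apply])
  exact ⟨i, hi, j, by rw [← hj]; group⟩

end Srch

/-! ### Fixed points -/

/-- The points below `2^k` moved by the word. -/
noncomputable def movedM (k : ℕ) (ns : List Net) (w : List ℕ) : ℕ :=
  Nat.rec 0 (fun t ih => frc ih (Nat.lor ih (Nat.xor (gatW ns w (sl t k)) (sl t k)))) k

theorem movedM_sound {φ : G →* Perm ℕ} {γ : ℕ → G} {k : ℕ} {ns : List Net} {ts : List Tab}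
    (M : Model φ γ k ns ts) (w : List ℕ) {p : ℕ} (h : φ (ev (ext γ) w) p = p) :
    (movedM k ns w).testBit p = false := by
  have : ∀ m : ℕ, (Nat.rec 0 (fun t ih => frc ih (Nat.lor ih (Nat.xor (gatW ns w (sl t k)) (sl t k))))
      m : ℕ).testBit p = false := by
    intro m
    induction m with
    | zero => simp
    | succ m ih =>
      simp only [frc_eq, lor_eq, xor_eq, Nat.testBit_or, Nat.testBit_xor, M.gatW, h] at ih ⊢
      simp [ih]
  exact this k

/-! ### Orbits by tables -/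

/-- The points reached along a tree. -/
noncomputable def orbT (k : ℕ) (ts : List Tab) (ds : List (List ℕ)) (tr : Tr) (a acc : ℕ) : ℕ :=
  Tr.rec (motive := fun _ => ℕ → ℕ → ℕ) (fun _ acc => acc) (fun _ _ acc => acc)
    (fun w _ _ ic is a acc => (fun a' => (fun y => frc y (is a y))
      ((fun z => frc z (ic a' z)) (Nat.lor acc (Nat.shiftLeft 1 a')))) (apD k (msk k) ts ds w a))
    tr a acc

theorem orbT_sound {φ : G →* Perm ℕ} {γ : ℕ → G} {k : ℕ} {ns : List Net} {ts : List Tab}
    (M : Model φ γ k ns ts) {L : Subgroup G} {S : List (List ℕ)}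
    (hS : ∀ u ∈ S, ev (ext γ) u ∈ L) {b : ℕ} (tr : Tr) {a acc : ℕ} (ha : a < 2 ^ k)
    (ha' : ∃ x ∈ L, φ x b = a) (hO : ∀ j, acc.testBit j = true → ∃ x ∈ L, φ x b = j) :
    ∀ j, (orbT k ts (dbl S) tr a acc).testBit j = true → ∃ x ∈ L, φ x b = j := by
  induction tr generalizing a acc with
  | nil => exact hO
  | leaf i => exact hO
  | cons w ch sb ic is =>
    have e : orbT k ts (dbl S) (Tr.cons w ch sb) a acc = orbT k ts (dbl S) sb a
        (orbT k ts (dbl S) ch (apD k (msk k) ts (dbl S) w a)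
          (acc ||| (1 <<< apD k (msk k) ts (dbl S) w a))) := by
      unfold orbT
      simp only [frc_eq]; rfl
    rw [e, msk_eq, M.apD _ _ ha]
    have hW : ev (der (ext γ) (dbl S)) w ∈ L := by
      rw [der_dbl]; exact ev_mem _ _ _ fun a _ => ext_wg_mem hS a
    have h1 : ∃ x ∈ L, φ x b = φ (ev (der (ext γ) (dbl S)) w) a := by
      obtain ⟨x, hx, rfl⟩ := ha'
      exact ⟨_, L.mul_mem hW hx, by rw [map_mul, Perm.mul_apply]⟩
    refine is ha ha' (ic (bddPerm_lt (M.der_lt _ _) ha) h1 fun j hj => ?_)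
    rw [Nat.testBit_or, Bool.or_eq_true, Nat.one_shiftLeft, Nat.testBit_two_pow] at hj
    rcases hj with hj | hj
    · exact hO j hj
    · rw [← of_decide_eq_true hj]; exact h1

/-- The test of one level by tables. -/
noncomputable def Level.okT (k : ℕ) (ts : List Tab) (L F : List ℕ) (l : Level) (tr : Tr) : Bool :=
  ptsOK k F && (wordsIn L l.S && ((allL l.S fun u => fixesB k ts u F) && (Nat.ble l.b (msk k) &&
    (Nat.beq (orbT k ts (dbl l.S) tr l.b (Nat.shiftLeft 1 l.b)) l.O &&
      Nat.beq (popc (Nat.sub k 3) l.O) l.n))))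

theorem Level.okT_sound {φ : G →* Perm ℕ} {γ : ℕ → G} {k : ℕ} {ns : List Net} {ts : List Tab}
    (M : Model φ γ k ns ts) {L F : List ℕ} {l : Level} {tr : Tr}
    (h : l.okT k ts L F tr = true) : l.Sound φ (gp γ L) k F := by
  unfold Level.okT at h
  simp only [Bool.and_eq_true, Nat.beq_eq, allL_iff] at h
  obtain ⟨hF, hS, h1, h2, h3, h4⟩ := h
  refine ⟨lt_of_ble_msk h2, ?_, (Finset.range (2 ^ (Nat.sub k 3 + 3))).filter
    fun i => l.O.testBit i = true, ?_, ?_⟩
  · rw [← h3]
    exact orbT_sound M (L := St φ (gp γ L) F)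
      (fun u hu => ⟨wordsIn_sound γ hS u hu, fixesB_sound M hF (h1 u hu)⟩) _ (lt_of_ble_msk h2)
      ⟨1, Subgroup.one_mem _, by simp⟩ (one_shiftLeft_orbit φ _ _)
  · exact (popc_eq _ _).symm.trans h4
  · intro j hj; exact (Finset.mem_filter.1 hj).2

/-! ### Straight line programs -/

/-- Word `i`, `i + 1`, … of `Ws` are the products given by the steps. -/
noncomputable def slpB (k : ℕ) (ts : List Tab) (B : List ℕ) (Ws : List (List ℕ))
    (st : List (List ℕ)) (i n : ℕ) : Bool :=
  List.rec (motive := fun _ => ℕ → Bool) (fun i => Nat.beq i n)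
    (fun d _ ih i => Bool.rec false (ih (Nat.add i 1)) ((allL d fun a => Nat.blt a (Nat.mul 2 i)) &&
      eqB k ts B (expand (dbl Ws) d) (nth [] Ws i))) st i

/-- The first `n` words lie in `A`. -/
def SlpTo (γ : ℕ → G) (A : Subgroup G) (Ws : List (List ℕ)) (n : ℕ) : Prop :=
  ∀ i < n, wg γ Ws i ∈ A

theorem SlpTo.step {φ : G →* Perm ℕ} {γ : ℕ → G} {k : ℕ} {ns : List Net} {ts : List Tab}
    (M : Model φ γ k ns ts) {B : List ℕ} (hB : IsBase φ ⊤ B) (hp : ptsOK k B = true)
    {A : Subgroup G} {Ws st : List (List ℕ)} {i n : ℕ} (hA : SlpTo γ A Ws i)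
    (h : slpB k ts B Ws st i n = true) : SlpTo γ A Ws n := by
  induction st generalizing i with
  | nil => rw [← Nat.eq_of_beq_eq_true h]; exact hA
  | cons d st ih =>
    have h' : Bool.rec (motive := fun _ => Bool) false (slpB k ts B Ws st (i + 1) n)
      ((allL d fun a => Nat.blt a (Nat.mul 2 i)) &&
      eqB k ts B (expand (dbl Ws) d) (nth [] Ws i)) = true := h
    cases h1 : ((allL d fun a => Nat.blt a (Nat.mul 2 i)) &&
      eqB k ts B (expand (dbl Ws) d) (nth [] Ws i))
    · rw [h1] at h'; exact absurd h' (by simp)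
    · rw [h1] at h'
      rw [Bool.and_eq_true] at h1
      refine ih (fun j hj => ?_) h'
      rcases Nat.lt_succ_iff_lt_or_eq.1 hj with hj | rfl
      · exact hA j hj
      · rw [wg, ← eqB_sound M hB hp trivial trivial h1.2, ev_expand_dbl]
        refine ev_mem _ _ _ fun a ha => ext_mem (hA _ ?_)
        have : a < 2 * j := by simpa using allL_iff.1 h1.1 a ha
        omega

theorem SlpTo.gp_le {γ : ℕ → G} {A : Subgroup G} {Ws : List (List ℕ)} {n : ℕ} (h : SlpTo γ A Ws n)
    {L : List ℕ} (hL : (allL L fun a => memLL [a] (Ws.take n)) = true) : gp γ L ≤ A :=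
  CGT.gp_le fun a ha => by
    obtain ⟨i, hi, e⟩ := List.getElem_of_mem (memLL_sound (allL_iff.1 hL a ha))
    rw [List.length_take] at hi
    have := h i (by omega)
    rw [List.getElem_take] at e
    rwa [wg, nth_eq, List.getD_eq_getElem _ _ (by omega), e, ev_singleton] at this

end Cfsg.Agent.CGT
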