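import Cfsg.Agent.CGT.Index

set_option autoImplicit false

/-! A sequential checker for slices of coset enumerations: it proves that words lie in a subgroup. -/

namespace Cfsg.Agent.CGT

variable {G : Type*} [Group G]

/-- The value of a word packed into bytes. -/
def evp (g : ℕ → G) (n : ℕ) : G := ev g (Nat.digits 256 n)

theorem evp_zero (g : ℕ → G) : evp g 0 = 1 := by simp [evp]

theorem evp_step {g : ℕ → G} (h0 : g 0 = 1) (n : ℕ) : evp g n = g (n % 256) * evp g (n / 256) := by
  rcases Nat.eq_zero_or_pos n with rfl | hn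
  · simp [evp, h0]
  · rw [evp, Nat.digits_def' (by norm_num) hn, ev_cons, evp]

theorem evp_add {g : ℕ → G} (h0 : g 0 = 1) (m : ℕ) {a : ℕ} (ha : a < 256 ^ m) (b : ℕ) :
    evp g (a + 256 ^ m * b) = evp g a * evp g b := by
  induction m generalizing a with
  | zero =>
    have : a = 0 := by simpa using ha
    subst this; simp [evp_zero]
  | succ m ih =>
    rw [evp_step h0, evp_step h0 a, pow_succ]
    have e1 : (a + 256 ^ m * 256 * b) % 256 = a % 256 := by
      rw [show 256 ^ m * 256 * b = 256 * (256 ^ m * b) by ring, Nat.add_mul_mod_self_left]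
    have e2 : (a + 256 ^ m * 256 * b) / 256 = a / 256 + 256 ^ m * b := by
      rw [show 256 ^ m * 256 * b = 256 * (256 ^ m * b) by ring, Nat.add_mul_div_left _ _ (by norm_num)]
    rw [e1, e2, ih (by rw [pow_succ] at ha; omega), mul_assoc]

theorem evp_rot {g : ℕ → G} (h0 : g 0 = 1) {n w r : ℕ} (hw : w < 256 ^ n) (h : evp g w = 1)
    (hr : r ≤ n) : evp g ((w + 256 ^ n * w) / 256 ^ r % 256 ^ n) = 1 := by
  obtain ⟨s, rfl⟩ := Nat.exists_eq_add_of_le hr
  have hp : 0 < 256 ^ r := by positivity
  have hb : w / 256 ^ r < 256 ^ s := by rw [Nat.div_lt_iff_lt_mul hp, ← pow_add, add_comm]; exact hw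
  have ha : w % 256 ^ r < 256 ^ r := Nat.mod_lt _ hp
  have e0 : w = w % 256 ^ r + 256 ^ r * (w / 256 ^ r) := (Nat.mod_add_div _ _).symm
  have e1 : (w + 256 ^ (r + s) * w) / 256 ^ r = w / 256 ^ r + 256 ^ s * w := by
    rw [pow_add, mul_assoc, Nat.add_mul_div_left _ _ hp]
  have e2 : (w / 256 ^ r + 256 ^ s * w) % 256 ^ (r + s) = w / 256 ^ r + 256 ^ s * (w % 256 ^ r) := by
    have : w / 256 ^ r + 256 ^ s * w =
        w / 256 ^ r + 256 ^ s * (w % 256 ^ r) + 256 ^ (r + s) * (w / 256 ^ r) := by
      conv_lhs => rw [e0]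
      rw [← e0, pow_add]; nth_rewrite 2 [e0]; ring
    rw [this, Nat.add_mul_mod_self_left, Nat.mod_eq_of_lt]
    rw [pow_add]
    have := Nat.mul_le_mul_left (256 ^ s) (Nat.succ_le_of_lt ha)
    rw [Nat.mul_succ, mul_comm (256 ^ s) (256 ^ r)] at this
    omega
  rw [e1, e2, evp_add h0 s hb]
  rw [e0, evp_add h0 r ha] at h
  exact mul_eq_one_comm.1 h

/-- Unpack `n` bytes. -/
noncomputable def unp (n w : ℕ) : List ℕ :=
  Nat.rec (motive := fun _ => ℕ → List ℕ) (fun _ => [])
    (fun _ ih w => Nat.land w 255 :: ih (Nat.shiftRight w 8)) n w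

theorem and_255 (w : ℕ) : w &&& 255 = w % 256 := Nat.and_two_pow_sub_one_eq_mod w 8

theorem shr_8 (w : ℕ) : w >>> 8 = w / 256 := Nat.shiftRight_eq_div_pow w 8

theorem ev_unp {g : ℕ → G} (h0 : g 0 = 1) (n : ℕ) {w : ℕ} (hw : w < 256 ^ n) :
    ev g (unp n w) = evp g w := by
  induction n generalizing w with
  | zero =>
    have : w = 0 := by simpa using hw
    subst this; exact (evp_zero g).symm
  | succ n ih =>
    show ev g ((w &&& 255) :: unp n (w >>> 8)) = _
    rw [ev_cons, and_255, shr_8, ih (by rw [pow_succ] at hw; omega), ← evp_step h0]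

/-- Membership of a word in a list of words. -/
noncomputable def memLL (u : List ℕ) (R : List (List ℕ)) : Bool :=
  List.rec false (fun r _ ih => Bool.rec ih true (beqL u r)) R

theorem memLL_sound {u : List ℕ} {R : List (List ℕ)} (h : memLL u R = true) : u ∈ R := by
  induction R with
  | nil => exact absurd h (by simp [memLL])
  | cons r R ih =>
    have h' : Bool.rec (motive := fun _ => Bool) (memLL u R) true (beqL u r) = true := h
    cases hb : beqL u r
    · rw [hb] at h'; exact List.mem_cons_of_mem _ (ih h')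
    · rw [beqL_sound hb]; exact List.mem_cons_self

/-- Free reduction; the letters of `I` are involutions. -/
noncomputable def red (I : List ℕ) (w : List ℕ) : List ℕ :=
  List.rec [] (fun a _ ih => List.rec [a] (fun b r _ => Bool.rec (a :: b :: r) r
    (Nat.beq b (Nat.xor a 1) || (Nat.beq a b && memL a I))) ih) w

theorem ev_red {γ : ℕ → G} {I : List ℕ} (hI : ∀ a ∈ I, ext γ a * ext γ a = 1) (w : List ℕ) :
    ev (ext γ) (red I w) = ev (ext γ) w := by
  induction w with
  | nil => rfl
  | cons a w ih =>
    rw [ev_cons, ← ih]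
    show ev (ext γ) (List.rec [a] (fun b r _ => Bool.rec (a :: b :: r) r
      (Nat.beq b (Nat.xor a 1) || (Nat.beq a b && memL a I))) (red I w)) = _
    cases red I w with
    | nil => rfl
    | cons b r =>
      show ev (ext γ) (Bool.rec (a :: b :: r) r
        (Nat.beq b (Nat.xor a 1) || (Nat.beq a b && memL a I))) = _
      cases hb : (Nat.beq b (Nat.xor a 1) || (Nat.beq a b && memL a I))
      · simp
      · show ev (ext γ) r = _
        simp only [Bool.or_eq_true, Bool.and_eq_true, Nat.beq_eq, xor_eq] at hb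
        rcases hb with rfl | ⟨rfl, h⟩
        · simp [ext_xor_one]
        · rw [ev_cons, ← mul_assoc, hI a (memL_sound h), one_mul]

/-- Substitution of words for letters. -/
noncomputable def expand (ds : List (List ℕ)) (w : List ℕ) : List ℕ :=
  List.rec [] (fun a _ ih => List.rec ih (fun b _ ih' => b :: ih') (nth [] ds a)) w

theorem ev_expand (g : ℕ → G) (ds : List (List ℕ)) (w : List ℕ) :
    ev g (expand ds w) = ev (der g ds) w := by
  induction w with
  | nil => rfl
  | cons a w ih =>
    show ev g (List.rec (expand ds w) (fun b _ ih' => b :: ih') (nth [] ds a)) = _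
    rw [ev_cons, ← ih, der]
    induction nth [] ds a with
    | nil => simp
    | cons b r ih2 => simp only [ev_cons, mul_assoc]; rw [← ih2]

/-- The word is a relator of the list or freely trivial. -/
noncomputable def trivW (I : List ℕ) (R : List (List ℕ)) (z : List ℕ) : Bool :=
  Bool.rec (memLL z R) true (beqL (red I z) [])

theorem trivW_sound {γ : ℕ → G} {I : List ℕ} (hI : ∀ a ∈ I, ext γ a * ext γ a = 1)
    {R : List (List ℕ)} (hR : Holds (ext γ) R) {z : List ℕ} (h : trivW I R z = true) :
    ev (ext γ) z = 1 := by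
  unfold trivW at h
  cases hb : beqL (red I z) []
  · rw [hb] at h; exact hR _ (memLL_sound h)
  · rw [← ev_red hI, beqL_sound hb]; rfl

theorem invol_sound {γ : ℕ → G} {I : List ℕ} {R : List (List ℕ)} (hR : Holds (ext γ) R)
    (h : (allL I fun a => memLL [a, a] R) = true) : ∀ a ∈ I, ext γ a * ext γ a = 1 := fun a ha => by
  simpa using hR _ (memLL_sound (allL_iff.1 h a ha))

namespace Tab

/-- The leaf reached from an index. -/
noncomputable def lf (t : Tab) (i : ℕ) : ℕ :=
  Tab.rec (motive := fun _ => ℕ → ℕ) (fun T _ => T)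
    (fun h _ _ il ir i => Bool.rec (il i) (ir (Nat.sub i h)) (Nat.ble h i)) (fun _ => 0) t i

/-- A test on all leaves. -/
noncomputable def allLf (p : ℕ → Bool) (t : Tab) : Bool :=
  Tab.rec (fun T => p T) (fun _ _ _ il ir => il && ir) (p 0) t

theorem allLf_lf {p : ℕ → Bool} {t : Tab} (h : allLf p t = true) (i : ℕ) : p (lf t i) = true := by
  induction t generalizing i with
  | leaf T => exact h
  | node a l r il ir =>
    have h' : (allLf p l && allLf p r) = true := h
    rw [Bool.and_eq_true] at h'
    show p (Bool.rec (motive := fun _ => ℕ) (lf l i) (lf r (Nat.sub i a)) (Nat.ble a i)) = true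
    cases Nat.ble a i
    · exact il h'.1 i
    · exact ir h'.2 _
  | ident => exact h

end Tab

/-- The data of a slice: facts, relators, inverse letters, the words of the letters, and the
letters known to lie in the subgroup. -/
structure STC where
  T : Tab
  RT : Tab
  iT : ℕ
  ds : List (List ℕ)
  AX : List ℕ

namespace STC

variable (S : STC)

/-- Fact `i`, packed as `x + 2^8 * u + 2^32 * v`. -/
noncomputable def fact (i : ℕ) : ℕ := S.T.get 56 0xffffffffffffff i

def fx (f : ℕ) : ℕ := Nat.land f 255
def fu (f : ℕ) : ℕ := Nat.land (Nat.shiftRight f 8) 0xffffff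
def fv (f : ℕ) : ℕ := Nat.shiftRight f 32

/-- Follow `n` packed references from the node `c`, spelling the packed word `t`. -/
noncomputable def walk (i2 u n p c t : ℕ) : Bool :=
  Nat.rec (motive := fun _ => ℕ → ℕ → ℕ → Bool) (fun _ c t => Nat.beq c u && Nat.beq t 0)
    (fun _ ih p c t => (fun ρ => (fun f => (fun (nx : ℕ → ℕ → Bool) =>
      Bool.rec (Bool.rec (Bool.rec false (nx (field 8 255 S.iT (fx f)) (fu f)) (Nat.beq (fv f) c))
        (Bool.rec false (nx (fx f) (fv f)) (Nat.beq (fu f) c)) (Nat.beq (Nat.land ρ 1) 0))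
        false (Nat.ble i2 ρ))
      (fun y c' => Bool.rec
        (Bool.rec false (ih (Nat.shiftRight p 24) c' (Nat.shiftRight t 8)) (Nat.beq (Nat.land t 255) y))
        (ih (Nat.shiftRight p 24) c' t) (Nat.beq y 0)))
      (S.fact (Nat.shiftRight ρ 1))) (Nat.land p 0xffffff)) n p c t

/-- The test of fact `i` with the packed proof `p`. -/
noncomputable def check (i p : ℕ) : Bool :=
  (fun f c => Nat.rec (motive := fun _ => Bool) (Nat.beq (fv f) i && Nat.blt (fu f) i)
    (fun c1 _ => Nat.rec (motive := fun _ => Bool) (Nat.ble f 255 && memL f S.AX)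
      (fun c2 _ => (fun e r => (fun n => (fun t =>
        Bool.rec false (Bool.rec
          (Bool.rec false (S.walk (Nat.mul 2 i) (fu f) (Nat.land p 4095) (Nat.shiftRight p 32) (fv f)
            (Nat.shiftRight t 8)) (Nat.beq (Nat.land t 255) (fx f)))
          (S.walk (Nat.mul 2 i) (fu f) (Nat.land p 4095) (Nat.shiftRight p 32) (fv f) t)
          (Nat.beq (fx f) 0)) (Nat.ble r n))
        (Nat.land (Nat.shiftRight e (Nat.add 12 (Nat.mul 8 r))) (Nat.sub (Nat.pow 2 (Nat.mul 8 n)) 1)))
        (Nat.land e 4095)) (S.RT.lf (Nat.land c2 1023)) (Nat.shiftRight c2 10)) c1) c)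
  (S.fact i) (Nat.land (Nat.shiftRight p 12) 0xfffff)

/-- The test of consecutive facts. -/
noncomputable def checks (ps : List ℕ) (i n : ℕ) : Bool :=
  List.rec (motive := fun _ => ℕ → Bool) (fun i => Nat.beq i n)
    (fun p _ ih i => Bool.rec false (ih (Nat.add i 1)) (S.check i p)) ps i

/-- A good entry of the table of relators. -/
def RelOK (g : ℕ → G) (e : ℕ) : Prop :=
  ∀ r ≤ e &&& 4095, evp g ((e >>> (12 + 8 * r)) &&& (2 ^ (8 * (e &&& 4095)) - 1)) = 1

/-- The hypotheses. -/
structure Hyp (g : ℕ → G) (H : Subgroup G) : Prop where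
  zero : g 0 = 1
  rel : ∀ j, RelOK g (S.RT.lf j)
  inv : ∀ x < 256, g (field 8 255 S.iT x) = (g x)⁻¹
  ax : ∀ x ∈ S.AX, g x ∈ H

/-- The representatives of the nodes. -/
noncomputable def wt (g : ℕ → G) (i : ℕ) : G :=
  if _h : fv (S.fact i) = i ∧ fu (S.fact i) < i then wt g (fu (S.fact i)) * g (fx (S.fact i)) else 1
termination_by i
decreasing_by exact _h.2

/-- `x` leads from `u` to `v`. -/
def Ed (g : ℕ → G) (H : Subgroup G) (u : ℕ) (x : G) (v : ℕ) : Prop :=
  S.wt g u * x * (S.wt g v)⁻¹ ∈ H

/-- All facts below `n` hold. -/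
def Upto (g : ℕ → G) (H : Subgroup G) (n : ℕ) : Prop :=
  ∀ i < n, S.Ed g H (fu (S.fact i)) (g (fx (S.fact i))) (fv (S.fact i))

variable {S} {g : ℕ → G} {H : Subgroup G}

theorem Ed.trans {u v z : ℕ} {x y : G} (h1 : S.Ed g H u x v) (h2 : S.Ed g H v y z) :
    S.Ed g H u (x * y) z := by
  have := H.mul_mem h1 h2
  unfold Ed
  convert this using 1; group

theorem Ed.symm {u v : ℕ} {x : G} (h1 : S.Ed g H u x v) : S.Ed g H v x⁻¹ u := by
  have := H.inv_mem h1
  unfold Ed
  convert this using 1; group

theorem wt_zero : S.wt g 0 = 1 := by rw [wt]; simp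

theorem fx_lt (f : ℕ) : fx f < 256 := lt_of_le_of_lt Nat.and_le_right (by norm_num)

theorem walk_sound (hy : S.Hyp g H) {i : ℕ} (hU : S.Upto g H i) {u n p c t : ℕ}
    (h : S.walk (Nat.mul 2 i) u n p c t = true) : S.Ed g H c (evp g t) u := by
  induction n generalizing p c t with
  | zero =>
    have h' : (Nat.beq c u && Nat.beq t 0) = true := h
    simp only [Bool.and_eq_true, Nat.beq_eq] at h'
    rw [h'.1, h'.2, evp_zero]; simp [Ed, H.one_mem]
  | succ n ih =>
    have hnx : ∀ y c', Bool.rec (motive := fun _ => Bool) (Bool.rec false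
        (S.walk (Nat.mul 2 i) u n (Nat.shiftRight p 24) c' (Nat.shiftRight t 8))
        (Nat.beq (Nat.land t 255) y)) (S.walk (Nat.mul 2 i) u n (Nat.shiftRight p 24) c' t)
        (Nat.beq y 0) = true → S.Ed g H c (g y) c' → S.Ed g H c (evp g t) u := by
      intro y c' h1 h2
      cases hy0 : Nat.beq y 0
      · rw [hy0] at h1
        cases hy1 : Nat.beq (Nat.land t 255) y
        · rw [hy1] at h1; exact absurd h1 (by simp)
        · rw [hy1] at h1
          have := h2.trans (ih h1)
          rwa [← Nat.eq_of_beq_eq_true hy1, land_eq, shr_eq, and_255, shr_8, ← evp_step hy.zero] at this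
      · rw [hy0] at h1
        have := h2.trans (ih h1)
        rwa [Nat.eq_of_beq_eq_true hy0, hy.zero, one_mul] at this
    unfold walk at h
    simp only at h
    generalize Nat.land p 0xffffff = ρ at h
    cases h1 : Nat.ble (Nat.mul 2 i) ρ
    · rw [h1] at h
      have hρ : Nat.shiftRight ρ 1 < i := by
        have : ¬ 2 * i ≤ ρ := fun hh => by
          rw [show Nat.mul 2 i = 2 * i from rfl, Nat.ble_eq_true_of_le hh] at h1; exact absurd h1 (by simp)
        rw [shr_eq, Nat.shiftRight_eq_div_pow]; omega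
      have hf := hU _ hρ
      generalize S.fact (Nat.shiftRight ρ 1) = f at h hf
      cases h2 : Nat.beq (Nat.land ρ 1) 0
      · rw [h2] at h
        cases h3 : Nat.beq (fv f) c
        · rw [h3] at h; exact absurd h (by simp)
        · rw [h3] at h
          refine hnx _ _ h ?_
          rw [hy.inv _ (fx_lt f), ← Nat.eq_of_beq_eq_true h3]; exact hf.symm
      · rw [h2] at h
        cases h3 : Nat.beq (fu f) c
        · rw [h3] at h; exact absurd h (by simp)
        · rw [h3] at h
          refine hnx _ _ h ?_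
          rw [← Nat.eq_of_beq_eq_true h3]; exact hf
    · rw [h1] at h; exact absurd h (by simp)

theorem check_sound (hy : S.Hyp g H) {i p : ℕ} (hU : S.Upto g H i) (h : S.check i p = true) :
    S.Ed g H (fu (S.fact i)) (g (fx (S.fact i))) (fv (S.fact i)) := by
  unfold check at h
  generalize Nat.land (Nat.shiftRight p 12) 0xfffff = c at h
  rcases c with _ | _ | c
  · have h' : (Nat.beq (fv (S.fact i)) i && Nat.blt (fu (S.fact i)) i) = true := h
    simp only [Bool.and_eq_true, Nat.beq_eq, Nat.blt_eq] at h'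
    unfold Ed
    rw [h'.1]
    conv => enter [2, 2, 1]; rw [wt, dif_pos h']
    simp [H.one_mem]
  · have h' : (Nat.ble (S.fact i) 255 && memL (S.fact i) S.AX) = true := h
    rw [Bool.and_eq_true] at h'
    have h1 := Nat.le_of_ble_eq_true h'.1
    have h2 := hy.ax _ (memL_sound h'.2)
    generalize S.fact i = f at h1 h2
    have e1 : fx f = f := by rw [fx, land_eq, and_255]; omega
    have e2 : fu f = 0 := by rw [fu, shr_eq, shr_8, show f / 256 = 0 by omega]; rfl
    have e3 : fv f = 0 := by rw [fv, shr_eq, Nat.shiftRight_eq_div_pow]; omega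
    rw [e1, e2, e3, Ed, wt_zero]; simpa using h2
  · have hr := hy.rel (Nat.land c 1023)
    simp only [Nat.rec_add_one] at h
    generalize S.RT.lf (Nat.land c 1023) = e at h hr
    generalize Nat.shiftRight c 10 = r at h
    cases h1 : Nat.ble r (Nat.land e 4095)
    · rw [h1] at h; exact absurd h (by simp)
    · rw [h1] at h
      have h2 := hr r (Nat.le_of_ble_eq_true h1)
      change evp g (Nat.land (Nat.shiftRight e (Nat.add 12 (Nat.mul 8 r)))
        (Nat.sub (Nat.pow 2 (Nat.mul 8 (Nat.land e 4095))) 1)) = 1 at h2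
      generalize Nat.land (Nat.shiftRight e (Nat.add 12 (Nat.mul 8 r)))
        (Nat.sub (Nat.pow 2 (Nat.mul 8 (Nat.land e 4095))) 1) = t at h h2
      cases h3 : Nat.beq (fx (S.fact i)) 0
      · rw [h3] at h
        cases h4 : Nat.beq (Nat.land t 255) (fx (S.fact i))
        · rw [h4] at h; exact absurd h (by simp)
        · rw [h4] at h
          have h5 := (walk_sound hy hU h).symm
          rw [evp_step hy.zero, ← and_255, ← shr_8] at h2
          rwa [← Nat.eq_of_beq_eq_true h4, land_eq, eq_inv_of_mul_eq_one_left h2]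
      · rw [h3] at h
        have h5 := (walk_sound hy hU h).symm
        rwa [Nat.eq_of_beq_eq_true h3, hy.zero, ← inv_one, ← h2]

theorem upto_zero : S.Upto g H 0 := fun _ hi => absurd hi (by simp)

theorem Upto.step (hy : S.Hyp g H) {ps : List ℕ} {i n : ℕ} (hU : S.Upto g H i)
    (h : S.checks ps i n = true) : S.Upto g H n := by
  induction ps generalizing i with
  | nil => rw [← Nat.eq_of_beq_eq_true h]; exact hU
  | cons p ps ih =>
    have h' : Bool.rec (motive := fun _ => Bool) false (S.checks ps (i + 1) n) (S.check i p) = true := h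
    cases h1 : S.check i p
    · rw [h1] at h'; exact absurd h' (by simp)
    · rw [h1] at h'
      refine ih (fun j hj => ?_) h'
      rcases Nat.lt_succ_iff_lt_or_eq.1 hj with hj | rfl
      · exact hU j hj
      · exact check_sound hy hU h1

theorem Upto.mem {n : ℕ} (hU : S.Upto g H n) {i : ℕ} (hi : i < n) (h1 : S.fact i ≤ 255) :
    g (S.fact i) ∈ H := by
  have := hU i hi
  generalize S.fact i = f at h1 this
  have e1 : fx f = f := by rw [fx, land_eq, and_255]; omega
  have e2 : fu f = 0 := by rw [fu, shr_eq, shr_8, show f / 256 = 0 by omega]; rfl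
  have e3 : fv f = 0 := by rw [fv, shr_eq, Nat.shiftRight_eq_div_pow]; omega
  rw [e1, e2, e3, Ed, wt_zero] at this; simpa using this

variable (S)

/-- The words `W` are the words of the letters of the last facts below `n`, read downwards. -/
noncomputable def goals (W : List (List ℕ)) (n : ℕ) : Bool :=
  List.rec (motive := fun _ => ℕ → Bool) (fun _ => true)
    (fun u _ ih n => Nat.rec false (fun i _ => Nat.ble (S.fact i) 255 &&
      (beqL (nth [] S.ds (S.fact i)) u && ih i)) n) W n

/-- The test of an entry of the table of relators. -/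
noncomputable def entOK (I : List ℕ) (R : List (List ℕ)) (e : ℕ) : Bool :=
  (fun n => (fun w => Nat.beq (Nat.shiftRight e 12) (Nat.add w (Nat.mul (Nat.pow 256 n) w)) &&
    trivW I R (expand S.ds (unp n w))) (Nat.mod (Nat.shiftRight e 12) (Nat.pow 256 n)))
    (Nat.land e 4095)

/-- The test of the hypotheses; `Sub` lists words known to lie in the subgroup. -/
noncomputable def hypOK (I : List ℕ) (R Sub : List (List ℕ)) : Bool :=
  (allL I fun a => memLL [a, a] R) && (beqL (nth [] S.ds 0) [] &&
    (S.RT.allLf (S.entOK I R) &&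
    ((allLt 256 fun x => beqL (red I (expand S.ds [field 8 255 S.iT x, x])) []) &&
      allL S.AX fun x => memLL (nth [] S.ds x) Sub)))

variable {S}

theorem hypOK_sound {γ : ℕ → G} {I : List ℕ} {R Sub : List (List ℕ)} (hR : Holds (ext γ) R)
    (hS : ∀ u ∈ Sub, ev (ext γ) u ∈ H) (h : S.hypOK I R Sub = true) :
    S.Hyp (der (ext γ) S.ds) H := by
  unfold hypOK at h
  simp only [Bool.and_eq_true] at h
  obtain ⟨h1, h2, h3, h4, h5⟩ := h
  have hI := invol_sound hR h1
  have h0 : der (ext γ) S.ds 0 = 1 := by rw [der, beqL_sound h2]; rfl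
  refine ⟨h0, fun j r hr => ?_, fun x hx => ?_, fun x hx => hS _ (memLL_sound (allL_iff.1 h5 x hx))⟩
  · have := Tab.allLf_lf h3 j
    generalize S.RT.lf j = e at this hr
    unfold entOK at this
    simp only [Bool.and_eq_true, Nat.beq_eq, land_eq, shr_eq] at this
    generalize e &&& 4095 = n at this hr
    have hw : Nat.mod (e >>> 12) (Nat.pow 256 n) < 256 ^ n := Nat.mod_lt _ (Nat.pow_pos (by norm_num))
    generalize Nat.mod (e >>> 12) (Nat.pow 256 n) = w at this hw
    have h6 := trivW_sound hI hR this.2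
    rw [ev_expand, ev_unp h0 n hw] at h6
    rw [Nat.shiftRight_add, this.1, Nat.and_two_pow_sub_one_eq_mod, Nat.shiftRight_eq_div_pow,
      pow_mul, pow_mul]
    exact evp_rot h0 hw h6 hr
  · have := beqL_sound (allLt_iff.1 h4 x hx)
    have h6 := ev_red hI (expand S.ds [field 8 255 S.iT x, x])
    rw [this, ev_expand] at h6
    simp only [ev_nil, ev_cons, mul_one] at h6
    exact eq_inv_of_mul_eq_one_left h6.symm

theorem Upto.goals {γ : ℕ → G} {n : ℕ} (hU : S.Upto (der (ext γ) S.ds) H n) {W : List (List ℕ)}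
    (h : S.goals W n = true) : ∀ u ∈ W, ev (ext γ) u ∈ H := by
  induction W generalizing n with
  | nil => simp
  | cons u W ih =>
    cases n with
    | zero => exact absurd h (by simp [STC.goals])
    | succ i =>
      have h' : (Nat.ble (S.fact i) 255 && (beqL (nth [] S.ds (S.fact i)) u && S.goals W i)) = true := h
      simp only [Bool.and_eq_true] at h'
      intro v hv
      rcases List.mem_cons.1 hv with rfl | hv
      · have := hU.mem (Nat.lt_succ_self i) (Nat.le_of_ble_eq_true h'.1)
        rwa [der, beqL_sound h'.2.1] at this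
      · exact ih (fun j hj => hU j (by omega)) h'.2.2 v hv

end STC

theorem forall_mem_append' {α : Type} {p : α → Prop} {l l' : List α} (h : ∀ a ∈ l, p a)
    (h' : ∀ a ∈ l', p a) : ∀ a ∈ l ++ l', p a := List.forall_mem_append.2 ⟨h, h'⟩

end Cfsg.Agent.CGT
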