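import Cfsg.Agent.CGT.Search

set_option autoImplicit false

/-! Long orbit computations in several pieces. -/

namespace Cfsg.Agent.CGT

theorem grow_step {ns : List Net} {S : List (List ℕ)} {a b : List ℕ} {O O₁ O₂ : ℕ}
    (h : Nat.beq (grow ns S a O) O₁ = true) (h' : grow ns S b O₁ = O₂) :
    grow ns S (a ++ b) O = O₂ := by
  rw [← h', ← Nat.eq_of_beq_eq_true h]
  clear h h'
  induction a generalizing O with
  | nil => rfl
  | cons c a ih => rw [List.cons_append, grow_cons, grow_cons, ih]

theorem Level.ok_split {k : ℕ} {ns : List Net} {ts : List Tab} {L F : List ℕ} {l : Level}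
    (h1 : (ptsOK k F && (wordsIn L l.S && ((allL l.S fun u => fixesB k ts u F) &&
      (Nat.ble l.b (msk k) && Nat.beq (popc (Nat.sub k 3) l.O) l.n)))) = true)
    (h2 : grow ns l.S l.cs (Nat.shiftLeft 1 l.b) = l.O) :
    (ptsOK k F && (wordsIn L l.S && l.ok k ns ts F)) = true := by
  simp only [Level.ok, h2, Bool.and_eq_true, Nat.beq_eq, true_and] at h1 ⊢
  exact h1

noncomputable def Srch.coverF (ns : List Net) (w : List ℕ) (R X n : ℕ) : ℕ :=
  Nat.rec X (fun _ ih => frc ih (Nat.lor R (gatW ns w ih))) n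

theorem Srch.cover_step {ns : List Net} {w : List ℕ} {R X Y n m : ℕ}
    (h : Srch.cover ns w R n = X) (h' : Nat.beq (Srch.coverF ns w R X m) Y = true) :
    Srch.cover ns w R (n + m) = Y := by
  rw [← Nat.eq_of_beq_eq_true h', ← h]
  clear h h'
  induction m with
  | zero => rfl
  | succ m ih =>
    show frc (Srch.cover ns w R (n + m)) (Nat.lor R (gatW ns w (Srch.cover ns w R (n + m)))) = _
    rw [ih]; rfl

theorem Srch.cover_fin {ns : List Net} {w : List ℕ} {R R' Y O n : ℕ} (e : Nat.beq R R' = true)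
    (h : Srch.cover ns w R' n = Y) (h' : Nat.beq (Nat.land O Y) O = true) :
    Nat.beq (Nat.land O (Srch.cover ns w R n)) O = true := by
  rw [Nat.eq_of_beq_eq_true e, h, h']

end Cfsg.Agent.CGT
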