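import Cfsg.Agent.CGT.Closure

set_option autoImplicit false

/-! Packed look-up tables for the permutations given by swap networks. -/

namespace Cfsg.Agent.CGT

open Equiv

/-- Concatenate chunks of `B` bits (only used to write large numbers). -/
noncomputable def cat (B : ℕ) (l : List ℕ) : ℕ :=
  List.rec 0 (fun a _ ih => Nat.lor a (Nat.shiftLeft ih B)) l

/-- `2^c` copies of `x` at distance `S`. -/
noncomputable def rep (S c x : ℕ) : ℕ :=
  Nat.rec x (fun e ih => Nat.lor ih (Nat.shiftLeft ih (Nat.mul S (Nat.pow 2 e)))) c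

theorem rep_succ (S e x : ℕ) : rep S (e + 1) x = rep S e x ||| (rep S e x <<< (S * 2 ^ e)) := rfl

theorem testBit_rep {S x : ℕ} (hx : x < 2 ^ S) (c b t : ℕ) (ht : t < S) :
    (rep S c x).testBit (b * S + t) = (decide (b < 2 ^ c) && x.testBit t) := by
  induction c generalizing b with
  | zero =>
    show x.testBit _ = _
    rcases Nat.eq_zero_or_pos b with rfl | hb
    · simp
    · have h1 : ¬ b < 2 ^ 0 := by omega
      have h2 : S ≤ b * S + t := by nlinarith
      rw [Nat.testBit_lt_two_pow (lt_of_lt_of_le hx (Nat.pow_le_pow_right (by norm_num) h2))]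
      simp only [h1, decide_false, Bool.false_and]
  | succ e ih =>
    have hp : 2 ^ (e + 1) = 2 ^ e + 2 ^ e := by rw [pow_succ]; omega
    rw [rep_succ, Nat.testBit_or, Nat.testBit_shiftLeft, ih]
    by_cases hb : b < 2 ^ e
    · have h1 : ¬ b * S + t ≥ S * 2 ^ e := by
        have : (b + 1) * S ≤ 2 ^ e * S := Nat.mul_le_mul_right _ hb
        nlinarith
      have h2 : b < 2 ^ (e + 1) := by omega
      simp [hb, h1, h2]
    · obtain ⟨d, rfl⟩ : ∃ d, b = 2 ^ e + d := ⟨b - 2 ^ e, by omega⟩
      have h1 : (2 ^ e + d) * S + t ≥ S * 2 ^ e := by nlinarith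
      have h2 : (2 ^ e + d) * S + t - S * 2 ^ e = d * S + t := by
        have : (2 ^ e + d) * S + t = S * 2 ^ e + (d * S + t) := by ring
        omega
      have h3 : (2 ^ e + d < 2 ^ (e + 1)) ↔ d < 2 ^ e := by omega
      rw [h2, ih]
      simp [h1, h3]

/-- One level of spreading bits out to distance `w`. -/
noncomputable def dilStep (k w e x : ℕ) : ℕ :=
  (fun h M => Nat.lor (Nat.land x M) (Nat.shiftLeft (Nat.land (Nat.shiftRight x h) M) (Nat.mul w h)))
    (Nat.pow 2 e)
    (rep (Nat.mul w (Nat.pow 2 (Nat.succ e))) (Nat.sub k (Nat.succ e)) (Nat.sub (Nat.pow 2 (Nat.pow 2 e)) 1))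

/-- Spread the `2^k` bits of `x` out to distance `w`. -/
noncomputable def dil (k w e x : ℕ) : ℕ :=
  Nat.rec (motive := fun _ => ℕ → ℕ) (fun x => x)
    (fun e ih x => (fun y => frc y (ih y)) (dilStep k w e x)) e x

theorem dil_succ (k w e x : ℕ) : dil k w (e + 1) x = dil k w e (dilStep k w e x) :=
  frc_eq (dilStep k w e x) _

/-- The state of the spreading at level `e`. -/
def DilInv (k w e y x : ℕ) : Prop :=
  ∀ b t, t < w * 2 ^ e → x.testBit (b * (w * 2 ^ e) + t) =
    (decide (b < 2 ^ (k - e)) && (decide (t < 2 ^ e) && y.testBit (b * 2 ^ e + t)))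

theorem dilStep_inv {k w e y x : ℕ} (hw : 1 ≤ w) (he : e + 1 ≤ k) (h : DilInv k w (e + 1) y x) :
    DilInv k w e y (dilStep k w e x) := by
  intro b t ht
  have hM : 2 ^ 2 ^ e - 1 < 2 ^ (w * 2 ^ (e + 1)) := by
    have h1 : 2 ^ e ≤ w * 2 ^ (e + 1) := by rw [pow_succ]; nlinarith [Nat.two_pow_pos e]
    have := Nat.pow_le_pow_right (show 0 < 2 by norm_num) h1
    have := Nat.two_pow_pos (2 ^ e)
    omega
  have hM' := testBit_rep hM (k - (e + 1))
  have hk : 2 ^ (k - e) = 2 * 2 ^ (k - (e + 1)) := by
    rw [show k - e = (k - (e + 1)) + 1 by omega, pow_succ]; ring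
  unfold DilInv at h
  show ((x &&& rep (w * 2 ^ (e + 1)) (k - (e + 1)) (2 ^ 2 ^ e - 1)) |||
    (((x >>> 2 ^ e) &&& rep (w * 2 ^ (e + 1)) (k - (e + 1)) (2 ^ 2 ^ e - 1)) <<<
      (w * 2 ^ e))).testBit _ = _
  generalize rep (w * 2 ^ (e + 1)) (k - (e + 1)) (2 ^ 2 ^ e - 1) = M at hM'
  rw [hk]
  have hp : 2 ^ (e + 1) = 2 * 2 ^ e := by rw [pow_succ]; ring
  rw [hp] at h hM'
  generalize 2 ^ (k - (e + 1)) = c at h hM'
  have hpos := Nat.two_pow_pos e
  simp only [Nat.testBit_two_pow_sub_one] at hM'
  generalize 2 ^ e = a at *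
  have hS : w * (2 * a) = 2 * (w * a) := by ring
  have haS : a ≤ w * a := Nat.le_mul_of_pos_left a hw
  rw [hS] at h hM'
  generalize w * a = S at *
  simp only [Nat.testBit_or, Nat.testBit_and, Nat.testBit_shiftLeft, Nat.testBit_shiftRight]
  rcases Nat.even_or_odd' b with ⟨d, rfl | rfl⟩
  · have e1 : 2 * d * S + t = d * (2 * S) + t := by ring
    have e2 : 2 * d * a + t = d * (2 * a) + t := by ring
    have h2 : (decide (2 * d * S + t ≥ S) && (x.testBit (a + (2 * d * S + t - S)) &&
        M.testBit (2 * d * S + t - S))) = false := by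
      rcases Nat.eq_zero_or_pos d with rfl | hd
      · have : ¬ 2 * 0 * S + t ≥ S := by omega
        simp only [this, decide_false, Bool.false_and]
      · obtain ⟨d', rfl⟩ : ∃ d', d = d' + 1 := ⟨d - 1, by omega⟩
        have e3 : 2 * (d' + 1) * S + t - S = d' * (2 * S) + (S + t) := by
          have : 2 * (d' + 1) * S + t = d' * (2 * S) + (S + t) + S := by ring
          omega
        rw [e3, hM' _ _ (by omega)]
        have : ¬ S + t < a := by omega
        simp [this]
    rw [h2, e1, e2, h _ _ (by omega), hM' _ _ (by omega)]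
    have e4 : (2 * d < 2 * c) ↔ d < c := by omega
    by_cases h3 : t < a
    · have : t < 2 * a := by omega
      by_cases h4 : d < c <;> simp [h3, this, e4, h4]
    · simp [h3]
  · have e1 : (2 * d + 1) * S + t = d * (2 * S) + (S + t) := by ring
    have e2 : (2 * d + 1) * a + t = d * (2 * a) + (a + t) := by ring
    have e3 : d * (2 * S) + (S + t) - S = d * (2 * S) + t := by omega
    have e5 : a + (d * (2 * S) + t) = d * (2 * S) + (a + t) := by ring
    have h1 : d * (2 * S) + (S + t) ≥ S := by omega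
    have h2 : ¬ S + t < a := by omega
    have e4 : (2 * d + 1 < 2 * c) ↔ d < c := by omega
    rw [e1, e2, e3, e5, hM' _ _ (show S + t < 2 * S by omega), hM' _ _ (show t < 2 * S by omega),
      h _ _ (show a + t < 2 * S by omega)]
    by_cases h3 : t < a
    · have : a + t < 2 * a := by omega
      by_cases h4 : d < c <;> simp [h1, h2, h3, this, e4, h4]
    · simp [h2, h3]

theorem dil_inv {k w e y x : ℕ} (hw : 1 ≤ w) (he : e ≤ k) (h : DilInv k w e y x) :
    DilInv k w 0 y (dil k w e x) := by
  induction e generalizing x with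
  | zero => exact h
  | succ e ih => rw [dil_succ]; exact ih (by omega) (dilStep_inv hw he h)

theorem testBit_dil {k w y : ℕ} (hw : 1 ≤ w) (hy : ∀ i, 2 ^ k ≤ i → y.testBit i = false)
    (b t : ℕ) (ht : t < w) :
    (dil k w k y).testBit (b * w + t) = (decide (t = 0) && y.testBit b) := by
  have h0 : DilInv k w k y y := by
    intro b t ht
    have h1 : 2 ^ k ≤ w * 2 ^ k := Nat.le_mul_of_pos_left _ hw
    rcases Nat.eq_zero_or_pos b with rfl | hb
    · by_cases h2 : t < 2 ^ k
      · simp [h2]
      · simp [h2, hy t (by omega)]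
    · have h2 : ¬ b < 2 ^ (k - k) := by simp; omega
      rw [hy _ (by nlinarith)]
      simp only [h2, decide_false, Bool.false_and]
  have := dil_inv hw le_rfl h0 b t (by simpa using ht)
  simp only [pow_zero, mul_one, Nat.sub_zero, Nat.lt_one_iff] at this
  rw [this]
  by_cases h1 : t = 0
  · subst h1
    by_cases h2 : b < 2 ^ k
    · simp [h2]
    · simp [h2, hy b (by omega)]
  · simp [h1]

/-- The packed table (fields of `w` bits) whose bit slices are `y 0, …, y (m-1)`. -/
noncomputable def packT (k w : ℕ) (y : ℕ → ℕ) (m : ℕ) : ℕ :=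
  Nat.rec 0 (fun j ih => frc ih (Nat.lor ih (Nat.shiftLeft (dil k w k (y j)) j))) m

theorem packT_succ (k w : ℕ) (y : ℕ → ℕ) (j : ℕ) :
    packT k w y (j + 1) = packT k w y j ||| (dil k w k (y j) <<< j) := frc_eq (packT k w y j) _

theorem testBit_packT {k w : ℕ} {y : ℕ → ℕ} (hy : ∀ j i, 2 ^ k ≤ i → (y j).testBit i = false)
    {m : ℕ} (hm : m ≤ w) (b t : ℕ) (ht : t < w) :
    (packT k w y m).testBit (b * w + t) = (decide (t < m) && (y t).testBit b) := by
  induction m with
  | zero => show (0 : ℕ).testBit _ = _; simp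
  | succ j ih =>
    rw [packT_succ, Nat.testBit_or, ih (by omega), Nat.testBit_shiftLeft]
    by_cases h1 : j ≤ t
    · have e1 : b * w + t - j = b * w + (t - j) := by omega
      have h2 : b * w + t ≥ j := by omega
      rw [e1, testBit_dil (by omega) (hy j) _ _ (by omega)]
      by_cases h3 : t = j
      · subst h3; simp
      · have h4 : ¬ t < j := by omega
        have h5 : ¬ t < j + 1 := by omega
        have h6 : ¬ t - j = 0 := by omega
        simp [h4, h5, h6]
    · have h4 : t < j := by omega
      have h5 : t < j + 1 := by omega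
      have h2 : (decide (b * w + t ≥ j) && (dil k w k (y j)).testBit (b * w + t - j)) = false := by
        rcases Nat.eq_zero_or_pos b with rfl | hb
        · have : ¬ 0 * w + t ≥ j := by omega
          simp only [this, decide_false, Bool.false_and]
        · obtain ⟨d, rfl⟩ : ∃ d, b = d + 1 := ⟨b - 1, by omega⟩
          have e3 : (d + 1) * w + t - j = d * w + (w + t - j) := by
            have : (d + 1) * w = d * w + w := by ring
            omega
          rw [e3, testBit_dil (by omega) (hy j) _ _ (by omega)]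
          have : ¬ w + t - j = 0 := by omega
          simp [this]
      rw [h2]
      simp [h4, h5]

/-- Field `i` of a packed table; `M = 2^w - 1`. -/
def field (w M T i : ℕ) : ℕ := Nat.land (Nat.shiftRight T (Nat.mul i w)) M

theorem testBit_field (w T i t : ℕ) :
    (field w (2 ^ w - 1) T i).testBit t = (decide (t < w) && T.testBit (i * w + t)) := by
  show ((T >>> (i * w)) &&& (2 ^ w - 1)).testBit t = _
  rw [Nat.testBit_and, Nat.testBit_shiftRight, Nat.testBit_two_pow_sub_one, Bool.and_comm]

/-- A table split into a binary tree of packed pieces. -/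
inductive Tab : Type
  | leaf (T : ℕ) : Tab
  | node (h : ℕ) (l r : Tab) : Tab
  | ident : Tab

namespace Tab

noncomputable def get (w M : ℕ) (t : Tab) (i : ℕ) : ℕ :=
  Tab.rec (motive := fun _ => ℕ → ℕ) (fun T i => field w M T i)
    (fun h _ _ il ir i => Bool.rec (il i) (ir (Nat.sub i h)) (Nat.ble h i)) (fun i => i) t i

/-- Split a packed table with `2^(e+d)` fields `d` times. -/
noncomputable def split (w e d T : ℕ) : Tab :=
  Nat.rec (motive := fun _ => ℕ → Tab) (fun T => leaf T)
    (fun d ih T => (fun h => node h (ih (Nat.land T (Nat.sub (Nat.pow 2 (Nat.mul h w)) 1)))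
      (ih (Nat.shiftRight T (Nat.mul h w)))) (Nat.pow 2 (Nat.add e d))) d T

theorem get_node (w M h : ℕ) (l r : Tab) (i : ℕ) :
    get w M (node h l r) i = if h ≤ i then get w M r (i - h) else get w M l i := by
  show Bool.rec (motive := fun _ => ℕ) (get w M l i) (get w M r (i - h)) (Nat.ble h i) = _
  by_cases hh : h ≤ i
  · rw [if_pos hh, Nat.ble_eq_true_of_le hh]
  · have : Nat.ble h i = false := by
      cases hb : Nat.ble h i
      · rfl
      · exact absurd (Nat.le_of_ble_eq_true hb) hh
    rw [if_neg hh, this]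

theorem get_split (w e d T i : ℕ) :
    get w (2 ^ w - 1) (split w e d T) i = field w (2 ^ w - 1) T i := by
  induction d generalizing T i with
  | zero => rfl
  | succ d ih =>
    show get w _ (node (2 ^ (e + d)) (split w e d (T &&& (2 ^ (2 ^ (e + d) * w) - 1)))
      (split w e d (T >>> (2 ^ (e + d) * w)))) i = _
    generalize 2 ^ (e + d) = h
    rw [get_node]
    apply Nat.eq_of_testBit_eq
    intro t
    split_ifs with hh
    · rw [ih, testBit_field, testBit_field, Nat.testBit_shiftRight]
      obtain ⟨d, rfl⟩ := Nat.exists_eq_add_of_le hh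
      congr 2
      rw [Nat.add_sub_cancel_left]; ring
    · rw [ih, testBit_field, testBit_field, Nat.testBit_and, Nat.testBit_two_pow_sub_one]
      by_cases ht : t < w
      · have : (i + 1) * w ≤ h * w := Nat.mul_le_mul_right _ (by omega)
        have : i * w + t < h * w := by nlinarith
        simp [this]
      · simp [ht]

noncomputable def beq (t t' : Tab) : Bool :=
  Tab.rec (motive := fun _ => Tab → Bool)
    (fun T t' => Tab.rec (fun T' => Nat.beq T T') (fun _ _ _ _ _ => false) false t')
    (fun h _ _ il ir t' => Tab.rec (fun _ => false)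
      (fun h' l' r' _ _ => Nat.beq h h' && (il l' && ir r')) false t') (fun _ => false) t t'

theorem beq_sound {t t' : Tab} (h : beq t t' = true) : t = t' := by
  induction t generalizing t' with
  | leaf T => cases t' with
    | leaf T' => exact congrArg _ (Nat.eq_of_beq_eq_true h)
    | node _ _ _ => exact absurd h (by simp [beq])
    | ident => exact absurd h (by simp [beq])
  | node a l r il ir => cases t' with
    | leaf T' => exact absurd h (by simp [beq])
    | node a' l' r' =>
      have h' : (Nat.beq a a' && (beq l l' && beq r r')) = true := h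
      simp only [Bool.and_eq_true, Nat.beq_eq] at h'
      rw [h'.1, il h'.2.1, ir h'.2.2]
    | ident => exact absurd h (by simp [beq])
  | ident => exact absurd h (by simp [beq])

end Tab

/-- The table of a letter: `2^k` fields of `k` bits, split `d` times. -/
noncomputable def mkTab (k d : ℕ) (ns : List Net) (a : ℕ) : Tab :=
  Tab.split k (Nat.sub k d) d (packT k k (fun j => gat ns a (sl j k)) k)

/-- The table `t` computes the permutation `p` below `2^k`. -/
def TabOK (k : ℕ) (p : Perm ℕ) (t : Tab) : Prop := ∀ i < 2 ^ k, t.get k (2 ^ k - 1) i = p i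

theorem mkTab_ok {k : ℕ} (d : ℕ) {ns : List Net} (hv : validAll (2 ^ k) ns = true) (a : ℕ) :
    TabOK k (lp ns a) (mkTab k d ns a) := by
  intro i hi
  have hp := lp_mem hv a
  have h1 := bddPerm_lt hp hi
  rw [mkTab, Tab.get_split]
  apply Nat.eq_of_testBit_eq
  intro t
  rw [testBit_field]
  by_cases ht : t < k
  · rw [testBit_packT _ le_rfl _ _ ht, testBit_gat hv, testBit_sl]
    · simp [ht, h1]
    · intro j i hi
      rw [testBit_gat hv, hp i hi, testBit_sl]
      have : ¬ i < 2 ^ k := by omega
      simp [this]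
  · have : 2 ^ k ≤ 2 ^ t := Nat.pow_le_pow_right (by norm_num) (by omega)
    rw [Nat.testBit_lt_two_pow (show lp ns a i < 2 ^ t by omega)]
    simp [ht]

theorem TabOK.inv {k : ℕ} {p : Perm ℕ} {t : Tab} (h : TabOK k p t) (hp : p * p = 1) :
    TabOK k p⁻¹ t := by
  rw [inv_eq_of_mul_eq_one_right hp]; exact h

/-- One table for every letter. -/
def TabsOK (k : ℕ) (p : ℕ → Perm ℕ) (ts : List Tab) : Prop :=
  ∀ a, TabOK k (p a) (nth Tab.ident ts a)

/-- The tables of all letters. -/
noncomputable def mkTabs (k d : ℕ) (ns : List Net) : List Tab :=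
  (List.range (2 * ns.length)).map (mkTab k d ns)

theorem lp_of_le (ns : List Net) {a : ℕ} (ha : 2 * ns.length ≤ a) : lp ns a = 1 := by
  have : netPerm ns (a / 2) = 1 := by
    rw [netPerm, nth_eq, List.getD_eq_default _ _ (by omega)]; rfl
  unfold lp ext
  rw [this]; simp

theorem tabsOK_of_forall {k : ℕ} {ns : List Net} {ts : List Tab} (hl : ts.length = 2 * ns.length)
    (h : ∀ a (ha : a < ts.length), TabOK k (lp ns a) ts[a]) : TabsOK k (lp ns) ts := by
  intro a
  rw [nth_eq]
  by_cases ha : a < ts.length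
  · rw [List.getD_eq_getElem _ _ ha]; exact h a ha
  · rw [List.getD_eq_default _ _ (by omega), lp_of_le ns (by omega)]
    intro i _; rfl

theorem mkTabs_ok {k : ℕ} (d : ℕ) {ns : List Net} (hv : validAll (2 ^ k) ns = true) :
    TabsOK k (lp ns) (mkTabs k d ns) :=
  tabsOK_of_forall (by simp [mkTabs]) fun a ha => by
    simp only [mkTabs, List.getElem_map, List.getElem_range]
    exact mkTab_ok d hv a

/-- Apply a word to a point; `M = 2^k - 1`. -/
noncomputable def ap (k M : ℕ) (ts : List Tab) (w : List ℕ) (i : ℕ) : ℕ :=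
  List.rec i (fun a _ ih => frc ih ((nth Tab.ident ts a).get k M ih)) w

theorem ap_cons (k M : ℕ) (ts : List Tab) (a : ℕ) (w : List ℕ) (i : ℕ) :
    ap k M ts (a :: w) i = (nth Tab.ident ts a).get k M (ap k M ts w i) := frc_eq (ap k M ts w i) _

theorem ap_eq {k : ℕ} {ns : List Net} (hv : validAll (2 ^ k) ns = true) {ts : List Tab}
    (ht : TabsOK k (lp ns) ts) (w : List ℕ) {i : ℕ} (hi : i < 2 ^ k) :
    ap k (2 ^ k - 1) ts w i = ev (lp ns) w i := by
  induction w with
  | nil => rfl
  | cons a w ih =>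
    rw [ap_cons, ih, ht a _ (bddPerm_lt (ev_lp_mem hv w) hi), ev_cons, Perm.mul_apply]

/-- Apply the inverse of a word to a point. -/
noncomputable def apI (k M : ℕ) (ts : List Tab) (w : List ℕ) (i : ℕ) : ℕ :=
  List.rec (motive := fun _ => ℕ → ℕ) (fun i => i)
    (fun a _ ih i => (fun y => frc y (ih y)) ((nth Tab.ident ts (Nat.xor a 1)).get k M i)) w i

theorem apI_cons (k M : ℕ) (ts : List Tab) (a : ℕ) (w : List ℕ) (i : ℕ) :
    apI k M ts (a :: w) i = apI k M ts w ((nth Tab.ident ts (a ^^^ 1)).get k M i) :=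
  frc_eq ((nth Tab.ident ts (Nat.xor a 1)).get k M i) _

theorem apI_eq {k : ℕ} {ns : List Net} (hv : validAll (2 ^ k) ns = true) {ts : List Tab}
    (ht : TabsOK k (lp ns) ts) (w : List ℕ) {i : ℕ} (hi : i < 2 ^ k) :
    apI k (2 ^ k - 1) ts w i = (ev (lp ns) w)⁻¹ i := by
  induction w generalizing i with
  | nil => rfl
  | cons a w ih =>
    rw [apI_cons, ht _ _ hi, ih (bddPerm_lt (lp_mem hv _) hi), ev_cons, mul_inv_rev,
      Perm.mul_apply, Enum.lp_xor_one]

/-- Apply a word in derived letters (each given by a word) to a point. -/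
noncomputable def apD (k M : ℕ) (ts : List Tab) (ds : List (List ℕ)) (w : List ℕ) (i : ℕ) : ℕ :=
  List.rec i (fun a _ ih => frc ih (ap k M ts (nth [] ds a) ih)) w

theorem apD_cons (k M : ℕ) (ts : List Tab) (ds : List (List ℕ)) (a : ℕ) (w : List ℕ) (i : ℕ) :
    apD k M ts ds (a :: w) i = ap k M ts (nth [] ds a) (apD k M ts ds w i) :=
  frc_eq (apD k M ts ds w i) _

/-- The values of derived letters. -/
noncomputable def der {G : Type*} [Monoid G] (g : ℕ → G) (ds : List (List ℕ)) (a : ℕ) : G :=
  ev g (nth [] ds a)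

theorem apD_eq {k : ℕ} {ns : List Net} (hv : validAll (2 ^ k) ns = true) {ts : List Tab}
    (ht : TabsOK k (lp ns) ts) (ds : List (List ℕ)) (w : List ℕ) {i : ℕ} (hi : i < 2 ^ k) :
    apD k (2 ^ k - 1) ts ds w i = ev (der (lp ns) ds) w i := by
  induction w with
  | nil => rfl
  | cons a w ih =>
    have : ev (der (lp ns) ds) w ∈ bddPerm (2 ^ k) := ev_mem _ _ _ fun a _ => ev_lp_mem hv _
    rw [apD_cons, ih, ap_eq hv ht _ (bddPerm_lt this hi), ev_cons, Perm.mul_apply, der]

end Cfsg.Agent.CGT
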