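import Mathlib

set_option autoImplicit false

namespace Cfsg.Agent.CGT

/-- Evaluation of a word (a list of letters) under an assignment of the letters. -/
def ev {G : Type*} [Monoid G] (g : ℕ → G) (w : List ℕ) : G := (w.map g).prod

section
variable {G : Type*} [Monoid G] (g : ℕ → G)

@[simp] theorem ev_nil : ev g [] = 1 := rfl

@[simp] theorem ev_cons (a : ℕ) (w : List ℕ) : ev g (a :: w) = g a * ev g w := by
  simp [ev]

@[simp] theorem ev_append (u v : List ℕ) : ev g (u ++ v) = ev g u * ev g v := by
  simp [ev]

theorem ev_singleton (a : ℕ) : ev g [a] = g a := by simp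

theorem map_ev {H : Type*} [Monoid H] {F : Type*} [FunLike F G H] [MonoidHomClass F G H] (f : F)
    (w : List ℕ) : f (ev g w) = ev (fun a => f (g a)) w := by
  induction w with
  | nil => simp
  | cons a w ih => simp [ih]

theorem ev_congr {g g' : ℕ → G} {w : List ℕ} (h : ∀ a ∈ w, g a = g' a) : ev g w = ev g' w := by
  induction w with
  | nil => simp
  | cons a w ih =>
    simp only [ev_cons]
    rw [h a (by simp), ih (fun b hb => h b (by simp [hb]))]

/-- Substitution of words for letters. -/
theorem ev_flatMap (f : ℕ → List ℕ) (w : List ℕ) :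
    ev g (w.flatMap f) = ev (fun a => ev g (f a)) w := by
  induction w with
  | nil => simp
  | cons a w ih => simp [List.flatMap_cons, ih]

theorem ev_replicate_flatten (n : ℕ) (w : List ℕ) :
    ev g (List.replicate n w).flatten = ev g w ^ n := by
  induction n with
  | zero => simp
  | succ n ih => simp [List.replicate_succ, ih, pow_succ']

end

theorem ev_mem {G : Type*} [Group G] (g : ℕ → G) (H : Subgroup G) (w : List ℕ)
    (h : ∀ a ∈ w, g a ∈ H) : ev g w ∈ H := by
  induction w with
  | nil => simp [H.one_mem]
  | cons a w ih =>
    rw [ev_cons]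
    exact H.mul_mem (h a (by simp)) (ih fun b hb => h b (by simp [hb]))

/-- All the relators of the list hold under the assignment. -/
def Holds {G : Type*} [Monoid G] (g : ℕ → G) (R : List (List ℕ)) : Prop := ∀ r ∈ R, ev g r = 1

end Cfsg.Agent.CGT
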